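import Cfsg.Agent.OrthSubfield.Rational

/-!
# An irrational root element generates `Ω`

`M` lies in `Ω(Q)` and contains its elements that are rational up to a scalar.  If `M` contains an
Eichler element at a rational singular point whose translation vector is not rational, then the
coefficient ring is the whole field and `M = Ω(Q)`.
-/

set_option autoImplicit false
set_option linter.unusedSectionVars false

namespace CfsgLib.OrthSubfield

open Matrix Module CfsgLib.Spinor CfsgLib.Forms CfsgLib.Forms4 CfsgLib.MaxSub CfsgLib.OrthMax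
  Cfsg.Geo

variable {F : Type*} [Field F] [Fintype F] {ι : Type} [Fintype ι] [DecidableEq ι] {F₀ : Subfield F}
  [Fintype F₀] {Q : QuadraticForm F (ι → F)} {Q₀ : QuadraticForm F₀ (ι → F₀)}
  {M : Subgroup (Isom Q)}

set_option quotPrecheck false in
local notation "𝔅" => QuadraticMap.polar (⇑Q)

set_option quotPrecheck false in
local notation "𝔅₀" => QuadraticMap.polar (⇑Q₀)

variable (F₀) in
/-- The element is rational up to a scalar. -/
def InK (g : Isom Q) : Prop := (g : GL ι F) ∈ subfieldSubgroup F₀ (1 : GL ι F)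

theorem InK.mul {g k : Isom Q} (hg : InK F₀ g) (hk : InK F₀ k) : InK F₀ (g * k) := by
  unfold InK at *
  simpa using mul_mem hg hk

theorem InK.inv {g : Isom Q} (hg : InK F₀ g) : InK F₀ g⁻¹ := by
  unfold InK at *
  simpa using inv_mem hg

theorem InK.of_rat {g : Isom Q} (h : RatMat F₀ (mat Q g)) : InK F₀ g :=
  mem_subfieldSubgroup_one_of_rat h

/-- The setting of the dichotomy. -/
structure Setting (M : Subgroup (Isom Q)) (Q₀ : QuadraticForm F₀ (ι → F₀)) : Prop where
  data : Data F₀ Q Q₀
  le_omega : M ≤ Cfsg.Omega F ⇑Q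
  lower : ∀ g ∈ Cfsg.Omega F ⇑Q, InK F₀ g → g ∈ M

/-- The Eichler element at `e` does not see multiples of `e`. -/
theorem eich_add_smul {u w : ι → F} (hu : Q u = 0) (huw : 𝔅 u w = 0) (k : F) :
    eich Q u (w + k • u) = eich Q u w := by
  refine Matrix.ext_iff_mulVec.2 fun x => ?_
  rw [eich_mulVec, eich_mulVec, QuadraticMap.map_add (⇑Q), QuadraticMap.map_smul, hu,
    QuadraticMap.polar_smul_right, QuadraticMap.polar_comm (⇑Q) w u, huw,
    QuadraticMap.polar_add_left, QuadraticMap.polar_smul_left]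
  simp only [smul_zero, add_zero, smul_eq_mul]
  module

theorem rootMem_add_smul {u w : ι → F} (hu : Q u = 0) (huw : 𝔅 u w = 0) (k : F) :
    RootMem M u (w + k • u) ↔ RootMem M u w := by
  simp only [RootMem, eich_add_smul hu huw k]

variable (Q₀) in
/-- Every root element of `M` at a rational point is rational. -/
def Rigid (M : Subgroup (Isom Q)) : Prop :=
  ∀ e : ι → F₀, e ≠ 0 → Q₀ e = 0 → ∀ w, 𝔅 (up e) w = 0 → RootMem M (up e) w →
    ∃ (v : ι → F₀) (k : F), w = up v + k • up e

variable (Q₀) in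
/-- `a` is a coefficient at `e`. -/
def Coef (M : Subgroup (Isom Q)) (e : ι → F₀) (a : F) : Prop :=
  ∀ y : ι → F₀, 𝔅₀ e y = 0 → RootMem M (up e) (a • up y)

namespace Setting

variable (hs : Setting M Q₀)
include hs

theorem card_ge : 5 ≤ Fintype.card ι := by have := hs.data.card; omega

theorem mem_of_rat {g : Isom Q} (hg : g ∈ Cfsg.Omega F ⇑Q) (h : RatMat F₀ (mat Q g)) : g ∈ M :=
  hs.lower g hg (InK.of_rat h)

theorem root_rat {u w : ι → F₀} (hu : Q₀ u = 0) (huw : 𝔅₀ u w = 0) :
    RootMem M (up u) (up w) :=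
  RootMem.of_iso (hs.data.quad_up_zero hu) (hs.data.polar_up_zero huw)
    (hs.mem_of_rat (eich_mem_omega hs.data.nd hs.card_ge _ _) (hs.data.ratMat_eich u w))

theorem coef_neg {e : ι → F₀} (he : Q₀ e = 0) {a : F} (h : Coef Q₀ M e a) : Coef Q₀ M e (-a) :=
  fun y hy => by
    rw [neg_smul]
    exact RootMem.neg (hs.data.quad_up_zero he)
      (by rw [QuadraticMap.polar_smul_right, hs.data.polar_up_zero hy, smul_zero]) (h y hy)

/-- One step: move the translation vector by a rational Eichler element fixing `e`. -/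
theorem coef_step {e t y : ι → F₀} (he : Q₀ e = 0) (het : 𝔅₀ e t = 0) (hyq : Q₀ y = 0)
    (hey : 𝔅₀ e y = 0) (hty : 𝔅₀ t y = 0) (ht : t ∉ Submodule.span F₀ ({e, y} : Set (ι → F₀)))
    {a : F} (h : RootMem M (up e) (a • up t)) : RootMem M (up e) (a • up y) := by
  obtain ⟨s, hsK, hsq, hst⟩ := hs.data.exists_sing_pair
    ((finrank_span_two_le e y).trans (by norm_num)) ht
  have hse : 𝔅₀ s e = 0 := by
    rw [QuadraticMap.polar_comm]; exact mem_qperp_span.1 hsK e (by simp)
  have hsy : 𝔅₀ s y = 0 := by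
    rw [QuadraticMap.polar_comm]; exact mem_qperp_span.1 hsK y (by simp)
  have hQ : ∀ {u : ι → F₀}, Q₀ u = 0 → Q (up u) = 0 := hs.data.quad_up_zero
  have hP : ∀ {u v : ι → F₀}, 𝔅₀ u v = 0 → 𝔅 (up u) (up v) = 0 := hs.data.polar_up_zero
  have hye : 𝔅₀ y e = 0 := by rw [QuadraticMap.polar_comm, hey]
  have hyt : 𝔅₀ y t = 0 := by rw [QuadraticMap.polar_comm, hty]
  have hk := (hs.root_rat hsq hsy).iso (hQ hsq) (hP hsy)
  have h' := h.conj hk
  rw [mat_eichIso, eich_mulVec (up s) (up y) (up e), hP hse, hP hye, mulVec_smul,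
    eich_mulVec (up s) (up y) (up t), hs.data.polar_up s t, hst, hP hyt, hQ hyq] at h'
  simp only [ZeroMemClass.coe_zero, OneMemClass.coe_one, one_smul, zero_smul, mul_zero, zero_mul,
    sub_zero, add_zero, smul_add] at h'
  have hy' : 𝔅 (up e) (a • up y) = 0 := by
    rw [QuadraticMap.polar_smul_right, hP hey, smul_zero]
  have ht' : 𝔅 (up e) (a • up t) = 0 := by
    rw [QuadraticMap.polar_smul_right, hP het, smul_zero]
  have h3 := h'.add (hQ he)
    (by rw [QuadraticMap.polar_add_right, ht', hy', add_zero])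
    (by rw [QuadraticMap.polar_neg_right, ht', neg_zero]) (h.neg (hQ he) ht')
  rwa [add_neg_cancel_comm] at h3

/-- A coefficient on one singular point is a coefficient. -/
theorem coef_of_one {e t : ι → F₀} (he0 : e ≠ 0) (he : Q₀ e = 0) (het : 𝔅₀ e t = 0)
    (htq : Q₀ t = 0) (hte : t ∉ Submodule.span F₀ {e}) {a : F}
    (h : RootMem M (up e) (a • up t)) : Coef Q₀ M e a := by
  have hsing : ∀ y : ι → F₀, Q₀ y = 0 → 𝔅₀ e y = 0 → RootMem M (up e) (a • up y) := by
    intro y hy hey
    by_cases hye : y ∈ Submodule.span F₀ {e}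
    · obtain ⟨c, rfl⟩ := Submodule.mem_span_singleton.1 hye
      rw [up_smul, smul_smul, ← zero_add ((a * (c : F)) • up e),
        rootMem_add_smul (hs.data.quad_up_zero he) (by simp)]
      exact RootMem.zero
    by_cases hty : 𝔅₀ t y = 0
    · by_cases htS : t ∈ Submodule.span F₀ ({e, y} : Set (ι → F₀))
      · obtain ⟨t', ht'K, ht'S, ht'q⟩ := hs.data.exists_sing_outside
          (S := Submodule.span F₀ {e, t}) (finrank_span_two_le e t)
        have h1 := mem_qperp_span.1 ht'K
        have hle : Submodule.span F₀ ({e, t} : Set (ι → F₀)) = Submodule.span F₀ {e, y} := by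
          refine Submodule.eq_of_le_of_finrank_le (Submodule.span_le.2 ?_) ?_
          · simp [Set.insert_subset_iff, htS, Submodule.subset_span (show e ∈ ({e, y} : Set (ι → F₀)) by simp)]
          · refine (finrank_span_two_le e y).trans ?_
            have hlt : Submodule.span F₀ {e} < Submodule.span F₀ ({e, t} : Set (ι → F₀)) :=
              lt_of_le_of_ne (Submodule.span_mono (by simp)) fun h0 =>
                hte (h0 ▸ Submodule.subset_span (by simp))
            have h3 := Submodule.finrank_lt_finrank_of_lt hlt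
            rw [finrank_span_singleton he0] at h3
            exact h3
        have ht'y : 𝔅₀ t' y = 0 := by
          have h2 : y ∈ Submodule.span F₀ ({e, t} : Set (ι → F₀)) :=
            hle ▸ Submodule.subset_span (by simp)
          rw [QuadraticMap.polar_comm]
          exact mem_qperp.1 ht'K y h2
        refine hs.coef_step he (h1 e (by simp)) hy hey ht'y (fun hm => ht'S (hle ▸ hm))
          (hs.coef_step he het ht'q (h1 e (by simp)) (h1 t (by simp)) (fun hm => ?_) h)
        obtain ⟨c, d, hcd⟩ := Submodule.mem_span_pair.1 hm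
        by_cases hd : d = 0
        · rw [hd, zero_smul, add_zero] at hcd
          exact hte (Submodule.mem_span_singleton.2 ⟨c, hcd⟩)
        · refine ht'S ?_
          have e1 : t' = d⁻¹ • (t - c • e) := by
            rw [← hcd, add_sub_cancel_left, smul_smul, inv_mul_cancel₀ hd, one_smul]
          rw [e1]
          exact Submodule.smul_mem _ _ (Submodule.sub_mem _ (Submodule.subset_span (by simp))
            (Submodule.smul_mem _ _ (Submodule.subset_span (by simp))))
      · exact hs.coef_step he het hy hey hty htS h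
    obtain ⟨t', ht'K, ht'S, ht'q⟩ := hs.data.exists_sing_outside'
      (S := Submodule.span F₀ {e, t, y}) (hs.data.finrank_rad_le htq hy het hey hty)
    have h1 := mem_qperp_span.1 ht'K
    have het' : 𝔅₀ e t' = 0 := h1 e (by simp)
    have htt' : 𝔅₀ t t' = 0 := h1 t (by simp)
    have ht'y : 𝔅₀ t' y = 0 := by rw [QuadraticMap.polar_comm]; exact h1 y (by simp)
    have hmem : ∀ z ∈ ({e, t, y} : Set (ι → F₀)), z ∈ Submodule.span F₀ {e, t, y} :=
      fun z hz => Submodule.subset_span hz
    refine hs.coef_step he het' hy hey ht'y (fun hm => ht'S ?_)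
      (hs.coef_step he het ht'q het' htt' (fun hm => ?_) h)
    · obtain ⟨c, d, rfl⟩ := Submodule.mem_span_pair.1 hm
      exact Submodule.add_mem _ (Submodule.smul_mem _ _ (hmem e (by simp)))
        (Submodule.smul_mem _ _ (hmem y (by simp)))
    · obtain ⟨c, d, hcd⟩ := Submodule.mem_span_pair.1 hm
      by_cases hd : d = 0
      · rw [hd, zero_smul, add_zero] at hcd
        exact hte (Submodule.mem_span_singleton.2 ⟨c, hcd⟩)
      · refine ht'S ?_
        have e1 : t' = d⁻¹ • (t - c • e) := by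
          rw [← hcd, add_sub_cancel_left, smul_smul, inv_mul_cancel₀ hd, one_smul]
        rw [e1]
        exact Submodule.smul_mem _ _ (Submodule.sub_mem _ (hmem t (by simp))
          (Submodule.smul_mem _ _ (hmem e (by simp))))
  intro y hey
  by_cases hye : y ∈ Submodule.span F₀ {e}
  · obtain ⟨c, rfl⟩ := Submodule.mem_span_singleton.1 hye
    exact hsing _ (by rw [QuadraticMap.map_smul, he, smul_zero]) hey
  obtain ⟨q, hqK, hqq, hqy⟩ := hs.data.exists_sing_pair
    (S := Submodule.span F₀ {e}) (by rw [finrank_span_singleton he0]; norm_num) hye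
  have heq : 𝔅₀ e q = 0 := mem_qperp_singleton.1 hqK
  have hne : 𝔅₀ y q ≠ 0 := by rw [QuadraticMap.polar_comm, hqy]; exact one_ne_zero
  set c := Q₀ y / 𝔅₀ y q
  have e1 : a • up y = a • up (y - c • q) + a • up (c • q) := by
    rw [← smul_add, ← up_add, sub_add_cancel]
  have h0 : ∀ z, 𝔅₀ e z = 0 → 𝔅 (up e) (a • up z) = 0 := fun z hz => by
    rw [QuadraticMap.polar_smul_right, hs.data.polar_up_zero hz, smul_zero]
  have h1 : 𝔅₀ e (c • q) = 0 := by rw [QuadraticMap.polar_smul_right, heq, smul_zero]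
  have h2 : 𝔅₀ e (y - c • q) = 0 := by rw [QuadraticMap.polar_sub_right, h1, hey, sub_zero]
  rw [e1]
  exact (hsing _ (quad_sub_smul hqq hne) h2).add (hs.data.quad_up_zero he) (h0 _ h2) (h0 _ h1)
    (hsing _ (by rw [QuadraticMap.map_smul, hqq, smul_zero]) h1)

/-- A coefficient passes to orthogonal singular points. -/
theorem coef_orth {e y : ι → F₀} (he0 : e ≠ 0) (he : Q₀ e = 0) (hy : Q₀ y = 0)
    (hey : 𝔅₀ e y = 0) (hye : y ∉ Submodule.span F₀ {e}) {a : F} (h : Coef Q₀ M e a) :
    Coef Q₀ M y a := by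
  have hy0 : y ≠ 0 := fun h0 => hye (h0 ▸ Submodule.zero_mem _)
  have hey' : e ∉ Submodule.span F₀ {y} := fun hm => by
    obtain ⟨c, hc⟩ := Submodule.mem_span_singleton.1 hm
    refine hye (Submodule.mem_span_singleton.2 ⟨c⁻¹, ?_⟩)
    have hc0 : c ≠ 0 := fun h0 => he0 (by rw [← hc, h0, zero_smul])
    rw [← hc, smul_smul, inv_mul_cancel₀ hc0, one_smul]
  have h1 := (h y hey).swap (hs.data.quad_up_zero he)
    (by rw [QuadraticMap.map_smul, hs.data.quad_up_zero hy, smul_zero])
  rw [rootMem_smul_left, smul_neg, ← neg_smul] at h1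
  have h2 := hs.coef_neg hy (hs.coef_of_one hy0 hy (by rw [QuadraticMap.polar_comm, hey]) he hey' h1)
  simpa using h2

theorem coef_mul {e : ι → F₀} (he0 : e ≠ 0) (he : Q₀ e = 0) {a b : F}
    (ha : Coef Q₀ M e a) (hb : Coef Q₀ M e b) : Coef Q₀ M e (a * b) := by
  have hSe : finrank F₀ (Submodule.span F₀ {e}) ≤ 2 := by
    rw [finrank_span_singleton he0]; norm_num
  obtain ⟨w, hwK, hwe, hwq⟩ := hs.data.exists_sing_outside hSe
  have hew : 𝔅₀ e w = 0 := mem_qperp_singleton.1 hwK
  obtain ⟨w', hw'K, hw'q, hw'w⟩ := hs.data.exists_sing_pair hSe hwe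
  have hew' : 𝔅₀ e w' = 0 := mem_qperp_singleton.1 hw'K
  have hw'e : w' ∉ Submodule.span F₀ {e} := fun hm => by
    obtain ⟨c, rfl⟩ := Submodule.mem_span_singleton.1 hm
    rw [QuadraticMap.polar_smul_left, hew, smul_zero] at hw'w
    exact zero_ne_one hw'w
  obtain ⟨y, hyK, hyS, hyq⟩ := hs.data.exists_sing_outside'
    (S := Submodule.span F₀ {e, w, w'}) (hs.data.finrank_rad_le hwq hw'q hew hew'
      (by rw [QuadraticMap.polar_comm, hw'w]; exact one_ne_zero))
  have h1 := mem_qperp_span.1 hyK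
  have hey : 𝔅₀ e y = 0 := h1 e (by simp)
  have hwy : 𝔅₀ w y = 0 := h1 w (by simp)
  have hw'y : 𝔅₀ w' y = 0 := h1 w' (by simp)
  have hye : y ∉ Submodule.span F₀ {e} := fun hm =>
    hyS (Submodule.span_mono (by simp) hm)
  have hc := hs.coef_orth he0 he hw'q hew' hw'e ha
  have hQ : ∀ {u : ι → F₀}, Q₀ u = 0 → Q (up u) = 0 := hs.data.quad_up_zero
  have hP : ∀ {u v : ι → F₀}, 𝔅₀ u v = 0 → 𝔅 (up u) (up v) = 0 := hs.data.polar_up_zero
  have hay : 𝔅 (up w') (a • up y) = 0 := by
    rw [QuadraticMap.polar_smul_right, hP hw'y, smul_zero]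
  have hk := (hc y hw'y).iso (hQ hw'q) hay
  have hbw : 𝔅 (up e) (b • up w) = 0 := by
    rw [QuadraticMap.polar_smul_right, hP hew, smul_zero]
  have h' := (hb w hew).conj hk
  rw [mat_eichIso, eich_mulVec (up w') (a • up y) (up e), QuadraticMap.polar_smul_left,
    hP (u := w') (v := e) (by rw [QuadraticMap.polar_comm, hew']),
    hP (u := y) (v := e) (by rw [QuadraticMap.polar_comm, hey]), mulVec_smul,
    eich_mulVec (up w') (a • up y) (up w), hs.data.polar_up w' w, hw'w,
    QuadraticMap.polar_smul_left, hP (u := y) (v := w) (by rw [QuadraticMap.polar_comm, hwy]),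
    QuadraticMap.map_smul, hQ hyq] at h'
  simp only [OneMemClass.coe_one, zero_smul, smul_zero, mul_zero,
    zero_mul, one_mul, sub_zero, add_zero, smul_add, smul_smul] at h'
  have hy' : 𝔅 (up e) ((b * a) • up y) = 0 := by
    rw [QuadraticMap.polar_smul_right, hP hey, smul_zero]
  have h3 := h'.add (hQ he)
    (by rw [QuadraticMap.polar_add_right, hbw, hy', add_zero])
    (by rw [QuadraticMap.polar_neg_right, hbw, neg_zero]) ((hb w hew).neg (hQ he) hbw)
  rw [add_neg_cancel_comm, mul_comm b a] at h3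
  exact hs.coef_of_one he0 he hey hyq hye h3

/-- An irrational root element gives an irrational coefficient. -/
theorem exists_coef {e : ι → F₀} (he0 : e ≠ 0) (he : Q₀ e = 0) {w : ι → F}
    (hew : 𝔅 (up e) w = 0) (hw : RootMem M (up e) w)
    (hno : ¬ ∃ (v : ι → F₀) (k : F), w = up v + k • up e) :
    ∃ a ∉ F₀, Coef Q₀ M e a := by
  have hQ : ∀ {u : ι → F₀}, Q₀ u = 0 → Q (up u) = 0 := hs.data.quad_up_zero
  have hP : ∀ {u v : ι → F₀}, 𝔅₀ u v = 0 → 𝔅 (up u) (up v) = 0 := hs.data.polar_up_zero
  have hSe : finrank F₀ (Submodule.span F₀ {e}) ≤ 2 := by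
    rw [finrank_span_singleton he0]; norm_num
  obtain ⟨v, hvq, hev, hvw⟩ : ∃ v, Q₀ v = 0 ∧ 𝔅₀ e v = 0 ∧ 𝔅 (up v) w ∉ F₀ := by
    by_contra! hall
    have hperp : ∀ u, 𝔅₀ e u = 0 → 𝔅 (up u) w ∈ F₀ := by
      intro u hu
      by_cases hue : u ∈ Submodule.span F₀ {e}
      · obtain ⟨c, rfl⟩ := Submodule.mem_span_singleton.1 hue
        rw [up_smul, QuadraticMap.polar_smul_left, hew, smul_zero]
        exact F₀.zero_mem
      obtain ⟨q, hqK, hqq, hqu⟩ := hs.data.exists_sing_pair hSe hue
      have heq : 𝔅₀ e q = 0 := mem_qperp_singleton.1 hqK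
      have h1 := hall _ (quad_sub_smul hqq (x := u)
        (by rw [QuadraticMap.polar_comm, hqu]; exact one_ne_zero))
        (by rw [QuadraticMap.polar_sub_right, QuadraticMap.polar_smul_right, hu, heq, smul_zero,
          sub_zero])
      have h2 := hall q hqq heq
      rw [up_sub, up_smul, QuadraticMap.polar_sub_left, QuadraticMap.polar_smul_left,
        smul_eq_mul] at h1
      have h3 := F₀.add_mem h1 (F₀.mul_mem (Q₀ u / 𝔅₀ u q).2 h2)
      rwa [sub_add_cancel] at h3
    obtain ⟨f, -, -, hfe⟩ := hs.data.exists_sing_pair (S := (⊥ : Submodule F₀ (ι → F₀)))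
      (by simp) (by simpa using he0)
    have hef : 𝔅₀ e f = 1 := by rw [QuadraticMap.polar_comm, hfe]
    set k := 𝔅 (up f) w
    obtain ⟨v, hv⟩ := hs.data.rat_of_polar (x := w - k • up e) fun u => by
      have h1 := hperp (u - 𝔅₀ e u • f)
        (by rw [QuadraticMap.polar_sub_right, QuadraticMap.polar_smul_right, hef, smul_eq_mul,
          mul_one, sub_self])
      rw [up_sub, up_smul, QuadraticMap.polar_sub_left, QuadraticMap.polar_smul_left,
        smul_eq_mul] at h1
      rw [QuadraticMap.polar_sub_left, QuadraticMap.polar_smul_left, hs.data.polar_up,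
        QuadraticMap.polar_comm (⇑Q) w, smul_eq_mul, mul_comm k]
      exact h1
    exact hno ⟨v, k, by rw [hv, sub_add_cancel]⟩
  have hve : v ∉ Submodule.span F₀ {e} := fun hm => by
    obtain ⟨c, rfl⟩ := Submodule.mem_span_singleton.1 hm
    rw [up_smul, QuadraticMap.polar_smul_left, hew, smul_zero] at hvw
    exact hvw F₀.zero_mem
  set a := 𝔅 (up v) w with ha
  refine ⟨a, hvw, ?_⟩
  have hSev : finrank F₀ (Submodule.span F₀ {e, v}) ≤ 2 :=
    (finrank_span_two_le e v).trans (by norm_num)
  obtain ⟨u, huK, huS, huq⟩ := hs.data.exists_sing_outside hSev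
  have heu : 𝔅₀ e u = 0 := mem_qperp_span.1 huK e (by simp)
  have hvu : 𝔅₀ v u = 0 := mem_qperp_span.1 huK v (by simp)
  have hk := (hs.root_rat hvq hvu).iso (hQ hvq) (hP hvu)
  set b := 𝔅 (up u) w
  set x := a • up u - b • up v with hx
  have hex : 𝔅 (up e) x = 0 := by
    rw [hx, QuadraticMap.polar_sub_right, QuadraticMap.polar_smul_right,
      QuadraticMap.polar_smul_right, hP heu, hP hev, smul_zero, smul_zero, sub_zero]
  have h1 : RootMem M (up e) x := by
    have h' := hw.conj hk
    rw [mat_eichIso, eich_mulVec (up v) (up u) (up e),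
      hP (u := v) (v := e) (by rw [QuadraticMap.polar_comm, hev]),
      hP (u := u) (v := e) (by rw [QuadraticMap.polar_comm, heu]),
      eich_mulVec (up v) (up u) w, hQ huq] at h'
    simp only [zero_smul, zero_mul, mul_zero, sub_zero, add_zero] at h'
    rw [← ha, ← hx] at h'
    have h3 := h'.add (hQ he) (by rw [QuadraticMap.polar_add_right, hew, hex, add_zero])
      (by rw [QuadraticMap.polar_neg_right, hew, neg_zero]) (hw.neg (hQ he) hew)
    rwa [add_neg_cancel_comm] at h3
  obtain ⟨s, hsK, hsq, hsu⟩ := hs.data.exists_sing_pair hSev huS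
  have hes : 𝔅₀ e s = 0 := mem_qperp_span.1 hsK e (by simp)
  have hvs : 𝔅₀ v s = 0 := mem_qperp_span.1 hsK v (by simp)
  have hst : 𝔅₀ s v = 0 := by rw [QuadraticMap.polar_comm, hvs]
  refine hs.coef_of_one he0 he hev hvq hve ?_
  have hk2 := (hs.root_rat hsq hst).iso (hQ hsq) (hP hst)
  have h' := h1.conj hk2
  have hsx : 𝔅 (up s) x = a := by
    rw [hx, QuadraticMap.polar_sub_right, QuadraticMap.polar_smul_right,
      QuadraticMap.polar_smul_right, hs.data.polar_up s u, hsu,
      hP (u := s) (v := v) (by rw [QuadraticMap.polar_comm, hvs])]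
    simp
  have htx : 𝔅 (up v) x = 0 := by
    rw [hx, QuadraticMap.polar_sub_right, QuadraticMap.polar_smul_right,
      QuadraticMap.polar_smul_right, hP hvu,
      hP (u := v) (v := v) (by rw [QuadraticMap.polar_self, hvq, smul_zero])]
    simp
  rw [mat_eichIso, eich_mulVec (up s) (up v) (up e),
    hP (u := s) (v := e) (by rw [QuadraticMap.polar_comm, hes]),
    hP (u := v) (v := e) (by rw [QuadraticMap.polar_comm, hev]),
    eich_mulVec (up s) (up v) x, hsx, htx, hQ hvq] at h'
  simp only [zero_smul, zero_mul, mul_zero, sub_zero, add_zero] at h'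
  have hat : 𝔅 (up e) (a • up v) = 0 := by
    rw [QuadraticMap.polar_smul_right, hP hev, smul_zero]
  have h3 := h'.add (hQ he) (by rw [QuadraticMap.polar_add_right, hex, hat, add_zero])
    (by rw [QuadraticMap.polar_neg_right, hex, neg_zero]) (h1.neg (hQ he) hex)
  rwa [add_neg_cancel_comm] at h3

/-- An irrational coefficient makes every field element a coefficient. -/
theorem coef_eq_univ {r : ℕ} (hr : r.Prime) (hcard : Fintype.card F = Nat.card F₀ ^ r)
    {e : ι → F₀} (he0 : e ≠ 0) (he : Q₀ e = 0) {a : F} (ha : a ∉ F₀) (hc : Coef Q₀ M e a) (b : F) :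
    Coef Q₀ M e b := by
  have hrat : ∀ c : F₀, Coef Q₀ M e (c : F) := fun c y hy => by
    rw [← up_smul]
    exact hs.root_rat he (by rw [QuadraticMap.polar_smul_right, hy, smul_zero])
  let A : Subalgebra F₀ F :=
    { carrier := {x | Coef Q₀ M e x}
      mul_mem' := fun hx hy => hs.coef_mul he0 he hx hy
      add_mem' := fun {x y} hx hy z hz => by
        rw [add_smul]
        refine (hx z hz).add (hs.data.quad_up_zero he) ?_ ?_ (hy z hz) <;>
          rw [QuadraticMap.polar_smul_right, hs.data.polar_up_zero hz, smul_zero]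
      algebraMap_mem' := fun c => hrat c }
  have hfr : Module.finrank F₀ F = r := by
    have h1 := Module.card_eq_pow_finrank (K := F₀) (V := F)
    rw [hcard, Nat.card_eq_fintype_card] at h1
    exact (Nat.pow_right_injective Fintype.one_lt_card h1).symm
  haveI := Subalgebra.isSimpleOrder_of_finrank_prime F₀ F (hfr ▸ hr)
  rcases eq_bot_or_eq_top A with hA | hA
  · exfalso
    have h1 : a ∈ A := hc
    rw [hA, Algebra.mem_bot] at h1
    obtain ⟨c, rfl⟩ := h1
    exact ha c.2
  · have h1 : b ∈ A := hA.symm ▸ Algebra.mem_top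
    exact h1

/-- The dichotomy, generating half. -/
theorem rigid_or_omega_le {r : ℕ} (hr : r.Prime) (hcard : Fintype.card F = Nat.card F₀ ^ r) :
    Rigid Q₀ M ∨ Cfsg.Omega F ⇑Q ≤ M := by
  by_cases hR : Rigid Q₀ M
  · exact Or.inl hR
  refine Or.inr ?_
  unfold Rigid at hR
  push Not at hR
  obtain ⟨e, he0, he, w, hew, hw, hno⟩ := hR
  obtain ⟨a, ha, hca⟩ := hs.exists_coef he0 he hew hw (by push Not; exact hno)
  have hfull : ∀ u : ι → F₀, u ≠ 0 → Q₀ u = 0 → Coef Q₀ M u a → Full M (up u) := by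
    intro u hu0 hu hcu w hw
    have hall := hs.coef_eq_univ hr hcard hu0 hu ha hcu
    obtain ⟨f, -, -, hfu⟩ := hs.data.exists_sing_pair (S := (⊥ : Submodule F₀ (ι → F₀)))
      (by simp) (by simpa using hu0)
    have huf : 𝔅₀ u f = 1 := by rw [QuadraticMap.polar_comm, hfu]
    let y : ι → (ι → F₀) := fun i => Pi.single i 1 - 𝔅₀ u (Pi.single i 1) • f
    have hy : ∀ i, 𝔅₀ u (y i) = 0 := fun i => by
      rw [QuadraticMap.polar_sub_right, QuadraticMap.polar_smul_right, huf, smul_eq_mul, mul_one,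
        sub_self]
    have hsum : w = ∑ i, w i • up (y i) := by
      have e1 : w = ∑ i, w i • up (Pi.single i (1 : F₀)) := by
        funext j
        simp [up_single, Finset.sum_apply, Pi.single_apply]
      have e2 : ∑ i, w i • up (y i) = w - (𝔅 (up u) w) • up f := by
        conv_rhs => rw [e1, ← QuadraticMap.polarBilin_apply_apply, map_sum, Finset.sum_smul,
          ← Finset.sum_sub_distrib]
        refine Finset.sum_congr rfl fun i _ => ?_
        rw [up_sub, up_smul, map_smul, QuadraticMap.polarBilin_apply_apply, hs.data.polar_up,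
          smul_eq_mul, smul_sub, smul_smul]
      rw [e2, hw, zero_smul, sub_zero]
    rw [hsum]
    have hgen : ∀ s : Finset ι,
        𝔅 (up u) (∑ i ∈ s, w i • up (y i)) = 0 ∧ RootMem M (up u) (∑ i ∈ s, w i • up (y i)) := by
      intro s
      induction s using Finset.induction_on with
      | empty => exact ⟨by simp, by rw [Finset.sum_empty]; exact RootMem.zero⟩
      | insert i s hi ih =>
        have h0 : 𝔅 (up u) (w i • up (y i)) = 0 := by
          rw [QuadraticMap.polar_smul_right, hs.data.polar_up_zero (hy i), smul_zero]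
        rw [Finset.sum_insert hi]
        exact ⟨by rw [QuadraticMap.polar_add_right, h0, ih.1, add_zero],
          (hall (w i) (y i) (hy i)).add (hs.data.quad_up_zero hu) h0 ih.1 ih.2⟩
    exact (hgen Finset.univ).2
  obtain ⟨f, -, hfq, hfe⟩ := hs.data.exists_sing_pair (S := (⊥ : Submodule F₀ (ι → F₀)))
    (by simp) (by simpa using he0)
  have hf0 : f ≠ 0 := fun h0 => by simp [h0] at hfe
  obtain ⟨y, hyK, hyS, hyq⟩ := hs.data.exists_sing_outside
    (S := Submodule.span F₀ {e, f}) ((finrank_span_two_le e f).trans (by norm_num))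
  have hy0 : y ≠ 0 := fun h0 => hyS (h0 ▸ Submodule.zero_mem _)
  have hey : 𝔅₀ e y = 0 := mem_qperp_span.1 hyK e (by simp)
  have hyf : 𝔅₀ y f = 0 := by
    rw [QuadraticMap.polar_comm]; exact mem_qperp_span.1 hyK f (by simp)
  have hcy := hs.coef_orth he0 he hyq hey (fun hm => hyS (Submodule.span_mono (by simp) hm)) hca
  have hcf : Coef Q₀ M f a := hs.coef_orth hy0 hyq hfq hyf (fun hm => by
    obtain ⟨c, hc⟩ := Submodule.mem_span_singleton.1 hm
    rw [← hc, QuadraticMap.polar_smul_left, QuadraticMap.polar_comm (⇑Q₀) y, hey, smul_zero] at hfe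
    exact zero_ne_one hfe) hcy
  refine omega_le_of_full_pair hs.data.nd hs.card_ge (hs.data.quad_up_zero he)
    (hs.data.quad_up_zero hfq) ?_ (hfull e he0 he hca) (hfull f hf0 hfq hcf)
  rw [QuadraticMap.polar_comm, hs.data.polar_up, hfe]
  exact one_ne_zero

end Setting

end CfsgLib.OrthSubfield
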