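import Cfsg.Agent.OrthSubfield.Spread

/-!
# A rigid subgroup is rational in dimension eight

When every element of `F` with square in `F₀` lies in `F₀`, an element of the subfield group is rational, and
involutions with a commuting rational involution stabilise rational subspaces. An anisotropic plane stabilised by
all of them is avoided by changing the rational involution.
-/

set_option autoImplicit false
set_option linter.unusedSectionVars false
set_option maxHeartbeats 400000

namespace CfsgLib.OrthSubfield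

open Matrix Module CfsgLib.Spinor CfsgLib.Forms CfsgLib.Forms4 CfsgLib.MaxSub CfsgLib.OrthMax
  CfsgLib.OmegaOrbits Cfsg.Geo

variable {F : Type*} [Field F] [Fintype F] {ι : Type} [Fintype ι] [DecidableEq ι] {F₀ : Subfield F}
  [Fintype F₀] {Q : QuadraticForm F (ι → F)} {Q₀ : QuadraticForm F₀ (ι → F₀)}
  {M : Subgroup (Isom Q)}

set_option quotPrecheck false in
local notation "𝔅" => QuadraticMap.polar (⇑Q)

set_option quotPrecheck false in
local notation "𝔅₀" => QuadraticMap.polar (⇑Q₀)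

/-- An element commuting with another preserves its moved space. -/
theorem mulVec_mem_rng {y k : Isom Q} (hc : y * k = k * y) {x : ι → F} (hx : x ∈ rng k) :
    mat Q y *ᵥ x ∈ rng k := by
  obtain ⟨z, rfl⟩ := mem_rng.1 hx
  rw [mulVec_sub, mulVec_mulVec, ← mat_mul, hc, mat_mul, ← mulVec_mulVec]
  exact sub_mem_rng k _

namespace Data

variable (h : Data F₀ Q Q₀)
include h

/-- An element preserving a rational subspace preserves its orthogonal. -/
theorem perp_stable {W : Submodule F₀ (ι → F₀)} {y : Isom Q}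
    (hy : ∀ x ∈ spanF W, mat Q y *ᵥ x ∈ spanF W) {x : ι → F} (hx : x ∈ spanF (qperp Q₀ W)) :
    mat Q y *ᵥ x ∈ spanF (qperp Q₀ W) := by
  have hinj : Function.Injective (Matrix.mulVecLin (mat Q y)) := fun p r hpr => by
    rw [← inv_mat_mulVec y p, ← inv_mat_mulVec y r]
    exact congrArg _ hpr
  have heq : (spanF W).map (Matrix.mulVecLin (mat Q y)) = spanF W :=
    Submodule.eq_of_le_of_finrank_eq (by rintro _ ⟨p, hp, rfl⟩; exact hy p hp)
      (Submodule.equivMapOfInjective _ hinj _).finrank_eq.symm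
  refine h.mem_spanF_of_perp fun u hu => ?_
  rw [qperp_qperp h.nd₀] at hu
  have hu' : up u ∈ spanF W := up_mem_spanF hu
  rw [← heq] at hu'
  obtain ⟨p, hp, hpu⟩ := hu'
  rw [← hpu, mulVecLin_apply, polar_mulVec]
  rw [spanF] at hx
  induction hx using Submodule.span_induction with
  | mem a ha =>
    obtain ⟨v, hv, rfl⟩ := ha
    clear hpu
    rw [spanF] at hp
    induction hp using Submodule.span_induction with
    | mem b hb => obtain ⟨w, hw, rfl⟩ := hb; exact h.polar_up_zero (mem_qperp.1 hv w hw)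
    | zero => simp
    | add a b _ _ ha hb => rw [QuadraticMap.polar_add_left, ha, hb, add_zero]
    | smul c a _ ha => rw [QuadraticMap.polar_smul_left, ha, smul_zero]
  | zero => simp
  | add a b _ _ ha hb => rw [QuadraticMap.polar_add_right, ha, hb, add_zero]
  | smul c a _ ha => rw [QuadraticMap.polar_smul_right, ha, smul_zero]

/-- Products of a rational vector with the span of its orthogonal vanish. -/
theorem polar_spanF_zero {W : Submodule F₀ (ι → F₀)} {s : ι → F₀} (hs : s ∈ qperp Q₀ W) {x : ι → F}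
    (hx : x ∈ spanF W) : 𝔅 x (up s) = 0 := by
  rw [spanF] at hx
  induction hx using Submodule.span_induction with
  | mem z hz => obtain ⟨u, hu, rfl⟩ := hz; exact h.polar_up_zero (mem_qperp.1 hs u hu)
  | zero => simp
  | add p r _ _ hp hr => rw [QuadraticMap.polar_add_left, hp, hr, add_zero]
  | smul c p _ hp => rw [QuadraticMap.polar_smul_left, hp, smul_zero]

end Data

namespace Setting

variable (hs : Setting M Q₀) (hR : Rigid Q₀ M) (hsqr : ∀ c : F, c * c ∈ F₀ → c ∈ F₀)
include hs hR hsqr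

/-- An element conjugating a rational root element, possibly with nonsingular vector, to a rational one. -/
theorem root_move' {y : Isom Q} (hy : y ∈ M) {e w : ι → F₀} (he0 : e ≠ 0) (he : Q₀ e = 0)
    (hew : 𝔅₀ e w = 0) (hwe : w ∉ Submodule.span F₀ {e})
    (hk : InK F₀ (y * eichIso Q (up e) (up w) (hs.data.quad_up_zero he)
      (hs.data.polar_up_zero hew) * y⁻¹)) : InK F₀ y := by
  by_cases hw : Q₀ w = 0
  · exact hs.root_move hR hy he0 he hw hew hwe hk
  have hQ : ∀ {u : ι → F₀}, Q₀ u = 0 → Q (up u) = 0 := hs.data.quad_up_zero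
  have hqw : Q (up w) ≠ 0 := fun e' => hw (Subtype.ext (by rw [hs.data.quad]; exact e'))
  set x := eichIso Q (up e) (up w) (hQ he) (hs.data.polar_up_zero hew) with hx
  set k := y * x * y⁻¹ with hkdef
  set A := mat Q y *ᵥ up e with hA
  set B := mat Q y *ᵥ up w with hB
  have hK : ∀ u, mat Q k *ᵥ (mat Q y *ᵥ u) - mat Q y *ᵥ u =
      𝔅 (up e) u • B - (𝔅 (up w) u + Q (up w) * 𝔅 (up e) u) • A := fun u => by
    rw [hkdef, mat_mul, mat_mul, ← mulVec_mulVec, ← mulVec_mulVec, inv_mat_mulVec, hx, mat_eichIso,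
      eich_mulVec]
    simp only [mulVec_add, mulVec_sub, mulVec_smul, ← hA, ← hB]
    module
  have hle : rng k ≤ Submodule.span F ({A, B} : Set (ι → F)) := rng_le fun z => by
    obtain ⟨u, rfl⟩ : ∃ u, mat Q y *ᵥ u = z := ⟨_, mat_inv_mulVec' y z⟩
    rw [hK]
    exact Submodule.sub_mem _ (Submodule.smul_mem _ _ (Submodule.subset_span (by simp)))
      (Submodule.smul_mem _ _ (Submodule.subset_span (by simp)))
  obtain ⟨D, hD⟩ := exists_spanF_range (hs.data.ratMat_of_inK hsqr hk).sub_one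
  change spanF D = rng k at hD
  have hne : ∀ c : F₀, c • e ≠ w := fun c hc => hwe (Submodule.mem_span_singleton.2 ⟨c, hc⟩)
  have hmem : A ∈ rng k ∧ B ∈ rng k := by
    obtain ⟨t, ht1, ht2⟩ :=
      AschbacherQuad.exists_pairing_pair (isNondeg hs.data.nd₀) he0 hne 0 (-1)
    obtain ⟨t', ht1', ht2'⟩ :=
      AschbacherQuad.exists_pairing_pair (isNondeg hs.data.nd₀) he0 hne 1 (-(Q₀ w))
    refine ⟨mem_rng.2 ⟨mat Q y *ᵥ up t, ?_⟩, mem_rng.2 ⟨mat Q y *ᵥ up t', ?_⟩⟩
    · rw [hK, QuadraticMap.polar_comm (⇑Q) (up e), QuadraticMap.polar_comm (⇑Q) (up w),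
        hs.data.polar_up, hs.data.polar_up, show 𝔅₀ t e = 0 from ht1,
        show 𝔅₀ t w = -1 from ht2]
      simp
    · rw [hK, QuadraticMap.polar_comm (⇑Q) (up e), QuadraticMap.polar_comm (⇑Q) (up w),
        hs.data.polar_up, hs.data.polar_up, show 𝔅₀ t' e = 1 from ht1',
        show 𝔅₀ t' w = -(Q₀ w) from ht2', ← hs.data.quad]
      simp
  rw [← hD] at hmem hle
  have hAA : Q A = 0 := by rw [hA, quad_mulVec, hQ he]
  have hBB : Q B = Q (up w) := by rw [hB, quad_mulVec]
  have hAB : 𝔅 A B = 0 := by rw [hA, hB, polar_mulVec, hs.data.polar_up_zero hew]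
  have hA0 : A ≠ 0 := fun h0 => he0 (up_eq_zero.1 (by
    rw [← inv_mat_mulVec y (up e), ← hA, h0, mulVec_zero]))
  have hAperp : ∀ z ∈ Submodule.span F ({A, B} : Set (ι → F)), 𝔅 A z = 0 := fun z hz => by
    obtain ⟨p, r, rfl⟩ := Submodule.mem_span_pair.1 hz
    simp [QuadraticMap.polar_add_right, QuadraticMap.polar_smul_right, hAB, hAA]
  -- a singular rational point of the moved space
  obtain ⟨c, hcD, hc0, hcq⟩ : ∃ c ∈ D, c ≠ 0 ∧ Q₀ c = 0 := by
    by_cases h2 : (2 : F₀) = 0
    · haveI : CharP F₀ 2 := CharTwo.of_one_ne_zero_of_two_eq_zero one_ne_zero h2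
      have hne' : D ≠ ⊥ := fun hb => hA0 (by
        have h1 : spanF D ≤ (⊥ : Submodule F (ι → F)) :=
          spanF_le fun u hu => by rw [hb, Submodule.mem_bot] at hu; simp [hu, up_zero]
        exact (Submodule.mem_bot F).1 (h1 hmem.1))
      obtain ⟨a, haD, ha0⟩ := Submodule.exists_mem_ne_zero_of_ne_bot hne'
      by_cases haq : Q₀ a = 0
      · exact ⟨a, haD, ha0, haq⟩
      obtain ⟨b, hbD, hba⟩ : ∃ b ∈ D, b ∉ Submodule.span F₀ {a} := by
        by_contra! hall
        have h1 : spanF D ≤ Submodule.span F {up a} := (spanF_le fun u hu =>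
          up_mem_spanF (hall u hu)).trans ((spanF_span_le _).trans (by rw [Set.image_singleton]))
        obtain ⟨c1, hc1⟩ := Submodule.mem_span_singleton.1 (h1 hmem.1)
        have hqa : Q (up a) ≠ 0 := fun e' => haq (Subtype.ext (by rw [hs.data.quad]; exact e'))
        rw [← hc1, QuadraticMap.map_smul, smul_eq_mul] at hAA
        have hc10 : c1 = 0 := mul_self_eq_zero.1 ((mul_eq_zero.1 hAA).resolve_right hqa)
        exact hA0 (by rw [← hc1, hc10, zero_smul])
      have hab : 𝔅₀ a b = 0 := by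
        refine Subtype.ext ?_
        rw [← hs.data.polar_up]
        obtain ⟨p, r, hpr⟩ := Submodule.mem_span_pair.1 (hle (up_mem_spanF haD))
        obtain ⟨p', r', hpr'⟩ := Submodule.mem_span_pair.1 (hle (up_mem_spanF hbD))
        have h2F : (2 : F) = 0 := by rw [← map_ofNat F₀.subtype 2, h2, map_zero]
        rw [← hpr, ← hpr']
        simp [QuadraticMap.polar_add_left, QuadraticMap.polar_add_right, QuadraticMap.polar_smul_left,
          QuadraticMap.polar_smul_right, QuadraticMap.polar_comm (⇑Q) B A, hAB, hAA, h2F]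
      obtain ⟨d, hd⟩ := FiniteField.isSquare_of_char_two (ringChar.eq F₀ 2) (Q₀ b / Q₀ a)
      refine ⟨d • a + b, D.add_mem (D.smul_mem _ haD) hbD, fun h0 => hba ?_, ?_⟩
      · exact Submodule.mem_span_singleton.2 ⟨-d, by rw [neg_smul, eq_neg_of_add_eq_zero_right h0]⟩
      · rw [QuadraticMap.map_add (⇑Q₀), QuadraticMap.map_smul, QuadraticMap.polar_smul_left, hab,
          smul_zero, add_zero, ← hd, smul_eq_mul, div_mul_cancel₀ _ haq, CharTwo.add_self_eq_zero]
    · obtain ⟨c, hc, hc0⟩ : ∃ c ∈ qperp Q₀ D ⊓ D, c ≠ 0 := by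
        by_contra! hall
        have hbot : qperp Q₀ D ⊓ D = ⊥ := (Submodule.eq_bot_iff _).2 hall
        have hcompl : IsCompl D (qperp Q₀ D) := by
          refine ⟨disjoint_iff.2 (by rw [inf_comm]; exact hbot), codisjoint_iff.2 ?_⟩
          apply Submodule.eq_top_of_finrank_eq
          have h1 := Submodule.finrank_sup_add_finrank_inf_eq D (qperp Q₀ D)
          rw [inf_comm, hbot, finrank_bot, hs.data.le_finrank_qperp] at h1
          have h3 := Submodule.finrank_le D
          rw [finrank_fintype_fun_eq_card] at h3 ⊢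
          omega
        have hA' : A ∈ spanF (qperp Q₀ D) := hs.data.mem_spanF_of_perp fun u hu => by
          rw [qperp_qperp hs.data.nd₀] at hu
          rw [QuadraticMap.polar_comm]
          exact hAperp _ (hle (up_mem_spanF hu))
        exact hA0 ((Submodule.mem_bot F).1 ((spanF_compl hcompl).2 ▸ ⟨hmem.1, hA'⟩))
      refine ⟨c, hc.2, hc0, ?_⟩
      have h1 := mem_qperp.1 hc.1 c hc.2
      rw [QuadraticMap.polar_self, nsmul_eq_mul, Nat.cast_ofNat] at h1
      exact (mul_eq_zero.1 h1).resolve_left h2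
  obtain ⟨α, β, hαβ⟩ := Submodule.mem_span_pair.1 (hle (up_mem_spanF hcD))
  have hβ : β = 0 := by
    have h1 := hQ hcq
    rw [← hαβ, QuadraticMap.map_add (⇑Q), QuadraticMap.map_smul, QuadraticMap.map_smul,
      QuadraticMap.polar_smul_left, QuadraticMap.polar_smul_right, hAA, hBB, hAB] at h1
    simpa [hqw] using h1
  rw [hβ, zero_smul, add_zero] at hαβ
  have hα : α ≠ 0 := fun h0 => hc0 (up_eq_zero.1 (by rw [← hαβ, h0, zero_smul]))
  exact hs.stab_line hR hy he0 he hc0 hcq (l := α⁻¹) (by rw [← hαβ, inv_smul_smul₀ hα])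

/-- A conjugate of a rational root element fixing a rational singular point. -/
theorem inK_of_fix {y : Isom Q} (hy : y ∈ M) {e w s : ι → F₀} (he0 : e ≠ 0) (he : Q₀ e = 0)
    (hew : 𝔅₀ e w = 0) (hwe : w ∉ Submodule.span F₀ {e}) (hs0 : s ≠ 0) (hsq : Q₀ s = 0)
    (h1 : 𝔅 (mat Q y *ᵥ up e) (up s) = 0) (h2 : 𝔅 (mat Q y *ᵥ up w) (up s) = 0) : InK F₀ y := by
  refine hs.root_move' hR hsqr hy he0 he hew hwe
    (hs.stab_point hR (mul_mem (mul_mem hy ((hs.root_rat he hew).iso _ _)) (inv_mem hy)) hs0 hsq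
      (l := 1) ?_)
  have e1 : 𝔅 (up e) (mat Q y⁻¹ *ᵥ up s) = 0 := by rw [← polar_mulVec Q y, mat_inv_mulVec', h1]
  have e2 : 𝔅 (up w) (mat Q y⁻¹ *ᵥ up s) = 0 := by rw [← polar_mulVec Q y, mat_inv_mulVec', h2]
  rw [mat_mul, mat_mul, ← mulVec_mulVec, ← mulVec_mulVec, mat_eichIso, eich_mulVec, e1, e2]
  simp only [zero_smul, zero_mul, mul_zero, sub_zero, add_zero]
  rw [mat_inv_mulVec', one_smul]

/-- An element moving a rational subspace of dimension three or more, with a singular point, into a small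
rational subspace. -/
theorem inK_of_maps {y : Isom Q} (hy : y ∈ M) {W W' : Submodule F₀ (ι → F₀)}
    (hmap : ∀ x ∈ spanF W, mat Q y *ᵥ x ∈ spanF W') (hW : 3 ≤ finrank F₀ W)
    (hW' : finrank F₀ W' + 3 ≤ Fintype.card ι) {e : ι → F₀} (heW : e ∈ W) (he0 : e ≠ 0)
    (he : Q₀ e = 0) : InK F₀ y := by
  obtain ⟨w, hw, hwe⟩ : ∃ w ∈ W ⊓ qperp Q₀ (Submodule.span F₀ {e}), w ∉ Submodule.span F₀ {e} := by
    by_contra! hall
    have h1 := Submodule.finrank_sup_add_finrank_inf_eq W (qperp Q₀ (Submodule.span F₀ {e}))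
    have h2 := Submodule.finrank_le (W ⊔ qperp Q₀ (Submodule.span F₀ {e}))
    have h3 := Submodule.finrank_mono
      (show W ⊓ qperp Q₀ (Submodule.span F₀ {e}) ≤ Submodule.span F₀ {e} from hall)
    rw [finrank_fintype_fun_eq_card] at h2
    rw [hs.data.le_finrank_qperp, finrank_span_singleton he0] at h1
    rw [finrank_span_singleton he0] at h3
    have := hs.data.card
    omega
  obtain ⟨s, hsK, hs0, hsq⟩ := exists_singular hs.data.nd₀ (qperp Q₀ W')
    (by rw [hs.data.le_finrank_qperp]; omega)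
  exact hs.inK_of_fix hR hsqr hy he0 he (mem_qperp_singleton.1 hw.2) hwe hs0 hsq
    (hs.data.polar_spanF_zero hsK (hmap _ (up_mem_spanF heW)))
    (hs.data.polar_spanF_zero hsK (hmap _ (up_mem_spanF hw.1)))

/-- An element preserving a small rational subspace with a singular point. -/
theorem inK_of_stable {y : Isom Q} (hy : y ∈ M) {W : Submodule F₀ (ι → F₀)}
    (hmap : ∀ x ∈ spanF W, mat Q y *ᵥ x ∈ spanF W) (hW : finrank F₀ W + 3 ≤ Fintype.card ι)
    {e : ι → F₀} (heW : e ∈ W) (he0 : e ≠ 0) (he : Q₀ e = 0) : InK F₀ y := by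
  by_cases h5 : finrank F₀ W + 5 ≤ Fintype.card ι
  · exact hs.mem_of_image hR hy he0 he h5 (hmap _ (up_mem_spanF heW))
  · have := hs.data.card
    exact hs.inK_of_maps hR hsqr hy hmap (by omega) hW heW he0 he

omit hR in
/-- A central element of a dihedral group is an involution. -/
theorem central_invol {t k : Isom Q} (htt : t * t = 1) (hkk : k * k = 1) {m : ℕ}
    (hmt : t * (t * k) ^ m = (t * k) ^ m * t) : (t * k) ^ m * (t * k) ^ m = 1 := by
  set j := (t * k) ^ m with hj
  have e1 : t * j * t = j⁻¹ := by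
    rw [hj, ← inv_pow]
    have e2 : SemiconjBy t (t * k) (t * k)⁻¹ := by
      show t * (t * k) = (t * k)⁻¹ * t
      rw [_root_.mul_inv_rev, inv_eq_of_mul_eq_one_right htt, inv_eq_of_mul_eq_one_right hkk,
        ← mul_assoc, htt, one_mul, mul_assoc, htt, mul_one]
    rw [(e2.pow_right m).eq, mul_assoc, htt, mul_one]
  rw [hmt, mul_assoc, htt, mul_one] at e1
  nth_rw 2 [e1]
  exact mul_inv_cancel j

omit hR in
/-- A rational involution moves no anisotropic point only. -/
theorem two_le_of_anis {j : Isom Q} (hj : j ∈ M) (hj1 : j ≠ 1) {R : Submodule F₀ (ι → F₀)}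
    (hR' : spanF R = rng j) (hRa : ∀ a ∈ R, Q₀ a = 0 → a = 0) : 2 ≤ finrank F₀ R := by
  by_contra hlt
  have hne : R ≠ ⊥ := fun hb => hj1 (mat_ext Q (Matrix.ext_iff_mulVec.2 fun x => by
    have h1 : rng j ≤ ⊥ := hR' ▸ spanF_le fun u hu => by
      rw [hb, Submodule.mem_bot] at hu; simp [hu, up_zero]
    rw [mat_one, one_mulVec]
    exact sub_eq_zero.1 ((Submodule.mem_bot F).1 (h1 (sub_mem_rng j x)))))
  obtain ⟨a, haR, ha0⟩ := Submodule.exists_mem_ne_zero_of_ne_bot hne
  have heq : Submodule.span F₀ {a} = R := Submodule.eq_of_le_of_finrank_le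
    ((Submodule.span_singleton_le_iff_mem _ _).2 haR) (by rw [finrank_span_singleton ha0]; omega)
  refine hs.data.not_rng_le_singleton (hs.le_omega hj) hj1 (fun hq => ha0 (hRa a haR hq)) ?_
  rw [← hR', ← heq]
  exact (spanF_span_le _).trans (by rw [Set.image_singleton])

variable (hn8 : Fintype.card ι = 8)
include hn8

/-- An involution moving a plane at most is rational, or preserves with a given rational involution an
anisotropic plane. -/
theorem inK_or_plane {t k : Isom Q} (ht : t ∈ M) (htt : t * t = 1) (htr : finrank F (rng t) ≤ 2)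
    (hk : k ∈ M) (hkk : k * k = 1) {K : Submodule F₀ (ι → F₀)} (hK : spanF K = rng k)
    (hK3 : 3 ≤ finrank F₀ K) (hK4 : finrank F₀ K ≤ 4) {e : ι → F₀} (heK : e ∈ K) (he0 : e ≠ 0)
    (he : Q₀ e = 0) :
    InK F₀ t ∨ ∃ P : Submodule F₀ (ι → F₀), finrank F₀ P = 2 ∧ Anis Q₀ P ∧
      (∀ x ∈ spanF P, mat Q t *ᵥ x ∈ spanF P) ∧ ∀ x ∈ spanF P, mat Q k *ᵥ x ∈ spanF P := by
  have hkr : finrank F (rng k) = finrank F₀ K := by rw [← hK, finrank_spanF]
  obtain ⟨m, hm1, hmt, hmk⟩ := exists_central_of_not_conj htt hkk fun x hx => by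
    have h1 := finrank_rng_eq (x := x) (k := k) (g := 1) (i := t) (by simpa using hx)
    omega
  set j := (t * k) ^ m with hj
  have hjM : j ∈ M := pow_mem (mul_mem ht hk) m
  have hjr : finrank F (rng j) ≤ 6 := by
    have h1 := Submodule.finrank_mono ((rng_pow_le (t * k) m).trans (rng_mul_le t k))
    have h2 := Submodule.finrank_add_le_finrank_add_finrank (rng t) (rng k)
    rw [hj]
    omega
  have hjrat : RatMat F₀ (mat Q j) := hs.data.ratMat_of_inK hsqr
    (hs.inK_of_stable hR hsqr hjM (W := K) (fun x hx => hK ▸ mulVec_mem_rng hmk.symm (hK ▸ hx))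
      (by omega) heK he0 he)
  obtain ⟨R, hR'⟩ := exists_spanF_range hjrat.sub_one
  change spanF R = rng j at hR'
  have htR : ∀ x ∈ spanF R, mat Q t *ᵥ x ∈ spanF R := fun x hx => hR' ▸ mulVec_mem_rng hmt (hR' ▸ hx)
  have hkR : ∀ x ∈ spanF R, mat Q k *ᵥ x ∈ spanF R := fun x hx => hR' ▸ mulVec_mem_rng hmk (hR' ▸ hx)
  have hRd : finrank F₀ R ≤ 6 := by rw [← finrank_spanF R, hR']; exact hjr
  by_cases hRa : ∀ a ∈ R, Q₀ a = 0 → a = 0
  · exact Or.inr ⟨R, le_antisymm (Anis.finrank_le hs.data hRa) (hs.two_le_of_anis hsqr hjM hm1 hR' hRa),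
      hRa, htR, hkR⟩
  push Not at hRa
  obtain ⟨a, haR, haq, ha0⟩ := hRa
  by_cases hR5 : finrank F₀ R + 3 ≤ Fintype.card ι
  · exact Or.inl (hs.inK_of_stable hR hsqr ht htR hR5 haR ha0 haq)
  have hU : finrank F₀ (qperp Q₀ R) = 2 := by rw [hs.data.le_finrank_qperp]; omega
  by_cases hUa : ∀ b ∈ qperp Q₀ R, Q₀ b = 0 → b = 0
  · exact Or.inr ⟨qperp Q₀ R, hU, hUa, fun x hx => hs.data.perp_stable htR hx,
      fun x hx => hs.data.perp_stable hkR hx⟩
  push Not at hUa
  obtain ⟨b, hbU, hbq, hb0⟩ := hUa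
  exact Or.inl (hs.inK_of_stable hR hsqr ht (fun x hx => hs.data.perp_stable htR hx)
    (by omega) hbU hb0 hbq)

/-- The odd characteristic case. -/
theorem inK_of_odd (h2 : (2 : F) ≠ 0) {g : Isom Q} (hg : g ∈ M) : InK F₀ g := by
  have h := hs.data
  have hQ : ∀ {u : ι → F₀}, Q₀ u = 0 → Q (up u) = 0 := h.quad_up_zero
  have hP : ∀ {u v : ι → F₀}, 𝔅₀ u v = 0 → 𝔅 (up u) (up v) = 0 := h.polar_up_zero
  have sym : ∀ {u v : ι → F₀} {c : F₀}, 𝔅₀ u v = c → 𝔅₀ v u = c := fun e => by
    rw [QuadraticMap.polar_comm]; exact e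
  have self : ∀ {u : ι → F₀}, Q₀ u = 0 → 𝔅₀ u u = 0 := fun e => by
    rw [QuadraticMap.polar_self, e, smul_zero]
  -- two hyperbolic pairs
  obtain ⟨e, -, he0, he⟩ := exists_singular h.nd₀ (⊤ : Submodule F₀ (ι → F₀))
    (by rw [finrank_top, finrank_fintype_fun_eq_card]; omega)
  obtain ⟨f, -, hf, hfe⟩ := h.exists_sing_pair (S := (⊥ : Submodule F₀ (ι → F₀)))
    (by simp) (by simpa using he0)
  obtain ⟨e', he'K, he'S, he'⟩ := h.exists_sing_outside (S := Submodule.span F₀ {e, f})
    (finrank_span_two_le e f)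
  obtain ⟨f', hf'K, hf', hf'e'⟩ := h.exists_sing_pair (finrank_span_two_le e f) he'S
  rw [mem_qperp_span] at he'K hf'K
  have a1 : 𝔅₀ e f = 1 := sym hfe
  have a2 : 𝔅₀ e' f' = 1 := sym hf'e'
  have b1 : 𝔅₀ e e' = 0 := he'K e (by simp)
  have b2 : 𝔅₀ f e' = 0 := he'K f (by simp)
  have b3 : 𝔅₀ e f' = 0 := hf'K e (by simp)
  have b4 : 𝔅₀ f f' = 0 := hf'K f (by simp)
  -- the reflections
  have hq : ∀ {u v : ι → F₀}, Q₀ u = 0 → Q₀ v = 0 → 𝔅₀ u v = 1 →
      Q (up (u + v)) = 1 ∧ Q (up (u - v)) = -1 := fun {u v} hu hv huv => by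
    refine ⟨?_, ?_⟩
    · rw [up_add, QuadraticMap.map_add (⇑Q), hQ hu, hQ hv, h.polar_up, huv]; simp
    · rw [up_sub, sub_eq_add_neg, QuadraticMap.map_add (⇑Q), QuadraticMap.map_neg, hQ hu, hQ hv,
        QuadraticMap.polar_neg_right, h.polar_up, huv]
      simp
  obtain ⟨qa, qb⟩ := hq he hf a1
  obtain ⟨qc, qd⟩ := hq he' hf' a2
  have na : Q (up (e + f)) ≠ 0 := by rw [qa]; exact one_ne_zero
  have nb : Q (up (e - f)) ≠ 0 := by rw [qb]; exact neg_ne_zero.2 one_ne_zero
  have nc : Q (up (e' + f')) ≠ 0 := by rw [qc]; exact one_ne_zero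
  have ne' : Q (up (e' - f')) ≠ 0 := by rw [qd]; exact neg_ne_zero.2 one_ne_zero
  have hrefl : ∀ {v : ι → F₀} (hv : Q (up v) ≠ 0), RatMat F₀ (mat Q (reflIso Q (up v) hv)) :=
    fun {v} hv => ratMat_of_up fun u => ⟨u - ((Q₀ v)⁻¹ * 𝔅₀ v u) • v, by
      rw [mat_reflIso, reflectionMatrix_mulVec, refl_apply, up_sub, up_smul, ← h.quad, h.polar_up]
      push_cast
      rfl⟩
  have hexc : Nat.card F ≠ 2 ∨ Fintype.card ι ≠ 4 := Or.inr (by omega)
  have hpair : ∀ {p r : ι → F₀} (hp : Q (up p) ≠ 0) (hr : Q (up r) ≠ 0) (_ : 𝔅₀ p r = 0)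
      (_ : IsSquare (Q (up p) * Q (up r))),
      reflIso Q (up p) hp * reflIso Q (up r) hr ∈ M ∧
        (reflIso Q (up p) hp * reflIso Q (up r) hr) * (reflIso Q (up p) hp * reflIso Q (up r) hr) = 1 ∧
        finrank F (rng (reflIso Q (up p) hp * reflIso Q (up r) hr)) ≤ 2 := fun {p r} hp hr hpr hsq => by
    refine ⟨hs.mem_of_rat ((mem_omega_iff_even h.nd hexc ((IsReflProd.reflIso _ hp).mul
      (IsReflProd.reflIso _ hr))).2 ⟨by simp, by simpa using hsq⟩) ((hrefl hp).mul (hrefl hr)), ?_, ?_⟩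
    · refine mat_ext Q (Matrix.ext_iff_mulVec.2 fun x => ?_)
      rw [mat_mul, mat_mul, ← mulVec_mulVec, ← mulVec_mulVec, ← mulVec_mulVec, mat_one, one_mulVec]
      simp only [mat_reflIso, reflectionMatrix_mulVec, refl_apply, QuadraticMap.polar_sub_right,
        QuadraticMap.polar_smul_right, hP hpr, hP (sym hpr), QuadraticMap.polar_self, smul_eq_mul,
        nsmul_eq_mul, Nat.cast_ofNat]
      match_scalars <;> field_simp <;> ring
    · refine (Submodule.finrank_mono (rng_le (W := spanF (Submodule.span F₀ {p, r})) fun x => ?_)).trans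
        ((finrank_spanF _).trans_le (finrank_span_two_le p r))
      simp only [mat_mul, ← mulVec_mulVec, mat_reflIso, reflectionMatrix_mulVec, refl_apply]
      rw [show ∀ a b : ι → F, x - a - b - x = -a + -b from fun a b => by abel]
      exact Submodule.add_mem _ (Submodule.neg_mem _ (Submodule.smul_mem _ _
        (up_mem_spanF (Submodule.subset_span (by simp))))) (Submodule.neg_mem _ (Submodule.smul_mem _ _
        (up_mem_spanF (Submodule.subset_span (by simp)))))
  have hac : 𝔅₀ (e + f) (e' + f') = 0 := by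
    simp [QuadraticMap.polar_add_left, QuadraticMap.polar_add_right, b1, b2, b3, b4]
  have hbd : 𝔅₀ (e - f) (e' - f') = 0 := by
    simp [QuadraticMap.polar_sub_left, QuadraticMap.polar_sub_right, b1, b2, b3, b4]
  obtain ⟨hi2M, hi22, hr2⟩ := hpair na nc hac ⟨1, by rw [qa, qc]⟩
  obtain ⟨hi3M, hi33, hr3⟩ := hpair nb ne' hbd ⟨1, by rw [qb, qd]; ring⟩
  set i2 := reflIso Q _ na * reflIso Q _ nc with hi2
  set i3 := reflIso Q _ nb * reflIso Q _ ne' with hi3
  set i := i2 * i3 with hi
  have hiM : i ∈ M := mul_mem hi2M hi3M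
  have hI : ∀ x, mat Q i *ᵥ x = x - (2 * 𝔅 (up f) x) • up e - (2 * 𝔅 (up e) x) • up f -
      (2 * 𝔅 (up f') x) • up e' - (2 * 𝔅 (up e') x) • up f' := fun x => by
    have qa' : Q (up e + up f) = 1 := by rw [← up_add, qa]
    have qb' : Q (up e - up f) = -1 := by rw [← up_sub, qb]
    have qc' : Q (up e' + up f') = 1 := by rw [← up_add, qc]
    have qd' : Q (up e' - up f') = -1 := by rw [← up_sub, qd]
    rw [hi, hi2, hi3, mat_mul, mat_mul, mat_mul, ← mulVec_mulVec, ← mulVec_mulVec, ← mulVec_mulVec]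
    simp only [mat_reflIso, reflectionMatrix_mulVec, refl_apply, qa', qb', qc', qd', up_add, up_sub,
      QuadraticMap.polar_sub_right, QuadraticMap.polar_smul_right, QuadraticMap.polar_add_right,
      QuadraticMap.polar_add_left, QuadraticMap.polar_sub_left, h.polar_up, self he, self hf, self he',
      self hf', a1, sym a1, a2, sym a2, b1, sym b1, b2, sym b2, b3, sym b3, b4, sym b4,
      ZeroMemClass.coe_zero, OneMemClass.coe_one, inv_one, inv_neg, smul_eq_mul]
    module
  have hii : i * i = 1 := mat_ext Q (Matrix.ext_iff_mulVec.2 fun x => by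
    rw [mat_mul, ← mulVec_mulVec, hI, hI, mat_one, one_mulVec]
    simp only [QuadraticMap.polar_sub_right, QuadraticMap.polar_smul_right, h.polar_up, self he, self hf,
      self he', self hf', a1, sym a1, a2, sym a2, b1, sym b1, b2, sym b2, b3, sym b3, b4, sym b4,
      ZeroMemClass.coe_zero, OneMemClass.coe_one, smul_eq_mul]
    module)
  set K : Submodule F₀ (ι → F₀) := Submodule.span F₀ {e, f, e', f'} with hKdef
  have hmemK : ∀ u ∈ ({e, f, e', f'} : Set (ι → F₀)), up u ∈ spanF K := fun u hu =>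
    up_mem_spanF (Submodule.subset_span hu)
  have hneg : ∀ u ∈ ({e, f, e', f'} : Set (ι → F₀)), mat Q i *ᵥ up u = -up u := by
    intro u hu
    rw [hI]
    simp only [Set.mem_insert_iff, Set.mem_singleton_iff] at hu
    rcases hu with rfl | rfl | rfl | rfl <;>
      simp only [h.polar_up, self he, self hf, self he', self hf', a1, sym a1, a2, sym a2, b1, sym b1,
        b2, sym b2, b3, sym b3, b4, sym b4, ZeroMemClass.coe_zero, OneMemClass.coe_one] <;>
      module
  have hirng : spanF K = rng i := by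
    refine le_antisymm ((spanF_span_le _).trans (Submodule.span_le.2 ?_)) (rng_le fun x => ?_)
    · rintro _ ⟨u, hu, rfl⟩
      refine mem_rng.2 ⟨(-2 : F)⁻¹ • up u, ?_⟩
      rw [mulVec_smul, hneg u hu]
      match_scalars
      field_simp
      ring
    · rw [hI, show ∀ a b c d : ι → F, x - a - b - c - d - x = -a + -b + -c + -d from
        fun a b c d => by abel]
      refine Submodule.add_mem _ (Submodule.add_mem _ (Submodule.add_mem _ ?_ ?_) ?_) ?_ <;>
        exact Submodule.neg_mem _ (Submodule.smul_mem _ _ (hmemK _ (by simp)))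
  have hK3 : 3 ≤ finrank F₀ K := by
    have n2 : f ∉ Submodule.span F₀ {e} := fun hm => by
      obtain ⟨c, hc⟩ := Submodule.mem_span_singleton.1 hm
      rw [← hc, QuadraticMap.polar_smul_left, self he, smul_zero] at hfe
      exact zero_ne_one hfe
    exact (three_le_finrank he0 n2 he'S).trans
      (Submodule.finrank_mono (Submodule.span_mono (by simp [Set.insert_subset_iff])))
  have hK4 : finrank F₀ K ≤ 4 := finrank_span_four_le e f e' f'
  -- involutions moving a plane are rational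
  have hclaim : ∀ t ∈ M, t * t = 1 → finrank F (rng t) ≤ 2 → InK F₀ t := by
    intro t ht htt htr
    rcases hs.inK_or_plane hR hsqr hn8 ht htt htr hiM hii hirng hK3 hK4
      (Submodule.subset_span (by simp : e ∈ ({e, f, e', f'} : Set (ι → F₀)))) he0 he with
      hin | ⟨P, hPd, hPa, htP, hiP⟩
    · exact hin
    -- a rational root element moving the plane
    obtain ⟨e₀, he₀, w₀, hw₀, hwq, hw₀0, hmove⟩ : ∃ e₀ ∈ ({e, f, e', f'} : Set (ι → F₀)),
        ∃ w₀ ∈ qperp Q₀ K, Q₀ w₀ = 0 ∧ w₀ ≠ 0 ∧ ∃ u ∈ P, 𝔅₀ e₀ u ≠ 0 ∨ 𝔅₀ w₀ u ≠ 0 := by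
      by_contra! hall
      obtain ⟨u, hu, hu0⟩ := Submodule.exists_mem_ne_zero_of_ne_bot (p := P) fun hb => by
        rw [hb, finrank_bot] at hPd; omega
      obtain ⟨w₁, hw₁, hw₁0, hw₁q⟩ := exists_singular h.nd₀ (qperp Q₀ K)
        (by rw [h.le_finrank_qperp]; omega)
      have huK : u ∈ qperp Q₀ K := by
        rw [hKdef, mem_qperp_span]
        exact fun a ha => (hall a ha w₁ hw₁ hw₁q hw₁0 u hu).1
      have hz : ∃ z ∈ qperp Q₀ K, z ∉ K ∧ Q₀ z = 0 := by
        refine h.exists_sing_outside' ?_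
        have hbot : qperp Q₀ K ⊓ K = ⊥ := (Submodule.eq_bot_iff _).2 fun x hx => by
          obtain ⟨hx1, hx2⟩ := hx
          rw [SetLike.mem_coe, hKdef, mem_qperp_span] at hx1
          rw [SetLike.mem_coe, hKdef, Submodule.mem_span_insert] at hx2
          obtain ⟨c1, y, hy, rfl⟩ := hx2
          obtain ⟨c2, c3, c4, rfl⟩ := Submodule.mem_span_triple.1 hy
          have k1 := hx1 f (by simp)
          have k2 := hx1 e (by simp)
          have k3 := hx1 f' (by simp)
          have k4 := hx1 e' (by simp)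
          simp [QuadraticMap.polar_add_right, QuadraticMap.polar_smul_right, self he, self hf, self he',
            self hf', a1, sym a1, a2, sym a2, b1, sym b1, b2, sym b2, b3, sym b3, b4, sym b4] at k1 k2 k3 k4
          simp [k1, k2, k3, k4]
        rw [hbot, finrank_bot]
        omega
      obtain ⟨z, hz, hzK, hzq⟩ := hz
      have huK' : u ∉ K := fun hm => by
        refine hu0 (hPa u hu ?_)
        have h1 := mem_qperp.1 huK u hm
        rw [QuadraticMap.polar_self, nsmul_eq_mul, Nat.cast_ofNat] at h1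
        exact (mul_eq_zero.1 h1).resolve_left fun h20 => h2 (by rw [← map_ofNat F₀.subtype 2, h20, map_zero])
      obtain ⟨q, hqK, hqq, hqu⟩ : ∃ q ∈ qperp Q₀ K, Q₀ q = 0 ∧ 𝔅₀ q u = 1 := by
        have hrad : ∀ x : ι → F₀, x ∉ K → ∃ y ∈ qperp Q₀ K, 𝔅₀ y x ≠ 0 := by
          intro x hx
          by_contra! hall'
          exact hx ((qperp_qperp h.nd₀ K) ▸ mem_qperp.2 hall')
        obtain ⟨x₀, hx₀, hzx⟩ := hrad z hzK
        obtain ⟨t', ht', htt'⟩ := hrad u huK'
        obtain ⟨q, hq', hqq, hqt⟩ := exists_singular_pairing hz hzq hx₀ hzx ht' htt'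
        exact ⟨(𝔅₀ q u)⁻¹ • q, Submodule.smul_mem _ _ hq',
          by rw [QuadraticMap.map_smul, hqq, smul_zero],
          by rw [QuadraticMap.polar_smul_left, smul_eq_mul, inv_mul_cancel₀ hqt]⟩
      refine one_ne_zero (hqu ▸ (hall e (by simp) q hqK hqq (fun e0 => ?_) u hu).2)
      rw [e0, QuadraticMap.polar_zero_left] at hqu
      exact zero_ne_one hqu
    have hew : 𝔅₀ e₀ w₀ = 0 := mem_qperp.1 hw₀ e₀ (Submodule.subset_span he₀)
    have heq₀ : Q₀ e₀ = 0 := by
      simp only [Set.mem_insert_iff, Set.mem_singleton_iff] at he₀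
      rcases he₀ with rfl | rfl | rfl | rfl <;> assumption
    set x := eichIso Q (up e₀) (up w₀) (hQ heq₀) (hP hew) with hx
    have hxM : x ∈ M := (hs.root_rat heq₀ hew).iso _ _
    set k' := x * i * x⁻¹ with hk'
    have hk'M : k' ∈ M := mul_mem (mul_mem hxM hiM) (inv_mem hxM)
    have hk'k' : k' * k' = 1 := by
      rw [hk', show x * i * x⁻¹ * (x * i * x⁻¹) = x * (i * i) * x⁻¹ by group, hii]; group
    have hk'rat : RatMat F₀ (mat Q k') := by
      have hixrat : InK F₀ k' := ((InK.of_rat (h.ratMat_eich e₀ w₀)).mul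
        (InK.of_rat (((hrefl na).mul (hrefl nc)).mul ((hrefl nb).mul (hrefl ne'))))).mul
          (InK.of_rat (h.ratMat_eich e₀ w₀)).inv
      exact h.ratMat_of_inK hsqr hixrat
    obtain ⟨K', hK'⟩ := exists_spanF_range hk'rat.sub_one
    change spanF K' = rng k' at hK'
    have hr' : finrank F₀ K' = finrank F₀ K := by
      rw [← finrank_spanF K, hirng, ← finrank_spanF K', hK']
      exact (finrank_rng_eq (x := x) (k := i) (g := 1) (i := k') (by simp [hk'])).symm
    obtain ⟨a', ha', ha'0, ha'q⟩ := exists_singular h.nd₀ K' (by omega)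
    rcases hs.inK_or_plane hR hsqr hn8 ht htt htr hk'M hk'k' hK' (by omega) (by omega) ha' ha'0 ha'q
      with hin | ⟨P', hP'd, hP'a, htP', hk'P'⟩
    · exact hin
    have hne : P' ≠ P := by
      rintro rfl
      have hxx : ∀ y ∈ spanF P', mat Q (x * x) *ᵥ y ∈ spanF P' := fun y hy => by
        have hfix : mat Q i *ᵥ up w₀ = up w₀ := by
          rw [hI]
          have hz : ∀ a ∈ ({e, f, e', f'} : Set (ι → F₀)), 𝔅 (up a) (up w₀) = 0 := fun a ha =>
            hP (mem_qperp.1 hw₀ a (Submodule.subset_span ha))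
          rw [hz e (by simp), hz f (by simp), hz e' (by simp), hz f' (by simp)]
          simp
        have e1 : i * x⁻¹ * i = x := by
          have h3 : i * x * i = x⁻¹ := by
            refine eq_inv_of_mul_eq_one_right ?_
            refine mat_ext Q (Matrix.ext_iff_mulVec.2 fun y => ?_)
            have hsym : ∀ z, 𝔅 (up e₀) (mat Q i *ᵥ z) = -𝔅 (up e₀) z ∧
                𝔅 (up w₀) (mat Q i *ᵥ z) = 𝔅 (up w₀) z := fun z => by
              refine ⟨?_, ?_⟩
              · have := polar_mulVec Q i (up e₀) z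
                rw [hneg e₀ he₀, QuadraticMap.polar_neg_left, neg_eq_iff_eq_neg] at this
                exact this
              · have := polar_mulVec Q i (up w₀) z
                rwa [hfix] at this
            have hcomp : mat Q i *ᵥ (mat Q i *ᵥ y) = y := by
              rw [mulVec_mulVec, ← mat_mul, hii, mat_one, one_mulVec]
            have e3 : mat Q (i * x * i) *ᵥ y = y - 𝔅 (up e₀) y • up w₀ + 𝔅 (up w₀) y • up e₀ := by
              rw [mat_mul, mat_mul, ← mulVec_mulVec, ← mulVec_mulVec, hx, mat_eichIso,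
                eich_mulVec (up e₀) (up w₀), (hsym y).1, (hsym y).2, hQ hwq]
              simp only [mulVec_add, mulVec_sub, mulVec_smul, hneg e₀ he₀, hfix, hcomp]
              module
            rw [mat_mul, ← mulVec_mulVec, e3, mat_one, one_mulVec, hx, mat_eichIso, eich_mulVec, hQ hwq]
            simp only [QuadraticMap.polar_add_right, QuadraticMap.polar_sub_right,
              QuadraticMap.polar_smul_right, h.polar_up, self heq₀, self hwq, hew, sym hew,
              ZeroMemClass.coe_zero, smul_eq_mul]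
            module
          rw [← h3, show i * (i * x * i) * i = (i * i) * x * (i * i) by group, hii, one_mul, mul_one]
        rw [show x * x = k' * i by
          rw [hk', show x * i * x⁻¹ * i = x * (i * x⁻¹ * i) by group, e1], mat_mul, ← mulVec_mulVec]
        exact hk'P' _ (hiP _ hy)
      obtain ⟨u, hu, hu'⟩ := hmove
      have h1 := hxx _ (up_mem_spanF hu)
      have e2 : mat Q (x * x) *ᵥ up u = up (u + ((2 * 𝔅₀ e₀ u) • w₀ - (2 * 𝔅₀ w₀ u) • e₀)) := by
        rw [mat_mul, ← mulVec_mulVec, hx, mat_eichIso, eich_mulVec, eich_mulVec]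
        simp only [QuadraticMap.polar_add_right, QuadraticMap.polar_sub_right,
          QuadraticMap.polar_smul_right, hQ hwq, h.polar_up, self heq₀, self hwq, hew, sym hew, up_add,
          up_sub, up_smul, ZeroMemClass.coe_zero, smul_eq_mul]
        push_cast
        rw [show ((2 : F₀) : F) = 2 from map_ofNat F₀.subtype 2]
        module
      rw [e2] at h1
      have h3 := P'.sub_mem (mem_of_up_mem h1) hu
      rw [add_sub_cancel_left] at h3
      have h4 := hP'a _ h3 (by
        rw [sub_eq_add_neg, ← neg_smul, QuadraticMap.map_add (⇑Q₀), QuadraticMap.map_smul,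
          QuadraticMap.map_smul, QuadraticMap.polar_smul_left, QuadraticMap.polar_smul_right, hwq,
          heq₀, sym hew]
        simp)
      have h20 : (2 : F₀) ≠ 0 := fun e0 => h2 (by rw [← map_ofNat F₀.subtype 2, e0, map_zero])
      obtain ⟨p, hp, hp1⟩ : ∃ p ∈ ({e, f, e', f'} : Set (ι → F₀)), 𝔅₀ p e₀ = 1 := by
        simp only [Set.mem_insert_iff, Set.mem_singleton_iff] at he₀
        rcases he₀ with rfl | rfl | rfl | rfl
        · exact ⟨f, by simp, sym a1⟩
        · exact ⟨e, by simp, a1⟩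
        · exact ⟨f', by simp, sym a2⟩
        · exact ⟨e', by simp, a2⟩
      have h5 := congrArg (QuadraticMap.polar (⇑Q₀) p) h4
      rw [QuadraticMap.polar_sub_right, QuadraticMap.polar_smul_right, QuadraticMap.polar_smul_right,
        mem_qperp.1 hw₀ p (Submodule.subset_span hp), hp1, QuadraticMap.polar_zero_right] at h5
      have hwu : 𝔅₀ w₀ u = 0 := by simpa [h20] using h5
      rw [hwu, mul_zero, zero_smul, sub_zero, smul_eq_zero] at h4
      rcases hu' with heu | hw
      · rcases h4 with h4 | h4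
        · exact heu ((mul_eq_zero.1 h4).resolve_left h20)
        · exact hw₀0 h4
      · exact hw hwu
    have hsum : ∀ y ∈ spanF (P ⊔ P'), mat Q t *ᵥ y ∈ spanF (P ⊔ P') := fun y hy => by
      rw [← spanF_sup] at hy ⊢
      obtain ⟨p, hp, r, hr, rfl⟩ := Submodule.mem_sup.1 hy
      rw [mulVec_add]
      exact Submodule.add_mem_sup (htP p hp) (htP' r hr)
    have hlt : finrank F₀ P < finrank F₀ (P ⊔ P' : Submodule F₀ (ι → F₀)) :=
      Submodule.finrank_lt_finrank_of_lt (lt_of_le_of_ne le_sup_left fun e0 => hne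
        (Submodule.eq_of_le_of_finrank_eq (e0 ▸ le_sup_right) (by omega)))
    obtain ⟨a, ha, ha0, haq⟩ := exists_singular h.nd₀ (P ⊔ P') (by omega)
    exact hs.inK_of_stable hR hsqr ht hsum (by
      have := Submodule.finrank_add_le_finrank_add_finrank P P'
      omega) ha ha0 haq
  -- the product of two of them moves a four-dimensional space
  have hconj : ∀ {a : Isom Q}, a ∈ M → a * a = 1 → finrank F (rng a) ≤ 2 → InK F₀ (g * a * g⁻¹) :=
    fun {a} ha haa har => hclaim _ (mul_mem (mul_mem hg ha) (inv_mem hg))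
      (by rw [show g * a * g⁻¹ * (g * a * g⁻¹) = g * (a * a) * g⁻¹ by group, haa]; group)
      ((finrank_rng_conj g a).trans har)
  have htK : InK F₀ (g * i * g⁻¹) := by
    rw [hi, show g * (i2 * i3) * g⁻¹ = g * i2 * g⁻¹ * (g * i3 * g⁻¹) by group]
    exact (hconj hi2M hi22 hr2).mul (hconj hi3M hi33 hr3)
  obtain ⟨R, hR'⟩ := exists_spanF_range (h.ratMat_of_inK hsqr htK).sub_one
  change spanF R = rng (g * i * g⁻¹) at hR'
  refine hs.inK_of_maps hR hsqr hg (W := K) (W' := R) (fun x hx => ?_) hK3 ?_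
    (Submodule.subset_span (by simp : e ∈ ({e, f, e', f'} : Set (ι → F₀)))) he0 he
  · rw [hirng] at hx
    obtain ⟨z, rfl⟩ := mem_rng.1 hx
    rw [hR']
    refine mem_rng.2 ⟨mat Q g *ᵥ z, ?_⟩
    rw [mat_mul, mat_mul, ← mulVec_mulVec, ← mulVec_mulVec, inv_mat_mulVec, ← mulVec_sub]
  · have h1 := finrank_rng_conj g i
    rw [← hR', ← hirng, finrank_spanF, finrank_spanF] at h1
    omega

/-- The case of characteristic two. -/
theorem inK_of_two (h2 : (2 : F) = 0) {g : Isom Q} (hg : g ∈ M) : InK F₀ g := by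
  haveI : CharP F 2 := CharTwo.of_one_ne_zero_of_two_eq_zero one_ne_zero h2
  have h20 : (2 : F₀) = 0 := Subtype.ext h2
  haveI : CharP F₀ 2 := CharTwo.of_one_ne_zero_of_two_eq_zero one_ne_zero h20
  have h := hs.data
  have hQ : ∀ {u : ι → F₀}, Q₀ u = 0 → Q (up u) = 0 := h.quad_up_zero
  have hP : ∀ {u v : ι → F₀}, 𝔅₀ u v = 0 → 𝔅 (up u) (up v) = 0 := h.polar_up_zero
  have sym : ∀ {u v : ι → F₀} {c : F₀}, 𝔅₀ u v = c → 𝔅₀ v u = c := fun e => by
    rw [QuadraticMap.polar_comm]; exact e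
  have self : ∀ u : ι → F₀, 𝔅₀ u u = 0 := fun u => by
    rw [QuadraticMap.polar_self, nsmul_eq_mul, Nat.cast_ofNat, h20, zero_mul]
  obtain ⟨e, -, he0, he⟩ := exists_singular h.nd₀ (⊤ : Submodule F₀ (ι → F₀))
    (by rw [finrank_top, finrank_fintype_fun_eq_card]; omega)
  obtain ⟨f, -, hf, hfe⟩ := h.exists_sing_pair (S := (⊥ : Submodule F₀ (ι → F₀)))
    (by simp) (by simpa using he0)
  obtain ⟨e2, he2K, he2S, he2⟩ := h.exists_sing_outside (S := Submodule.span F₀ {e, f})
    (finrank_span_two_le e f)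
  obtain ⟨f2, hf2K, hf2, hf2e⟩ := h.exists_sing_pair (finrank_span_two_le e f) he2S
  rw [mem_qperp_span] at he2K hf2K
  have b1 : 𝔅₀ e e2 = 0 := he2K e (by simp)
  have b3 : 𝔅₀ e f2 = 0 := hf2K e (by simp)
  set v := e2 + f2 with hv
  have hev : 𝔅₀ e v = 0 := by rw [hv, QuadraticMap.polar_add_right, b1, b3, add_zero]
  have hvq : Q₀ v = 1 := by rw [hv, QuadraticMap.map_add (⇑Q₀), he2, hf2, sym hf2e]; simp
  have hqv : Q (up v) = 1 := by rw [← h.quad, hvq]; rfl
  have hqve : Q (up (v + e)) = 1 := by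
    rw [← h.quad, QuadraticMap.map_add (⇑Q₀), hvq, he, sym hev]; simp
  have nv : Q (up v) ≠ 0 := by rw [hqv]; exact one_ne_zero
  have nve : Q (up (v + e)) ≠ 0 := by rw [hqve]; exact one_ne_zero
  set i := eichIso Q (up e) (up e2) (hQ he) (hP b1) with hi
  set k := reflIso Q (up v) nv * reflIso Q (up (v + e)) nve with hk
  have hiM : i ∈ M := (hs.root_rat he b1).iso _ _
  have hII : i * i = 1 := mat_ext Q (by
    rw [hi, mat_mul, mat_eichIso, eich_mul (hQ he) (hP b1) (hP b1),
      show up e2 + up e2 = 0 by rw [← two_smul F (up e2), h2, zero_smul], eich_zero, mat_one])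
  have hI : ∀ x, mat Q i *ᵥ x = x + (𝔅 (up e) x • up e2 - 𝔅 (up e2) x • up e) := fun x => by
    rw [hi, mat_eichIso, eich_mulVec, hQ he2]; simp
  have hrefl : ∀ {w : ι → F₀} (hw : Q (up w) ≠ 0), RatMat F₀ (mat Q (reflIso Q (up w) hw)) :=
    fun {w} hw => ratMat_of_up fun u => ⟨u - ((Q₀ w)⁻¹ * 𝔅₀ w u) • w, by
      rw [mat_reflIso, reflectionMatrix_mulVec, refl_apply, up_sub, up_smul, ← h.quad, h.polar_up]
      push_cast
      rfl⟩
  have hkM : k ∈ M := hs.mem_of_rat ((mem_omega_iff_even h.nd (Or.inr (by omega))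
    ((IsReflProd.reflIso _ nv).mul (IsReflProd.reflIso _ nve))).2
      ⟨by simp, FiniteField.isSquare_of_char_two (ringChar.eq F 2) _⟩) ((hrefl nv).mul (hrefl nve))
  have hK2 : ∀ x, mat Q k *ᵥ x = x + (𝔅 (up v) x • up v + 𝔅 (up (v + e)) x • up (v + e)) := fun x => by
    rw [hk, mat_mul, ← mulVec_mulVec]
    simp only [mat_reflIso, reflectionMatrix_mulVec, refl_apply, hqv, hqve, inv_one, one_mul,
      QuadraticMap.polar_sub_right, QuadraticMap.polar_smul_right, h.polar_up,
      QuadraticMap.polar_add_right, self, hev, sym hev, ZeroMemClass.coe_zero, smul_eq_mul, add_zero,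
      mul_zero, sub_zero]
    match_scalars <;> simp [CharTwo.neg_eq]
  have hkk : k * k = 1 := mat_ext Q (Matrix.ext_iff_mulVec.2 fun x => by
    rw [mat_mul, ← mulVec_mulVec, hK2, hK2, mat_one, one_mulVec]
    simp only [QuadraticMap.polar_add_right, QuadraticMap.polar_smul_right, h.polar_up, self, hev, sym hev,
      QuadraticMap.polar_add_left, up_add, ZeroMemClass.coe_zero, smul_zero, add_zero]
    rw [add_assoc, ← two_smul F (_ + _), h2, zero_smul, add_zero])
  have hve : v ∉ Submodule.span F₀ {e} := fun hm => by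
    obtain ⟨c, hc⟩ := Submodule.mem_span_singleton.1 hm
    rw [← hc, QuadraticMap.map_smul, he, smul_zero] at hvq
    exact zero_ne_one hvq
  have hne : ∀ c : F₀, c • e ≠ v := fun c hc => hve (Submodule.mem_span_singleton.2 ⟨c, hc⟩)
  obtain ⟨w₁, hw1e, hw1v⟩ := AschbacherQuad.exists_pairing_pair (isNondeg h.nd₀) he0 hne 1 1
  obtain ⟨w₂, hw2e, hw2v⟩ := AschbacherQuad.exists_pairing_pair (isNondeg h.nd₀) he0 hne 1 0
  have m1 : up v ∈ rng k := mem_rng.2 ⟨up w₁, by
    rw [hK2, add_sub_cancel_left, h.polar_up, h.polar_up, show 𝔅₀ v w₁ = 1 from sym hw1v,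
      QuadraticMap.polar_add_left, show 𝔅₀ v w₁ = 1 from sym hw1v, show 𝔅₀ e w₁ = 1 from sym hw1e,
      CharTwo.add_self_eq_zero]
    simp⟩
  have m2 : up (v + e) ∈ rng k := mem_rng.2 ⟨up w₂, by
    rw [hK2, add_sub_cancel_left, h.polar_up, h.polar_up, show 𝔅₀ v w₂ = 0 from sym hw2v,
      QuadraticMap.polar_add_left, show 𝔅₀ v w₂ = 0 from sym hw2v, show 𝔅₀ e w₂ = 1 from sym hw2e,
      zero_add]
    simp⟩
  have hrk : rng k ≤ spanF (Submodule.span F₀ {v, v + e}) := rng_le fun x => by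
    rw [hK2, add_sub_cancel_left]
    exact Submodule.add_mem _ (Submodule.smul_mem _ _ (up_mem_spanF (Submodule.subset_span (by simp))))
      (Submodule.smul_mem _ _ (up_mem_spanF (Submodule.subset_span (by simp))))
  have hr1 : rng i ≤ spanF (Submodule.span F₀ {e, e2}) := rng_le fun x => by
    rw [hI, add_sub_cancel_left]
    exact Submodule.sub_mem _ (Submodule.smul_mem _ _ (up_mem_spanF (Submodule.subset_span (by simp))))
      (Submodule.smul_mem _ _ (up_mem_spanF (Submodule.subset_span (by simp))))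
  have hdi : finrank F (rng i) ≤ 2 :=
    (Submodule.finrank_mono hr1).trans ((finrank_spanF _).trans_le (finrank_span_two_le e e2))
  set t := g * i * g⁻¹ with ht
  have htM : t ∈ M := mul_mem (mul_mem hg hiM) (inv_mem hg)
  have htt : t * t = 1 := by
    rw [ht, show g * i * g⁻¹ * (g * i * g⁻¹) = g * (i * i) * g⁻¹ by group, hII]; group
  have hnc : ∀ x : Isom Q, x * k * x⁻¹ ≠ t := by
    intro x hx
    have hzero : ∀ z ∈ rng i, Q z = 0 := by
      intro z hz
      have hz' := (spanF_span_le _) (hr1 hz)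
      rw [Set.image_pair] at hz'
      obtain ⟨p, r, rfl⟩ := Submodule.mem_span_pair.1 hz'
      simp [QuadraticMap.map_add (⇑Q), QuadraticMap.map_smul, QuadraticMap.polar_smul_left,
        QuadraticMap.polar_smul_right, hQ he, hQ he2, hP b1]
    obtain ⟨z, hz⟩ := mem_rng.1 m1
    have hmem : mat Q g⁻¹ *ᵥ (mat Q x *ᵥ up v) ∈ rng i := by
      refine mem_rng.2 ⟨mat Q g⁻¹ *ᵥ (mat Q x *ᵥ z), ?_⟩
      have e1 : mat Q t *ᵥ (mat Q x *ᵥ z) = mat Q x *ᵥ (mat Q k *ᵥ z) := by
        rw [← hx, mat_mul, mat_mul, ← mulVec_mulVec, ← mulVec_mulVec, inv_mat_mulVec]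
      rw [ht, mat_mul, mat_mul, ← mulVec_mulVec, ← mulVec_mulVec] at e1
      rw [← hz, mulVec_sub, mulVec_sub, ← e1, inv_mat_mulVec]
    have := hzero _ hmem
    rw [quad_mulVec, quad_mulVec] at this
    exact nv this
  obtain ⟨m, hm1, hmt, hmk⟩ := exists_central_of_not_conj htt hkk hnc
  set j := (t * k) ^ m with hj
  have hjM : j ∈ M := pow_mem (mul_mem htM hkM) m
  have hjj : j * j = 1 := hs.central_invol hsqr htt hkk hmt
  have hjr : finrank F (rng j) ≤ 4 := by
    have h1 := Submodule.finrank_mono ((rng_pow_le (t * k) m).trans (rng_mul_le t k))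
    have h3 := Submodule.finrank_add_le_finrank_add_finrank (rng t) (rng k)
    have h4 := finrank_rng_conj g i
    have h5 := (Submodule.finrank_mono hrk).trans ((finrank_spanF _).trans_le (finrank_span_two_le v (v + e)))
    rw [← ht] at h4
    rw [hj]
    omega
  have heK : e ∈ Submodule.span F₀ ({v, v + e} : Set (ι → F₀)) := by
    rw [show e = (v + e) - v by rw [add_sub_cancel_left]]
    exact Submodule.sub_mem _ (Submodule.subset_span (by simp)) (Submodule.subset_span (by simp))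
  have hjrat : RatMat F₀ (mat Q j) := h.ratMat_of_inK hsqr
    (hs.mem_of_image hR hjM he0 he (D := Submodule.span F₀ {v, v + e})
      (by have := finrank_span_two_le (F₀ := F₀) v (v + e); omega)
      (hrk (mulVec_mem_rng hmk.symm (by
        have := Submodule.sub_mem _ m2 m1
        rwa [← up_sub, add_sub_cancel_left] at this))))
  obtain ⟨R, hR'⟩ := exists_spanF_range hjrat.sub_one
  change spanF R = rng j at hR'
  have hRd : finrank F₀ R ≤ 4 := by rw [← finrank_spanF R, hR']; exact hjr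
  have hpolar : ∀ a ∈ R, ∀ b ∈ R, 𝔅₀ a b = 0 := by
    intro a ha b hb
    obtain ⟨x, hx⟩ := mem_rng.1 (hR' ▸ up_mem_spanF ha : up a ∈ rng j)
    have hfix : mat Q j *ᵥ up b = up b := by
      rw [mulVec_rng_eq_neg hjj (hR' ▸ up_mem_spanF hb)]
      funext p
      simp [CharTwo.neg_eq]
    refine Subtype.ext ?_
    rw [← h.polar_up, ← hx, QuadraticMap.polar_sub_left]
    nth_rw 1 [← hfix]
    rw [polar_mulVec, sub_self]
    rfl
  obtain ⟨c, hcR, hc0, hcq⟩ : ∃ c ∈ R, c ≠ 0 ∧ Q₀ c = 0 := by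
    by_contra! hall
    have hRa : ∀ a ∈ R, Q₀ a = 0 → a = 0 := fun a ha hq => by_contra fun h0 => hall a ha h0 hq
    have h2R := hs.two_le_of_anis hsqr hjM hm1 hR' hRa
    obtain ⟨a, ha, ha0⟩ := Submodule.exists_mem_ne_zero_of_ne_bot (p := R) fun hb => by
      rw [hb, finrank_bot] at h2R; omega
    obtain ⟨b, hb, hba⟩ : ∃ b ∈ R, b ∉ Submodule.span F₀ {a} := by
      by_contra! hle
      have h3 := Submodule.finrank_mono (hle : R ≤ _)
      rw [finrank_span_singleton ha0] at h3
      omega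
    obtain ⟨d, hd⟩ := FiniteField.isSquare_of_char_two (ringChar.eq F₀ 2) (Q₀ b / Q₀ a)
    refine hba (Submodule.mem_span_singleton.2 ⟨-d, ?_⟩)
    have h4 := hRa _ (R.add_mem (R.smul_mem d ha) hb) (by
      rw [QuadraticMap.map_add (⇑Q₀), QuadraticMap.map_smul, QuadraticMap.polar_smul_left,
        hpolar a ha b hb, smul_zero, add_zero, ← hd, smul_eq_mul,
        div_mul_cancel₀ _ fun hq => ha0 (hRa a ha hq), CharTwo.add_self_eq_zero])
    rw [neg_smul, eq_neg_of_add_eq_zero_right h4]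
  have htK : InK F₀ t := hs.inK_of_stable hR hsqr htM
    (fun x hx => hR' ▸ mulVec_mem_rng hmt (hR' ▸ hx)) (by omega) hcR hc0 hcq
  obtain ⟨T, hT⟩ := exists_spanF_range (h.ratMat_of_inK hsqr htK).sub_one
  change spanF T = rng t at hT
  obtain ⟨x, hx⟩ : ∃ x, mat Q i *ᵥ x - x = up e := by
    obtain ⟨w, hwe, hwe2⟩ := AschbacherQuad.exists_pairing_pair (isNondeg h.nd₀) he0
      (fun c (hc : c • e = e2) => he2S (hc ▸ Submodule.smul_mem _ _ (Submodule.subset_span (by simp)))) 0 1
    refine ⟨-up w, ?_⟩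
    rw [hI, add_sub_cancel_left, QuadraticMap.polar_neg_right, QuadraticMap.polar_neg_right, h.polar_up,
      h.polar_up, show 𝔅₀ e w = 0 from sym hwe, show 𝔅₀ e2 w = 1 from sym hwe2]
    simp
  refine hs.mem_of_image hR hg he0 he (D := T) ?_ ?_
  · have h1 := finrank_rng_conj g i
    rw [← ht, ← hT, finrank_spanF] at h1
    omega
  · rw [hT]
    refine mem_rng.2 ⟨mat Q g *ᵥ x, ?_⟩
    rw [ht, mat_mul, mat_mul, ← mulVec_mulVec, ← mulVec_mulVec, inv_mat_mulVec, ← mulVec_sub, hx]

/-- Every element of a rigid subgroup is rational up to a scalar, in dimension eight. -/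
theorem inK_of_rigid_eight {g : Isom Q} (hg : g ∈ M) : InK F₀ g := by
  by_cases h2 : (2 : F) = 0
  · exact hs.inK_of_two hR hsqr hn8 h2 hg
  · exact hs.inK_of_odd hR hsqr hn8 h2 hg

end Setting

end CfsgLib.OrthSubfield
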