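import Cfsg.Agent.OrthSubfield.Rigid
import Cfsg.Agent.Forms.OrthDet

/-!
# Rational involutions

An involution of `Ω` moving at most a six-dimensional space which is rational up to a scalar is rational,
provided it negates some rational vector when it moves exactly a six-dimensional one.
-/

set_option autoImplicit false
set_option linter.unusedSectionVars false
set_option maxHeartbeats 400000

namespace CfsgLib.OrthSubfield

open Matrix Module CfsgLib.Spinor CfsgLib.Forms CfsgLib.MaxSub CfsgLib.OrthMax Cfsg.Geo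

variable {F : Type*} [Field F] [Fintype F] {ι : Type} [Fintype ι] [DecidableEq ι] {F₀ : Subfield F}
  [Fintype F₀] {Q : QuadraticForm F (ι → F)} {Q₀ : QuadraticForm F₀ (ι → F₀)}

/-- An involution negates what it moves. -/
theorem mulVec_rng_eq_neg {j : Isom Q} (hjj : j * j = 1) {u : ι → F} (hu : u ∈ rng j) :
    mat Q j *ᵥ u = -u := by
  obtain ⟨x, rfl⟩ := mem_rng.1 hu
  rw [mulVec_sub, mulVec_mulVec, ← mat_mul, hjj, mat_one, one_mulVec, neg_sub]

/-- The determinant of a map negating one summand and fixing the other. -/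
theorem det_of_compl {V : Type*} [AddCommGroup V] [Module F V] [FiniteDimensional F V] {U W : Submodule F V}
    (hc : IsCompl U W) {f : V →ₗ[F] V} (hU : ∀ u ∈ U, f u = -u) (hW : ∀ w ∈ W, f w = w) :
    LinearMap.det f = (-1) ^ finrank F U := by
  let e := Submodule.prodEquivOfIsCompl U W hc
  have he : ∀ p : U × W, e p = (p.1 : V) + p.2 := fun p => rfl
  have hconj : f = (e : (U × W) →ₗ[F] V) ∘ₗ
      (((-1 : F) • LinearMap.id : U →ₗ[F] U).prodMap (LinearMap.id : W →ₗ[F] W)) ∘ₗ
      (e.symm : V →ₗ[F] (U × W)) := by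
    refine LinearMap.ext fun x => ?_
    obtain ⟨⟨u, w⟩, rfl⟩ := e.surjective x
    rw [LinearMap.comp_apply, LinearMap.comp_apply, LinearEquiv.coe_coe, LinearEquiv.coe_coe,
      e.symm_apply_apply, LinearMap.prodMap_apply, he, he, map_add, hU u u.2, hW w w.2,
      LinearMap.smul_apply, LinearMap.id_apply, LinearMap.id_apply, Submodule.coe_smul, neg_one_smul]
  rw [hconj, LinearMap.det_conj, LinearMap.det_prodMap, LinearMap.det_smul, LinearMap.det_id, LinearMap.det_id,
    mul_one, mul_one]

/-- The determinant of an involution in odd characteristic. -/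
theorem det_of_invol (h2 : (2 : F) ≠ 0) {j : Isom Q} (hjj : j * j = 1) :
    (mat Q j).det = (-1) ^ finrank F (rng j) := by
  obtain ⟨f, hf⟩ : ∃ f : (ι → F) →ₗ[F] (ι → F), f = Matrix.mulVecLin (mat Q j - 1) := ⟨_, rfl⟩
  have hf' : ∀ x, f x = mat Q j *ᵥ x - x := fun x => by
    rw [hf, mulVecLin_apply, sub_mulVec, one_mulVec]
  have hrng : rng j = LinearMap.range f := by rw [rng, hf]
  have hW : ∀ x ∈ LinearMap.ker f, mat Q j *ᵥ x = x := fun x hx => by
    rwa [LinearMap.mem_ker, hf', sub_eq_zero] at hx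
  have hU : ∀ x ∈ LinearMap.range f, mat Q j *ᵥ x = -x := fun x hx =>
    mulVec_rng_eq_neg hjj (hrng.symm ▸ hx)
  have hd : LinearMap.range f ⊓ LinearMap.ker f = ⊥ := by
    rw [Submodule.eq_bot_iff]
    rintro x ⟨hxU, hxW⟩
    have h1 := hU x hxU
    rw [hW x hxW] at h1
    have h3 : (2 : F) • x = 0 := by rw [two_smul]; exact eq_neg_iff_add_eq_zero.1 h1
    exact (smul_eq_zero.1 h3).resolve_left h2
  have hc : IsCompl (LinearMap.range f) (LinearMap.ker f) := ⟨disjoint_iff.2 hd, codisjoint_iff.2 (by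
    apply Submodule.eq_top_of_finrank_eq
    have h1 := LinearMap.finrank_range_add_finrank_ker f
    have h4 := Submodule.finrank_sup_add_finrank_inf_eq (LinearMap.range f) (LinearMap.ker f)
    rw [hd, finrank_bot] at h4
    omega)⟩
  rw [hrng, ← LinearMap.det_toLin']
  exact det_of_compl hc (fun u hu => (toLin'_apply (mat Q j) u).trans (hU u hu))
    (fun w hw => (toLin'_apply (mat Q j) w).trans (hW w hw))

namespace Data

variable (h : Data F₀ Q Q₀)
include h

/-- An involution of `Ω` rational up to a scalar with small moved space is rational. -/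
theorem ratMat_of_invol (hn10 : 10 ≤ Fintype.card ι) {j : Isom Q} (hΩ : j ∈ Cfsg.Omega F ⇑Q) (hjj : j * j = 1) (hK : InK F₀ j)
    (hr : finrank F (rng j) ≤ 6)
    (hv : finrank F (rng j) = 6 → ∃ v : ι → F₀, v ≠ 0 ∧ mat Q j *ᵥ up v = -up v) :
    RatMat F₀ (mat Q j) := by
  by_cases hsmall : 2 * finrank F (rng j) < Fintype.card ι
  · exact ratMat_of_small hK hsmall
  obtain ⟨c, hc, hB⟩ := mem_subfieldSubgroup_one_iff.1 hK
  suffices hcF : c ∈ F₀ by
    intro i k
    have h1 := F₀.mul_mem (F₀.inv_mem hcF) (hB i k)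
    rwa [Matrix.smul_apply, smul_eq_mul, inv_mul_cancel_left₀ hc] at h1
  by_cases h2 : (2 : F) = 0
  · -- the square of the scalar is rational
    haveI : Nonempty ι := Fintype.card_pos_iff.1 (by have := h.card; omega)
    obtain ⟨i⟩ := ‹Nonempty ι›
    have hsq : RatMat F₀ ((c • mat Q j) * (c • mat Q j)) := hB.mul hB
    have hcc : c * c ∈ F₀ := by
      have h1 := hsq i i
      rw [smul_mul_smul_comm, ← mat_mul, hjj, mat_one, Matrix.smul_apply, one_apply_eq, smul_eq_mul,
        mul_one] at h1
      exact h1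
    haveI : CharP F 2 := CharTwo.of_one_ne_zero_of_two_eq_zero one_ne_zero h2
    haveI : CharP F₀ 2 := CharTwo.of_one_ne_zero_of_two_eq_zero one_ne_zero (Subtype.ext h2)
    obtain ⟨d, hd⟩ := FiniteField.isSquare_of_char_two (ringChar.eq F₀ 2) (⟨c * c, hcc⟩ : F₀)
    have hd' : c * c = (d : F) * d := congrArg Subtype.val hd
    have h0 : (c + d) * (c + d) = 0 := by linear_combination hd' + ((d : F) * c + (d : F) * d) * h2
    have h1 := mul_self_eq_zero.1 h0
    rw [CharTwo.add_eq_zero] at h1
    exact h1 ▸ d.2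
  by_cases hbig : Fintype.card ι < 2 * finrank F (rng j)
  · -- the negative fixes a large space
    have hneg : ∀ x : GL ι F, ((-x : GL ι F) : Matrix ι ι F) = -(x : Matrix ι ι F) := fun x => Units.val_neg x
    have hmem : (-(j : GL ι F)) ∈ subfieldSubgroup F₀ (1 : GL ι F) := by
      refine mem_subfieldSubgroup_one_iff.2 ⟨-c, neg_ne_zero.2 hc, ?_⟩
      rw [hneg, neg_smul_neg]
      exact hB
    have hfix : rng j ≤ fixSp ((-(j : GL ι F) : GL ι F) : Matrix ι ι F) := fun u hu => by
      rw [mem_fixSp, hneg, neg_mulVec, show ((j : GL ι F) : Matrix ι ι F) = mat Q j from rfl,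
        mulVec_rng_eq_neg hjj hu, neg_neg]
    have h3 := ratMat_of_big_fix hmem (lt_of_lt_of_le hbig
      (Nat.mul_le_mul_left 2 (Submodule.finrank_mono hfix)))
    haveI : Nonempty ι := Fintype.card_pos_iff.1 (by have := h.card; omega)
    obtain ⟨i, k, hik⟩ : ∃ i k, mat Q j i k ≠ 0 := by
      by_contra! hall
      have h4 : mat Q j = 0 := Matrix.ext hall
      have h5 : mat Q (j * j) = 0 := by rw [mat_mul, h4, mul_zero]
      rw [hjj, mat_one] at h5
      exact one_ne_zero h5
    have h6 := F₀.div_mem (hB i k) (F₀.neg_mem (h3 i k))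
    rw [hneg, Matrix.neg_apply, neg_neg, Matrix.smul_apply, smul_eq_mul] at h6
    rwa [mul_div_cancel_right₀ _ hik] at h6
  have hn := h.card
  by_cases hr6 : finrank F (rng j) = 6
  · obtain ⟨v, hv0, hjv⟩ := hv hr6
    obtain ⟨i, hi⟩ := Function.ne_iff.1 hv0
    obtain ⟨w, hw⟩ := exists_up_mulVec hB v
    rw [smul_mulVec, hjv] at hw
    have h1 := congrFun hw i
    simp [up] at h1
    have hi' : ((v i : F₀) : F) ≠ 0 := fun e => hi (Subtype.ext e)
    have h3 := F₀.div_mem (F₀.neg_mem (w i).2) (v i).2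
    rwa [h1, neg_neg, mul_div_cancel_right₀ _ hi'] at h3
  · -- odd dimension of the moved space is impossible
    exfalso
    have h5 : finrank F (rng j) = 5 := by omega
    have hdet := det_of_invol h2 hjj
    rw [(mem_special_iff j).1 (omega_le_special hΩ), h5] at hdet
    exact h2 (by linear_combination hdet)

end Data

end CfsgLib.OrthSubfield
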