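import Cfsg.Agent.OrthSubfield.Spread
import Cfsg.Agent.OrthSubfield.Eight

/-!
# Subfield groups of orthogonal forms are maximal in `Ω`

A rational structure `P` of `ζ • Q` turns the subfield group of `P` into the matrices that are
rational up to a scalar for the form `ζ • Q ∘ P`, where the dichotomy applies.
-/

set_option autoImplicit false
set_option linter.unusedSectionVars false

namespace CfsgLib.OrthSubfield

open Matrix Module CfsgLib.Spinor CfsgLib.Forms CfsgLib.Forms4 CfsgLib.MaxSub CfsgLib.OrthMax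
  Cfsg.Geo

variable {F : Type*} [Field F] {ι : Type} [Fintype ι] [DecidableEq ι]

/-- Maximality is transported by an isomorphism. -/
theorem isMaximalIn_map {G G' : Type*} [Group G] [Group G'] (c : G ≃* G') {K H : Subgroup G}
    (h : IsMaximalIn K H) : IsMaximalIn (K.map c.toMonoidHom) (H.map c.toMonoidHom) := by
  refine ⟨(Subgroup.map_lt_map_iff_of_injective c.injective).2 h.1, fun M hHM hMK => ?_⟩
  have hM : (M.comap c.toMonoidHom).map c.toMonoidHom = M :=
    Subgroup.map_comap_eq_self_of_surjective c.surjective M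
  have hi : Function.Injective c.toMonoidHom := c.injective
  rcases h.2 (M.comap c.toMonoidHom) (Subgroup.map_le_iff_le_comap.1 hHM)
    ((Subgroup.map_le_map_iff_of_injective hi).1 (hM.le.trans hMK)) with e | e <;>
    [left; right] <;> rw [← hM, e]

theorem omegaGL_eq_commutator (Q : (ι → F) → F) :
    omegaGL Q = ⁅Cfsg.isometryGroup F Q, Cfsg.isometryGroup F Q⁆ := by
  rw [omegaGL]
  exact Subgroup.map_subtype_commutator _

variable [Fintype F]

/-- A subfield of odd prime index contains the square roots of its elements. -/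
theorem mem_of_sq_mem {F₀ : Subfield F} [Fintype F₀] {r : ℕ} (hr : r.Prime) (hodd : Odd r)
    (hcard : Fintype.card F = Nat.card F₀ ^ r) (c : F) (hc : c * c ∈ F₀) : c ∈ F₀ := by
  let A : Subalgebra F₀ F :=
    { carrier := {x | ∃ a b : F₀, x = a + b * c}
      mul_mem' := by
        rintro _ _ ⟨a, b, rfl⟩ ⟨a', b', rfl⟩
        exact ⟨a * a' + b * b' * ⟨c * c, hc⟩, a * b' + b * a', by push_cast; ring⟩
      add_mem' := by
        rintro _ _ ⟨a, b, rfl⟩ ⟨a', b', rfl⟩
        exact ⟨a + a', b + b', by push_cast; ring⟩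
      algebraMap_mem' := fun a => ⟨a, 0, by simp; rfl⟩ }
  have hfr : Module.finrank F₀ F = r := by
    have h1 := Module.card_eq_pow_finrank (K := F₀) (V := F)
    rw [hcard, Nat.card_eq_fintype_card] at h1
    exact (Nat.pow_right_injective Fintype.one_lt_card h1).symm
  haveI := Subalgebra.isSimpleOrder_of_finrank_prime F₀ F (hfr ▸ hr)
  rcases eq_bot_or_eq_top A with hA | hA
  · have h1 : c ∈ A := ⟨0, 1, by simp⟩
    rw [hA, Algebra.mem_bot] at h1
    obtain ⟨a, rfl⟩ := h1
    exact a.2
  · exfalso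
    have hle : Fintype.card F ≤ Nat.card F₀ ^ 2 := by
      have hsurj : Function.Surjective (fun p : F₀ × F₀ => ((p.1 : F) + p.2 * c)) := fun x => by
        obtain ⟨a, b, rfl⟩ : x ∈ A := hA.symm ▸ Algebra.mem_top
        exact ⟨(a, b), rfl⟩
      have := Fintype.card_le_of_surjective _ hsurj
      rwa [Fintype.card_prod, ← sq, ← Nat.card_eq_fintype_card (α := F₀)] at this
    rw [hcard, Nat.card_eq_fintype_card] at hle
    have := (Nat.pow_le_pow_iff_right Fintype.one_lt_card).1 hle
    obtain ⟨k, rfl⟩ := hodd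
    have := hr.two_le
    omega

/-- The subfield group is maximal, the rational structure being the standard one. -/
theorem isMaximalIn_one {Q : QuadraticForm F (ι → F)} {F₀ : Subfield F} [Fintype F₀]
    {Q₀ : QuadraticForm F₀ (ι → F₀)} (h : Data F₀ Q Q₀) {r : ℕ} (hr : r.Prime)
    (hdim : (Fintype.card ι = 8 ∧ ∀ c : F, c * c ∈ F₀ → c ∈ F₀) ∨ 10 ≤ Fintype.card ι)
    (hcard : Fintype.card F = Nat.card F₀ ^ r) :
    IsMaximalIn (omegaGL ⇑Q) (subfieldSubgroup F₀ (1 : GL ι F) ⊓ omegaGL ⇑Q) := by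
  refine isMaximalIn_omega (Q := Q) _ ?_ fun M hlow g hgM hgΩ hgS => ?_
  · obtain ⟨a, ha⟩ : ∃ a : F, a ∉ F₀ := by
      by_contra! hall
      have h1 : Nat.card F₀ = Fintype.card F := by
        rw [← Nat.card_eq_fintype_card]
        exact Nat.card_congr ⟨fun x => (x : F), fun x => ⟨x, hall x⟩, fun x => rfl, fun x => rfl⟩
      have h2 := Fintype.one_lt_card (α := F)
      rw [h1] at hcard
      have h3 : Fintype.card F ^ 1 < Fintype.card F ^ r :=
        Nat.pow_lt_pow_right h2 hr.one_lt
      rw [pow_one, ← hcard] at h3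
      exact lt_irrefl _ h3
    obtain ⟨e, -, he0, he⟩ := exists_singular h.nd₀ (⊤ : Submodule F₀ (ι → F₀))
      (by rw [finrank_top, finrank_fintype_fun_eq_card]; have := h.card; omega)
    obtain ⟨t, htK, hte, -⟩ := h.exists_sing_outside (S := Submodule.span F₀ {e})
      (by rw [finrank_span_singleton he0]; norm_num)
    have het : QuadraticMap.polar (⇑Q₀) e t = 0 := mem_qperp_singleton.1 htK
    have hw : QuadraticMap.polar (⇑Q) (up e) (a • up t) = 0 := by
      rw [QuadraticMap.polar_smul_right, h.polar_up_zero het, smul_zero]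
    refine ⟨eichIso Q (up e) (a • up t) (h.quad_up_zero he) hw,
      eich_mem_omega h.nd (by have := h.card; omega) _ _, fun hS => ?_⟩
    obtain ⟨l, hl, hrat⟩ := mem_subfieldSubgroup_one_iff.1 hS
    change RatMat F₀ (l • mat Q (eichIso Q (up e) (a • up t) (h.quad_up_zero he) hw)) at hrat
    rw [mat_eichIso] at hrat
    obtain ⟨z, hze, hzt⟩ := AschbacherQuad.exists_pairing_pair (isNondeg h.nd₀) he0
      (fun c hc => hte (Submodule.mem_span_singleton.2 ⟨c, hc⟩)) 0 1
    obtain ⟨i, hi⟩ : ∃ i, e i ≠ 0 := Function.ne_iff.1 he0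
    have hi' : ((e i : F₀) : F) ≠ 0 := fun hc => hi (Subtype.ext hc)
    obtain ⟨v, hv⟩ := exists_up_mulVec hrat e
    rw [smul_mulVec, eich_mulVec_left (h.quad_up_zero he) hw] at hv
    have hlF : l ∈ F₀ := by
      have h1 := congrFun hv i
      simp [up] at h1
      have h2 := F₀.div_mem (v i).2 (e i).2
      rwa [h1, mul_div_cancel_right₀ _ hi'] at h2
    obtain ⟨v', hv'⟩ := exists_up_mulVec hrat z
    rw [smul_mulVec, eich_mulVec, QuadraticMap.polar_smul_left,
      QuadraticMap.polar_comm (⇑Q) (up e), QuadraticMap.polar_comm (⇑Q) (up t), h.polar_up,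
      h.polar_up, show QuadraticMap.polar (⇑Q₀) z e = 0 from hze,
      show QuadraticMap.polar (⇑Q₀) z t = 1 from hzt] at hv'
    have h1 := congrFun hv' i
    simp [up] at h1
    refine ha ?_
    have h2 := F₀.div_mem (F₀.sub_mem (z i).2 (F₀.div_mem (v' i).2 hlF)) (e i).2
    rwa [h1, mul_div_cancel_left₀ _ hl, sub_add_cancel_left, neg_neg,
      mul_div_cancel_right₀ _ hi'] at h2
  · have hs : Setting (M ⊓ Cfsg.Omega F ⇑Q) Q₀ :=
      ⟨h, inf_le_right, fun k hk hkK => ⟨hlow k hk hkK, hk⟩⟩
    rcases hs.rigid_or_omega_le hr hcard with hR | hle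
    · rcases hdim with ⟨hn8, hsqr⟩ | hn10
      · exact absurd (hs.inK_of_rigid_eight hR hsqr hn8 ⟨hgM, hgΩ⟩) hgS
      · exact absurd (hs.inK_of_rigid hR hn10 ⟨hgM, hgΩ⟩) hgS
    · exact hle.trans inf_le_left

/-- The subfield group of a rational structure is maximal in `Ω`. -/
theorem isMaximalIn_subfield_of_eight {Q : (ι → F) → F} (hQ : IsNondegenerateQuadraticForm Q)
    {F₀ : Subfield F} {r : ℕ} (hr : r.Prime)
    (hdim : (Fintype.card ι = 8 ∧ Odd r) ∨ 10 ≤ Fintype.card ι)
    (hcard : Fintype.card F = Nat.card F₀ ^ r) {P : GL ι F} {ζ : F} (hζ : ζ ≠ 0)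
    (hP : IsQuadFormRationalStructure (fun v => ζ * Q v) F₀ P) :
    IsMaximalIn (omegaGL Q) (subfieldSubgroup F₀ P ⊓ omegaGL Q) := by
  haveI : Fintype F₀ := Fintype.ofFinite _
  set q := AschbacherQuad.quadForm hQ with hq
  let Q' : QuadraticForm F (ι → F) := ζ • q.comp (Matrix.mulVecLin (P : Matrix ι ι F))
  have hQ' : ∀ x, Q' x = ζ * Q ((P : Matrix ι ι F) *ᵥ x) := fun x => rfl
  have hpolar : ∀ x y, QuadraticMap.polar (⇑Q') x y =
      ζ * QuadraticMap.polar Q ((P : Matrix ι ι F) *ᵥ x) ((P : Matrix ι ι F) *ᵥ y) := fun x y => by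
    simp only [QuadraticMap.polar, hQ', mulVec_add]; ring
  have hnd : (QuadraticMap.polarBilin Q').Nondegenerate := by
    have hq' := AschbacherQuad.quadForm_nondegenerate hQ
    have key : ∀ x, (∀ y, QuadraticMap.polar (⇑Q') x y = 0) → x = 0 := fun x hx => by
      refine Matrix.mulVec_injective_iff_isUnit.2 P.isUnit ?_
      rw [mulVec_zero]
      refine hq'.1 _ fun y => ?_
      obtain ⟨y, rfl⟩ := Matrix.mulVec_surjective_iff_isUnit.2 P.isUnit y
      have h1 := hx y
      rw [hpolar] at h1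
      exact (mul_eq_zero.1 h1).resolve_left hζ
    exact ⟨fun x hx => key x hx, fun x hx => key x fun y => by
      rw [QuadraticMap.polar_comm]; exact hx y⟩
  have hmem : ∀ u : ι → F₀, Q' (up u) ∈ F₀ := fun u => hP (up u) fun i => (u i).2
  let Q₀ : QuadraticForm F₀ (ι → F₀) := QuadraticMap.ofPolar (fun u => ⟨Q' (up u), hmem u⟩)
    (fun c u => Subtype.ext (by
      show Q' (up (c • u)) = _
      rw [up_smul, QuadraticMap.map_smul]; rfl))
    (fun x x' y => Subtype.ext (by
      have h1 := QuadraticMap.polar_add_left Q' (up x) (up x') (up y)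
      simp only [QuadraticMap.polar, ← up_add] at h1 ⊢
      push_cast
      exact h1))
    (fun c x y => Subtype.ext (by
      have h1 := QuadraticMap.polar_smul_left Q' (c : F) (up x) (up y)
      simp only [QuadraticMap.polar, ← up_add, ← up_smul] at h1 ⊢
      push_cast
      exact h1))
  have hdata : Data F₀ Q' Q₀ := ⟨fun u => rfl, hnd, by omega⟩
  have hdim' := hdim.imp_left fun h8 => And.intro h8.1 (mem_of_sq_mem hr h8.2 hcard)
  have hmax := isMaximalIn_map (MulAut.conj P) (isMaximalIn_one hdata hr hdim' hcard)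
  have hiso : (Cfsg.isometryGroup F ⇑Q').map (MulAut.conj P).toMonoidHom =
      Cfsg.isometryGroup F Q := by
    ext g
    rw [Subgroup.mem_map_equiv, MulAut.conj_symm_apply]
    constructor
    · intro hg u v
      have h1 := hg (((P⁻¹ : GL ι F) : Matrix ι ι F) *ᵥ u) v
      simp only [Units.coeHom_apply, Units.val_mul, hQ', ← mulVec_mulVec] at h1 ⊢
      simp only [mulVec_mulVec, ← mul_assoc, ← Units.val_mul, mul_inv_cancel, one_mul, mul_one,
        inv_inv, inv_mul_cancel_right, Units.val_one, one_mulVec] at h1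
      exact mul_left_cancel₀ hζ h1
    · intro hg u v
      have h1 := hg ((P : Matrix ι ι F) *ᵥ u) v
      simp only [Units.coeHom_apply, Units.val_mul, hQ', ← mulVec_mulVec] at h1 ⊢
      have hid : ∀ x, (P : Matrix ι ι F) *ᵥ (((P⁻¹ : GL ι F) : Matrix ι ι F) *ᵥ x) = x :=
        fun x => by rw [mulVec_mulVec, ← Units.val_mul, mul_inv_cancel, Units.val_one, one_mulVec]
      rw [hid, h1]
  have hΩ : (omegaGL ⇑Q').map (MulAut.conj P).toMonoidHom = omegaGL Q := by
    rw [omegaGL_eq_commutator, omegaGL_eq_commutator, Subgroup.map_commutator, hiso]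
  have hsub : (subfieldSubgroup F₀ (1 : GL ι F)).map (MulAut.conj P).toMonoidHom =
      subfieldSubgroup F₀ P := by
    rw [subfieldSubgroup, subfieldSubgroup, map_one, Subgroup.map_map]
    rfl
  rwa [Subgroup.map_inf _ _ _ (MulAut.conj P).injective, hsub, hΩ] at hmax

/-- The same from dimension ten, for every prime index. -/
theorem isMaximalIn_subfield {Q : (ι → F) → F} (hQ : IsNondegenerateQuadraticForm Q)
    (hn : 10 ≤ Fintype.card ι) {F₀ : Subfield F} {r : ℕ} (hr : r.Prime)
    (hcard : Fintype.card F = Nat.card F₀ ^ r) {P : GL ι F} {ζ : F} (hζ : ζ ≠ 0)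
    (hP : IsQuadFormRationalStructure (fun v => ζ * Q v) F₀ P) :
    IsMaximalIn (omegaGL Q) (subfieldSubgroup F₀ P ⊓ omegaGL Q) :=
  isMaximalIn_subfield_of_eight hQ hr (Or.inr hn) hcard hζ hP

end CfsgLib.OrthSubfield
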