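import Cfsg.Agent.OrthMax.Basic
import Cfsg.Agent.OrthMax.InvariantSubspace
import Cfsg.Agent.MaxSub.RationalSubspace

/-!
# Rational vectors of a quadratic form with a rational structure

`up` embeds `F₀^ι` into `F^ι`; `Data F₀ Q Q₀` says that `Q₀` is the restriction of the
nondegenerate form `Q`.  All choices of rational vectors are made inside `F₀^ι`.
-/

set_option autoImplicit false
set_option linter.unusedSectionVars false

namespace CfsgLib.OrthSubfield

open Matrix Module CfsgLib.Spinor CfsgLib.Forms CfsgLib.MaxSub CfsgLib.OrthMax Cfsg.Geo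

variable {F : Type*} [Field F] {ι : Type} [Fintype ι] [DecidableEq ι] {F₀ : Subfield F}

/-- A rational vector as a vector over the big field. -/
def up (u : ι → F₀) : ι → F := fun i => (u i : F)

theorem up_add (u v : ι → F₀) : up (u + v) = up u + up v := by ext i; simp [up]

theorem up_sub (u v : ι → F₀) : up (u - v) = up u - up v := by ext i; simp [up]

theorem up_smul (c : F₀) (u : ι → F₀) : up (c • u) = (c : F) • up u := by ext i; simp [up]

theorem up_zero : up (0 : ι → F₀) = 0 := by ext i; simp [up]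

theorem up_injective : Function.Injective (up : (ι → F₀) → ι → F) := fun u v h =>
  funext fun i => Subtype.ext (congrFun h i)

theorem up_eq_zero {u : ι → F₀} : up u = 0 ↔ u = 0 :=
  ⟨fun h => up_injective (h.trans up_zero.symm), fun h => by rw [h, up_zero]⟩

theorem up_single (i : ι) (c : F₀) : up (Pi.single i c) = Pi.single i (c : F) := by
  ext j
  rcases eq_or_ne j i with h | h
  · subst h; simp [up]
  · simp [up, h]

theorem exists_up_of_mem {x : ι → F} (h : ∀ i, x i ∈ F₀) : ∃ u : ι → F₀, up u = x :=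
  ⟨fun i => ⟨x i, h i⟩, rfl⟩

theorem exists_up_mulVec {A : Matrix ι ι F} (hA : RatMat F₀ A) (u : ι → F₀) :
    ∃ v : ι → F₀, up v = A *ᵥ up u :=
  exists_up_of_mem fun i => F₀.sum_mem fun j _ => F₀.mul_mem (hA i j) (u j).2

theorem ratMat_of_up {A : Matrix ι ι F} (h : ∀ u : ι → F₀, ∃ v : ι → F₀, A *ᵥ up u = up v) :
    RatMat F₀ A := fun i j => by
  obtain ⟨v, hv⟩ := h (Pi.single j 1)
  have h1 := congrFun hv i
  rw [up_single, mulVec_single] at h1
  simp [up] at h1
  rw [h1]
  exact (v i).2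

/-- The `F`-span of a rational subspace. -/
def spanF (D : Submodule F₀ (ι → F₀)) : Submodule F (ι → F) :=
  Submodule.span F (up '' (D : Set (ι → F₀)))

theorem up_mem_spanF {D : Submodule F₀ (ι → F₀)} {u : ι → F₀} (h : u ∈ D) : up u ∈ spanF D :=
  Submodule.subset_span ⟨u, h, rfl⟩

theorem spanF_le {D : Submodule F₀ (ι → F₀)} {W : Submodule F (ι → F)}
    (h : ∀ u ∈ D, up u ∈ W) : spanF D ≤ W :=
  Submodule.span_le.2 (by rintro _ ⟨u, hu, rfl⟩; exact h u hu)

theorem finrank_spanF_le (D : Submodule F₀ (ι → F₀)) :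
    finrank F (spanF D) ≤ finrank F₀ D := by
  let b := Module.finBasis F₀ D
  have h : spanF D ≤ Submodule.span F (Set.range fun k => up (b k : ι → F₀)) := by
    refine spanF_le fun u hu => ?_
    have hu' := b.sum_repr ⟨u, hu⟩
    have e : up u = ∑ k, ((b.repr ⟨u, hu⟩ k : F₀) : F) • up (b k : ι → F₀) := by
      have h1 := congrArg (fun z : D => (z : ι → F₀)) hu'
      simp only [Submodule.coe_sum, Submodule.coe_smul] at h1
      funext i
      have h2 := congrArg (fun z : ι → F₀ => ((z i : F₀) : F)) h1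
      simpa [up, Finset.sum_apply] using h2.symm
    rw [e]
    exact Submodule.sum_mem _ fun k _ => Submodule.smul_mem _ _ (Submodule.subset_span ⟨k, rfl⟩)
  refine (Submodule.finrank_mono h).trans ?_
  have h2 := finrank_range_le_card (R := F) fun k => up (b k : ι → F₀)
  rw [Fintype.card_fin] at h2
  exact h2

theorem spanF_sup (D E : Submodule F₀ (ι → F₀)) : spanF D ⊔ spanF E = spanF (D ⊔ E) := by
  refine le_antisymm (sup_le (spanF_le fun u hu => up_mem_spanF (Submodule.mem_sup_left hu))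
    (spanF_le fun u hu => up_mem_spanF (Submodule.mem_sup_right hu))) (spanF_le fun u hu => ?_)
  obtain ⟨d, hd, e, he, rfl⟩ := Submodule.mem_sup.1 hu
  rw [up_add]
  exact Submodule.add_mem_sup (up_mem_spanF hd) (up_mem_spanF he)

theorem spanF_top : spanF (⊤ : Submodule F₀ (ι → F₀)) = ⊤ := by
  refine eq_top_iff.2 fun x _ => ?_
  rw [pi_eq_sum_univ' x]
  refine Submodule.sum_mem _ fun i _ => Submodule.smul_mem _ _ ?_
  have h : up (Pi.single i (1 : F₀)) ∈ spanF (⊤ : Submodule F₀ (ι → F₀)) :=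
    up_mem_spanF Submodule.mem_top
  rw [up_single] at h
  simpa using h

theorem spanF_compl {D E : Submodule F₀ (ι → F₀)} (h : IsCompl D E) :
    finrank F (spanF D) = finrank F₀ D ∧ spanF D ⊓ spanF E = ⊥ := by
  have h1 := finrank_spanF_le D
  have h2 := finrank_spanF_le E
  have h3 := Submodule.finrank_add_eq_of_isCompl h
  have h4 := Submodule.finrank_sup_add_finrank_inf_eq (spanF D) (spanF E)
  rw [spanF_sup, h.sup_eq_top, spanF_top, finrank_top, finrank_fintype_fun_eq_card] at h4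
  rw [finrank_fintype_fun_eq_card] at h3
  refine ⟨by omega, Submodule.finrank_eq_zero.1 (by omega)⟩

theorem finrank_spanF (D : Submodule F₀ (ι → F₀)) : finrank F (spanF D) = finrank F₀ D := by
  obtain ⟨E, hE⟩ := Submodule.exists_isCompl D
  exact (spanF_compl hE).1

theorem mem_of_up_mem {D : Submodule F₀ (ι → F₀)} {u : ι → F₀} (h : up u ∈ spanF D) : u ∈ D := by
  obtain ⟨E, hE⟩ := Submodule.exists_isCompl D
  obtain ⟨d, hd, e, he, rfl⟩ := Submodule.mem_sup.1
    (hE.sup_eq_top ▸ Submodule.mem_top : u ∈ D ⊔ E)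
  rw [up_add] at h
  have he' : up e = 0 := by
    rw [← Submodule.mem_bot F, ← (spanF_compl hE).2]
    exact ⟨(Submodule.add_mem_iff_right _ (up_mem_spanF hd)).1 h, up_mem_spanF he⟩
  rw [up_eq_zero.1 he', add_zero]
  exact hd

/-- The range of a rational matrix is spanned by rational vectors. -/
theorem exists_spanF_range {A : Matrix ι ι F} (hA : RatMat F₀ A) :
    ∃ D : Submodule F₀ (ι → F₀), spanF D = LinearMap.range (Matrix.mulVecLin A) := by
  let A₀ : Matrix ι ι F₀ := fun i j => ⟨A i j, hA i j⟩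
  have hA₀ : ∀ u, up (A₀ *ᵥ u) = A *ᵥ up u := fun u => by
    ext i; simp [up, A₀, mulVec, dotProduct]
  refine ⟨LinearMap.range (Matrix.mulVecLin A₀), le_antisymm (spanF_le ?_) ?_⟩
  · rintro _ ⟨u, rfl⟩
    exact ⟨up u, (hA₀ u).symm⟩
  · rw [LinearMap.range_eq_map, ← spanF_top (F₀ := F₀), spanF, Submodule.map_span,
      Submodule.span_le]
    rintro _ ⟨_, ⟨u, -, rfl⟩, rfl⟩
    rw [mulVecLin_apply, ← hA₀]
    exact up_mem_spanF ⟨u, rfl⟩

variable (F₀)

/-- `Q₀` is the rational part of the nondegenerate form `Q`. -/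
structure Data (Q : QuadraticForm F (ι → F)) (Q₀ : QuadraticForm F₀ (ι → F₀)) : Prop where
  quad : ∀ u, ((Q₀ u : F₀) : F) = Q (up u)
  nd : (QuadraticMap.polarBilin Q).Nondegenerate
  card : 8 ≤ Fintype.card ι

variable {F₀} {Q : QuadraticForm F (ι → F)} {Q₀ : QuadraticForm F₀ (ι → F₀)}

set_option quotPrecheck false in
local notation "𝔅" => QuadraticMap.polar (⇑Q)

set_option quotPrecheck false in
local notation "𝔅₀" => QuadraticMap.polar (⇑Q₀)

namespace Data

variable (h : Data F₀ Q Q₀)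
include h

theorem polar_up (u v : ι → F₀) : 𝔅 (up u) (up v) = ((𝔅₀ u v : F₀) : F) := by
  simp only [QuadraticMap.polar, ← up_add, ← h.quad]
  push_cast
  rfl

theorem polar_up_zero {u v : ι → F₀} (e : 𝔅₀ u v = 0) : 𝔅 (up u) (up v) = 0 := by
  rw [h.polar_up, e]; rfl

theorem quad_up_zero {u : ι → F₀} (e : Q₀ u = 0) : Q (up u) = 0 := by
  rw [← h.quad, e]; rfl

theorem eq_zero_of_forall_up {x : ι → F} (hx : ∀ u : ι → F₀, 𝔅 x (up u) = 0) : x = 0 := by
  refine h.nd.1 x fun y => ?_
  have hy : y ∈ spanF (⊤ : Submodule F₀ (ι → F₀)) := by rw [spanF_top]; trivial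
  rw [spanF] at hy
  induction hy using Submodule.span_induction with
  | mem z hz => obtain ⟨u, -, rfl⟩ := hz; exact hx u
  | zero => simp
  | add a b _ _ ha hb => rw [map_add, ha, hb, add_zero]
  | smul c a _ ha => rw [map_smul, ha, smul_zero]

theorem nd₀ : (QuadraticMap.polarBilin Q₀).Nondegenerate := by
  have key : ∀ u, (∀ v, 𝔅₀ u v = 0) → u = 0 := fun u hu =>
    up_eq_zero.1 (h.eq_zero_of_forall_up fun v => h.polar_up_zero (hu v))
  exact ⟨fun u hu => key u hu, fun u hu => key u fun v => by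
    rw [QuadraticMap.polar_comm]; exact hu v⟩

/-- A vector with rational products with all rational vectors is rational. -/
theorem rat_of_polar {x : ι → F} (hx : ∀ u : ι → F₀, 𝔅 x (up u) ∈ F₀) :
    ∃ v : ι → F₀, up v = x := by
  let T : (ι → F₀) →ₗ[F₀] (ι → F₀) :=
    LinearMap.pi fun i => (QuadraticMap.polarBilin Q₀).flip (Pi.single i 1)
  have hT : ∀ v i, T v i = 𝔅₀ v (Pi.single i 1) := fun v i => rfl
  have hinj : Function.Injective T := by
    refine (injective_iff_map_eq_zero T).2 fun v hv => h.nd₀.1 v fun y => ?_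
    rw [pi_eq_sum_univ' y, map_sum]
    refine Finset.sum_eq_zero fun i _ => ?_
    rw [map_smul, QuadraticMap.polarBilin_apply_apply, ← hT, hv]
    simp
  obtain ⟨v, hv⟩ := LinearMap.injective_iff_surjective.1 hinj
    (fun i => ⟨𝔅 x (up (Pi.single i 1)), hx _⟩)
  refine ⟨v, (sub_eq_zero.1 (h.eq_zero_of_forall_up fun u => ?_)).symm⟩
  have hi : ∀ i, 𝔅 (x - up v) (up (Pi.single i 1)) = 0 := fun i => by
    rw [QuadraticMap.polar_sub_left, h.polar_up, ← hT, hv, sub_self]
  have e : up u = ∑ i, ((u i : F₀) : F) • up (Pi.single i (1 : F₀)) := by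
    funext j
    simp [up_single, Finset.sum_apply, up, Pi.single_apply]
  rw [e, ← QuadraticMap.polarBilin_apply_apply, map_sum]
  exact Finset.sum_eq_zero fun i _ => by
    rw [map_smul, QuadraticMap.polarBilin_apply_apply, hi, smul_zero]

theorem eich_up (z w : ι → F₀) (x : ι → F₀) :
    eich Q (up z) (up w) *ᵥ up x = up (eich Q₀ z w *ᵥ x) := by
  rw [eich_mulVec, eich_mulVec]
  simp only [h.polar_up, ← h.quad, up_add, up_sub, up_smul]
  push_cast
  rfl

theorem ratMat_eich (z w : ι → F₀) : RatMat F₀ (eich Q (up z) (up w)) :=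
  ratMat_of_up fun x => ⟨_, h.eich_up z w x⟩

/-- A vector orthogonal to the rational vectors orthogonal to `S` lies in the span of `S`. -/
theorem mem_spanF_of_perp {S : Submodule F₀ (ι → F₀)} {x : ι → F}
    (hx : ∀ u ∈ qperp Q₀ S, 𝔅 (up u) x = 0) : x ∈ spanF S := by
  have hle : spanF S ≤ qperp Q (spanF (qperp Q₀ S)) := by
    refine spanF_le fun s hs => mem_qperp.2 fun y hy => ?_
    rw [spanF] at hy
    induction hy using Submodule.span_induction with
    | mem z hz =>
      obtain ⟨u, hu, rfl⟩ := hz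
      refine h.polar_up_zero ?_
      rw [QuadraticMap.polar_comm]
      exact mem_qperp.1 hu s hs
    | zero => simp
    | add a b _ _ ha hb => rw [QuadraticMap.polar_add_left, ha, hb, add_zero]
    | smul c a _ ha => rw [QuadraticMap.polar_smul_left, ha, smul_zero]
  have he : spanF S = qperp Q (spanF (qperp Q₀ S)) := by
    refine Submodule.eq_of_le_of_finrank_eq hle ?_
    have h3 := Submodule.finrank_le S
    rw [finrank_fintype_fun_eq_card] at h3
    rw [finrank_qperp h.nd, finrank_spanF, finrank_spanF, finrank_qperp h.nd₀]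
    omega
  rw [he]
  refine mem_qperp.2 fun y hy => ?_
  rw [spanF] at hy
  induction hy using Submodule.span_induction with
  | mem z hz => obtain ⟨u, hu, rfl⟩ := hz; exact hx u hu
  | zero => simp
  | add a b _ _ ha hb => rw [QuadraticMap.polar_add_left, ha, hb, add_zero]
  | smul c a _ ha => rw [QuadraticMap.polar_smul_left, ha, smul_zero]

variable [Fintype F₀]

theorem le_finrank_qperp (S : Submodule F₀ (ι → F₀)) :
    finrank F₀ (qperp Q₀ S) = Fintype.card ι - finrank F₀ S :=
  finrank_qperp h.nd₀ S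

/-- A rational singular vector orthogonal to `S`, outside `S`, when the radical of `S` is small. -/
theorem exists_sing_outside' {S : Submodule F₀ (ι → F₀)}
    (hS : finrank F₀ (qperp Q₀ S ⊓ S : Submodule F₀ (ι → F₀)) + finrank F₀ S + 3 ≤ Fintype.card ι) :
    ∃ z ∈ qperp Q₀ S, z ∉ S ∧ Q₀ z = 0 := by
  refine exists_singular_notMem h.nd₀ ?_
  have h1 := h.le_finrank_qperp S
  omega

/-- A rational singular vector orthogonal to `S`, outside `S`. -/
theorem exists_sing_outside {S : Submodule F₀ (ι → F₀)} (hS : finrank F₀ S ≤ 2) :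
    ∃ z ∈ qperp Q₀ S, z ∉ S ∧ Q₀ z = 0 := by
  refine h.exists_sing_outside' ?_
  have h2 := Submodule.finrank_mono (inf_le_right : qperp Q₀ S ⊓ S ≤ S)
  have := h.card
  omega

/-- A rational singular vector orthogonal to `S` with product one with `t`. -/
theorem exists_sing_pair' {S : Submodule F₀ (ι → F₀)}
    (hS : finrank F₀ (qperp Q₀ S ⊓ S : Submodule F₀ (ι → F₀)) + finrank F₀ S + 3 ≤ Fintype.card ι) {t : ι → F₀}
    (ht : t ∉ S) : ∃ q ∈ qperp Q₀ S, Q₀ q = 0 ∧ 𝔅₀ q t = 1 := by
  obtain ⟨z, hz, hzS, hzq⟩ := h.exists_sing_outside' hS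
  have hrad : ∀ x : ι → F₀, x ∉ S → ∃ y ∈ qperp Q₀ S, 𝔅₀ y x ≠ 0 := by
    intro x hx
    by_contra! hall
    exact hx ((qperp_qperp h.nd₀ S) ▸ mem_qperp.2 hall)
  obtain ⟨x₀, hx₀, hzx⟩ := hrad z hzS
  obtain ⟨t', ht', htt⟩ := hrad t ht
  obtain ⟨q, hq, hqq, hqt⟩ := exists_singular_pairing hz hzq hx₀ hzx ht' htt
  refine ⟨(𝔅₀ q t)⁻¹ • q, Submodule.smul_mem _ _ hq, by rw [QuadraticMap.map_smul, hqq, smul_zero],
    by rw [QuadraticMap.polar_smul_left, smul_eq_mul, inv_mul_cancel₀ hqt]⟩

/-- The same for `S` of dimension at most three. -/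
theorem exists_sing_pair {S : Submodule F₀ (ι → F₀)} (hS : finrank F₀ S ≤ 2) {t : ι → F₀}
    (ht : t ∉ S) : ∃ q ∈ qperp Q₀ S, Q₀ q = 0 ∧ 𝔅₀ q t = 1 := by
  refine h.exists_sing_pair' ?_ ht
  have h2 := Submodule.finrank_mono (inf_le_right : qperp Q₀ S ⊓ S ≤ S)
  have := h.card
  omega

/-- A totally singular rational plane inside a rational subspace of dimension five. -/
theorem exists_plane {K : Submodule F₀ (ι → F₀)} (hK : 5 ≤ finrank F₀ K) :
    ∃ a ∈ K, ∃ b ∈ K, Q₀ a = 0 ∧ Q₀ b = 0 ∧ 𝔅₀ a b = 0 ∧ a ≠ 0 ∧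
      b ∉ Submodule.span F₀ {a} := by
  obtain ⟨a, ha, ha0, haq⟩ := exists_singular h.nd₀ K (by omega)
  obtain ⟨b, hb, hba, hbq⟩ := exists_singular_notMem h.nd₀
    (K := K ⊓ qperp Q₀ (Submodule.span F₀ {a})) (M := Submodule.span F₀ {a}) (by
    have h1 := Submodule.finrank_sup_add_finrank_inf_eq K (qperp Q₀ (Submodule.span F₀ {a}))
    have h2 := Submodule.finrank_le (K ⊔ qperp Q₀ (Submodule.span F₀ {a}))
    have h3 := Submodule.finrank_mono (inf_le_right :
      (K ⊓ qperp Q₀ (Submodule.span F₀ {a})) ⊓ Submodule.span F₀ {a} ≤ Submodule.span F₀ {a})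
    rw [finrank_fintype_fun_eq_card] at h2
    rw [h.le_finrank_qperp, finrank_span_singleton ha0] at h1
    rw [finrank_span_singleton ha0] at h3
    have := h.card
    omega)
  exact ⟨a, ha, b, hb.1, haq, hbq, mem_qperp_singleton.1 hb.2, ha0, hba⟩

end Data

theorem finrank_span_two_le {V : Type*} [AddCommGroup V] [Module F₀ V] (a b : V) :
    finrank F₀ (Submodule.span F₀ ({a, b} : Set V)) ≤ 2 := by
  have h2 := finrank_range_le_card (R := F₀) ![a, b]
  rw [Fintype.card_fin, Set.finrank] at h2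
  rwa [show ({a, b} : Set V) = Set.range ![a, b] by
    simp only [Matrix.range_cons, Matrix.range_empty, Set.union_empty, Set.singleton_union]]

theorem finrank_span_three_le {V : Type*} [AddCommGroup V] [Module F₀ V] (a b c : V) :
    finrank F₀ (Submodule.span F₀ ({a, b, c} : Set V)) ≤ 3 := by
  have h2 := finrank_range_le_card (R := F₀) ![a, b, c]
  rw [Fintype.card_fin, Set.finrank] at h2
  rwa [show ({a, b, c} : Set V) = Set.range ![a, b, c] by
    simp only [Matrix.range_cons, Matrix.range_empty, Set.union_empty, Set.singleton_union]]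

theorem finrank_span_four_le {V : Type*} [AddCommGroup V] [Module F₀ V] (a b c d : V) :
    finrank F₀ (Submodule.span F₀ ({a, b, c, d} : Set V)) ≤ 4 := by
  have h2 := finrank_range_le_card (R := F₀) ![a, b, c, d]
  rw [Fintype.card_fin, Set.finrank] at h2
  rwa [show ({a, b, c, d} : Set V) = Set.range ![a, b, c, d] by
    simp only [Matrix.range_cons, Matrix.range_empty, Set.union_empty, Set.singleton_union]]

theorem mem_qperp_span {s : Set (ι → F₀)} {x : ι → F₀} :
    x ∈ qperp Q₀ (Submodule.span F₀ s) ↔ ∀ a ∈ s, 𝔅₀ a x = 0 := by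
  rw [mem_qperp]
  refine ⟨fun h a ha => h a (Submodule.subset_span ha), fun h w hw => ?_⟩
  induction hw using Submodule.span_induction with
  | mem a ha => exact h a ha
  | zero => simp
  | add a b _ _ ha hb => rw [QuadraticMap.polar_add_left, ha, hb, add_zero]
  | smul c a _ ha => rw [QuadraticMap.polar_smul_left, ha, smul_zero]

namespace Data

variable (h : Data F₀ Q Q₀) [Fintype F₀]
include h

/-- The radical of a singular point with a hyperbolic pair orthogonal to it. -/
theorem finrank_rad_le {e w w' : ι → F₀} (hw : Q₀ w = 0) (hw' : Q₀ w' = 0)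
    (hew : 𝔅₀ e w = 0) (hew' : 𝔅₀ e w' = 0) (hww : 𝔅₀ w w' ≠ 0) :
    finrank F₀ (qperp Q₀ (Submodule.span F₀ {e, w, w'}) ⊓ Submodule.span F₀ {e, w, w'} :
        Submodule F₀ (ι → F₀)) + finrank F₀ (Submodule.span F₀ ({e, w, w'} : Set (ι → F₀))) + 3 ≤ Fintype.card ι := by
  have h1 : qperp Q₀ (Submodule.span F₀ {e, w, w'}) ⊓ Submodule.span F₀ {e, w, w'} ≤
      Submodule.span F₀ {e} := by
    rintro x ⟨hx, hm⟩
    rw [SetLike.mem_coe, mem_qperp_span] at hx
    obtain ⟨a, b, c, rfl⟩ := Submodule.mem_span_triple.1 hm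
    have h3 := hx w (by simp)
    have h4 := hx w' (by simp)
    have hw'w : 𝔅₀ w' w ≠ 0 := by rwa [QuadraticMap.polar_comm]
    simp only [QuadraticMap.polar_add_right, QuadraticMap.polar_smul_right, QuadraticMap.polar_self,
      hw, hw', QuadraticMap.polar_comm (⇑Q₀) w e, QuadraticMap.polar_comm (⇑Q₀) w' e, hew, hew',
      smul_eq_mul, smul_zero, mul_zero, zero_add, add_zero, mul_eq_zero] at h3 h4
    rw [h3.resolve_right hww, h4.resolve_right hw'w, zero_smul, zero_smul, add_zero, add_zero]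
    exact Submodule.smul_mem _ _ (Submodule.mem_span_singleton_self e)
  have h2 := Submodule.finrank_mono h1
  have h3 : finrank F₀ (Submodule.span F₀ {e}) ≤ 1 := (finrank_span_le_card {e}).trans (by simp)
  have h4 := finrank_span_three_le (F₀ := F₀) e w w'
  have := h.card
  omega

/-- A rational singular vector orthogonal to `S` of dimension three, outside it, from dimension ten. -/
theorem exists_sing_outside₃ (hn : 9 ≤ Fintype.card ι) {S : Submodule F₀ (ι → F₀)}
    (hS : finrank F₀ S ≤ 3) : ∃ z ∈ qperp Q₀ S, z ∉ S ∧ Q₀ z = 0 := by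
  refine h.exists_sing_outside' ?_
  have h2 := Submodule.finrank_mono (inf_le_right : qperp Q₀ S ⊓ S ≤ S)
  omega

/-- A rational singular vector orthogonal to `S` of dimension three with product one with `t`. -/
theorem exists_sing_pair₃ (hn : 9 ≤ Fintype.card ι) {S : Submodule F₀ (ι → F₀)}
    (hS : finrank F₀ S ≤ 3) {t : ι → F₀} (ht : t ∉ S) :
    ∃ q ∈ qperp Q₀ S, Q₀ q = 0 ∧ 𝔅₀ q t = 1 := by
  refine h.exists_sing_pair' ?_ ht
  have h2 := Submodule.finrank_mono (inf_le_right : qperp Q₀ S ⊓ S ≤ S)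
  omega

omit [Fintype F₀] in
/-- A non-orthogonal pair keeps a space of dimension four from being totally isotropic. -/
theorem radical_small₄ (hn : 10 ≤ Fintype.card ι) {S : Submodule F₀ (ι → F₀)} (hS : finrank F₀ S ≤ 4)
    {x y : ι → F₀} (hx : x ∈ S) (hy : y ∈ S) (hxy : 𝔅₀ x y ≠ 0) :
    finrank F₀ (qperp Q₀ S ⊓ S : Submodule F₀ (ι → F₀)) + finrank F₀ S + 3 ≤ Fintype.card ι := by
  have hlt := Submodule.finrank_lt_finrank_of_lt (lt_of_le_of_ne
    (inf_le_right : qperp Q₀ S ⊓ S ≤ S) fun e => hxy (mem_qperp.1 (e.symm ▸ hy : y ∈ qperp Q₀ S ⊓ S).1 x hx))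
  omega

end Data

end CfsgLib.OrthSubfield
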