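import Cfsg.Agent.OrthSubfield.Coefficients

/-!
# A rigid subgroup is rational up to scalars

If every root element of `M` at a rational point is rational, every element of `M` is rational up
to a scalar: it suffices that the element moves one rational singular point into a small rational
subspace, and this is arranged through commuting products of rational involutions with their
conjugates.
-/

set_option autoImplicit false
set_option linter.unusedSectionVars false

namespace CfsgLib.OrthSubfield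

open Matrix Module CfsgLib.Spinor CfsgLib.Forms CfsgLib.Forms4 CfsgLib.MaxSub CfsgLib.OrthMax
  Cfsg.Geo

variable {F : Type*} [Field F] {ι : Type} [Fintype ι] [DecidableEq ι] {F₀ : Subfield F}
  {Q : QuadraticForm F (ι → F)} {Q₀ : QuadraticForm F₀ (ι → F₀)} {M : Subgroup (Isom Q)}

set_option quotPrecheck false in
local notation "𝔅" => QuadraticMap.polar (⇑Q)

set_option quotPrecheck false in
local notation "𝔅₀" => QuadraticMap.polar (⇑Q₀)

theorem inv_mat_mulVec (g : Isom Q) (x : ι → F) : mat Q g⁻¹ *ᵥ (mat Q g *ᵥ x) = x := by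
  rw [mulVec_mulVec, ← mat_mul, inv_mul_cancel, mat_one, one_mulVec]

theorem mat_inv_mulVec' (g : Isom Q) (x : ι → F) : mat Q g *ᵥ (mat Q g⁻¹ *ᵥ x) = x := by
  rw [mulVec_mulVec, ← mat_mul, mul_inv_cancel, mat_one, one_mulVec]

theorem spanF_span_le (s : Set (ι → F₀)) :
    spanF (Submodule.span F₀ s) ≤ Submodule.span F (up '' s) := by
  refine spanF_le fun u hu => ?_
  induction hu using Submodule.span_induction with
  | mem a ha => exact Submodule.subset_span ⟨a, ha, rfl⟩
  | zero => rw [up_zero]; exact Submodule.zero_mem _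
  | add a b _ _ ha hb => rw [up_add]; exact Submodule.add_mem _ ha hb
  | smul c a _ ha => rw [up_smul]; exact Submodule.smul_mem _ _ ha

theorem notMem_pair {a b q : ι → F₀} (hb : b ∉ Submodule.span F₀ {a})
    (hq : q ∉ Submodule.span F₀ ({a, b} : Set (ι → F₀))) :
    b ∉ Submodule.span F₀ ({a, q} : Set (ι → F₀)) := fun hm => by
  obtain ⟨x, y, hxy⟩ := Submodule.mem_span_pair.1 hm
  rcases eq_or_ne y 0 with h | h
  · rw [h, zero_smul, add_zero] at hxy
    exact hb (Submodule.mem_span_singleton.2 ⟨x, hxy⟩)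
  · refine hq (Submodule.mem_span_pair.2 ⟨-(y⁻¹ * x), y⁻¹, ?_⟩)
    rw [← hxy, smul_add, smul_smul, smul_smul, inv_mul_cancel₀ h, one_smul]
    module

theorem three_le_finrank {a b c : ι → F₀} (ha : a ≠ 0) (hb : b ∉ Submodule.span F₀ {a})
    (hc : c ∉ Submodule.span F₀ ({a, b} : Set (ι → F₀))) :
    3 ≤ finrank F₀ (Submodule.span F₀ ({a, b, c} : Set (ι → F₀))) := by
  have h1 : Submodule.span F₀ {a} < Submodule.span F₀ ({a, b} : Set (ι → F₀)) :=
    lt_of_le_of_ne (Submodule.span_mono (by simp)) fun h =>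
      hb (h ▸ Submodule.subset_span (by simp))
  have h2 : Submodule.span F₀ ({a, b} : Set (ι → F₀)) < Submodule.span F₀ {a, b, c} :=
    lt_of_le_of_ne (Submodule.span_mono (by simp [Set.insert_subset_iff])) fun h =>
      hc (h ▸ Submodule.subset_span (by simp))
  have e1 := Submodule.finrank_lt_finrank_of_lt h1
  have e2 := Submodule.finrank_lt_finrank_of_lt h2
  rw [finrank_span_singleton ha] at e1
  omega

/-! ### The moved space -/

/-- The image of `g - 1`. -/
noncomputable def rng (g : Isom Q) : Submodule F (ι → F) :=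
  LinearMap.range (Matrix.mulVecLin (mat Q g - 1))

theorem sub_mem_rng (g : Isom Q) (x : ι → F) : mat Q g *ᵥ x - x ∈ rng g :=
  ⟨x, by rw [mulVecLin_apply, sub_mulVec, one_mulVec]⟩

theorem mem_rng {g : Isom Q} {y : ι → F} : y ∈ rng g ↔ ∃ x, mat Q g *ᵥ x - x = y := by
  rw [rng, LinearMap.mem_range]
  simp only [mulVecLin_apply, sub_mulVec, one_mulVec]

theorem rng_le {g : Isom Q} {W : Submodule F (ι → F)} (h : ∀ x, mat Q g *ᵥ x - x ∈ W) :
    rng g ≤ W := by
  intro y hy
  obtain ⟨x, rfl⟩ := mem_rng.1 hy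
  exact h x

theorem rng_mul_le (g h : Isom Q) : rng (g * h) ≤ rng g ⊔ rng h := rng_le fun x => by
  rw [mat_mul, ← mulVec_mulVec, ← sub_add_sub_cancel _ (mat Q h *ᵥ x) x]
  exact Submodule.add_mem_sup (sub_mem_rng g _) (sub_mem_rng h x)

theorem rng_pow_le (g : Isom Q) (m : ℕ) : rng (g ^ m) ≤ rng g := by
  induction m with
  | zero => exact rng_le fun x => by simp [pow_zero, mat_one]
  | succ m ih => rw [pow_succ]; exact (rng_mul_le _ _).trans (sup_le ih le_rfl)

theorem finrank_rng_conj (g i : Isom Q) : finrank F (rng (g * i * g⁻¹)) ≤ finrank F (rng i) := by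
  refine le_trans (Submodule.finrank_mono (rng_le fun x => ?_))
    (Submodule.finrank_map_le (Matrix.mulVecLin (mat Q g)) (rng i))
  refine ⟨_, sub_mem_rng i (mat Q g⁻¹ *ᵥ x), ?_⟩
  rw [mulVecLin_apply, mulVec_sub, mat_inv_mulVec', mat_mul, mat_mul, ← mulVec_mulVec,
    ← mulVec_mulVec]

theorem finrank_rng_eq {x g i k : Isom Q} (h : x * k * x⁻¹ = g * i * g⁻¹) :
    finrank F (rng k) = finrank F (rng i) := by
  refine le_antisymm ?_ ?_
  · have : k = (x⁻¹ * g) * i * (x⁻¹ * g)⁻¹ := by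
      rw [show k = x⁻¹ * (x * k * x⁻¹) * x by group, h]; group
    rw [this]; exact finrank_rng_conj _ _
  · have : i = (g⁻¹ * x) * k * (g⁻¹ * x)⁻¹ := by
      rw [show i = g⁻¹ * (g * i * g⁻¹) * g by group, ← h]; group
    rw [this]; exact finrank_rng_conj _ _

theorem ratMat_of_small [Fintype F] {g : Isom Q} (hg : InK F₀ g)
    (h : 2 * finrank F (rng g) < Fintype.card ι) : RatMat F₀ (mat Q g) := by
  refine ratMat_of_big_fix hg ?_
  have h1 := LinearMap.finrank_range_add_finrank_ker (toLin' (mat Q g - 1))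
  rw [finrank_fintype_fun_eq_card] at h1
  have h2 : finrank F (LinearMap.range (toLin' (mat Q g - 1))) = finrank F (rng g) := by
    rw [rng, Matrix.toLin'_apply']
  rw [show fixSp (mat Q g) = LinearMap.ker (toLin' (mat Q g - 1)) from rfl]
  omega

/-- When square roots of elements of `F₀` lie in `F₀`, the subfield group consists of rational elements. -/
theorem Data.ratMat_of_inK [Fintype F] [Fintype F₀] (h : Data F₀ Q Q₀)
    (hsqr : ∀ c : F, c * c ∈ F₀ → c ∈ F₀) {g : Isom Q} (hg : InK F₀ g) : RatMat F₀ (mat Q g) := by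
  obtain ⟨c, hc, hB⟩ := mem_subfieldSubgroup_one_iff.1 hg
  suffices hcF : c ∈ F₀ by
    intro i k
    have h1 := F₀.mul_mem (F₀.inv_mem hcF) (hB i k)
    rwa [Matrix.smul_apply, smul_eq_mul, inv_mul_cancel_left₀ hc] at h1
  refine hsqr c ?_
  obtain ⟨e, -, he0, he⟩ := exists_singular h.nd₀ (⊤ : Submodule F₀ (ι → F₀))
    (by rw [finrank_top, finrank_fintype_fun_eq_card]; have := h.card; omega)
  obtain ⟨f, -, -, hfe⟩ := h.exists_sing_pair (S := (⊥ : Submodule F₀ (ι → F₀)))
    (by simp) (by simpa using he0)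
  obtain ⟨u, hu⟩ := exists_up_mulVec hB f
  obtain ⟨v, hv⟩ := exists_up_mulVec hB e
  rw [smul_mulVec] at hu hv
  have e2 : 𝔅 (c • (mat Q g *ᵥ up f)) (c • (mat Q g *ᵥ up e)) = ((𝔅₀ u v : F₀) : F) := by
    rw [← h.polar_up]
    congr 1 <;> first | exact hu | exact hu.symm | exact hv | exact hv.symm
  rw [QuadraticMap.polar_smul_left, QuadraticMap.polar_smul_right, polar_mulVec, h.polar_up, hfe] at e2
  simp only [OneMemClass.coe_one, smul_eq_mul, mul_one] at e2
  exact e2 ▸ (𝔅₀ u v).2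


/-- `g` fixes the rational subspace pointwise. -/
def Fixes (D : Submodule F₀ (ι → F₀)) (g : Isom Q) : Prop :=
  ∀ u ∈ D, mat Q g *ᵥ up u = up u

theorem Fixes.spanF {D : Submodule F₀ (ι → F₀)} {g : Isom Q} (h : Fixes D g) {x : ι → F}
    (hx : x ∈ OrthSubfield.spanF D) : mat Q g *ᵥ x = x := by
  rw [OrthSubfield.spanF] at hx
  induction hx using Submodule.span_induction with
  | mem z hz => obtain ⟨u, hu, rfl⟩ := hz; exact h u hu
  | zero => rw [mulVec_zero]
  | add a b _ _ ha hb => rw [mulVec_add, ha, hb]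
  | smul c a _ ha => rw [mulVec_smul, ha]

theorem Fixes.mul {D : Submodule F₀ (ι → F₀)} {g k : Isom Q} (hg : Fixes D g) (hk : Fixes D k) :
    Fixes D (g * k) := fun u hu => by rw [mat_mul, ← mulVec_mulVec, hk u hu, hg u hu]

theorem Fixes.inv {D : Submodule F₀ (ι → F₀)} {g : Isom Q} (hg : Fixes D g) : Fixes D g⁻¹ :=
  fun u hu => by
    conv_lhs => rw [← hg u hu]
    rw [inv_mat_mulVec]

theorem Fixes.pow {D : Submodule F₀ (ι → F₀)} {g : Isom Q} (hg : Fixes D g) (m : ℕ) :
    Fixes D (g ^ m) := by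
  induction m with
  | zero => exact fun u _ => by rw [pow_zero, mat_one, one_mulVec]
  | succ m ih => rw [pow_succ]; exact ih.mul hg

variable (Q₀) in
/-- No nonzero singular vectors. -/
def Anis (D : Submodule F₀ (ι → F₀)) : Prop := ∀ d ∈ D, Q₀ d = 0 → d = 0

theorem Anis.finrank_le [Fintype F₀] (h : Data F₀ Q Q₀) {D : Submodule F₀ (ι → F₀)}
    (ha : Anis Q₀ D) : finrank F₀ D ≤ 2 := by
  by_contra hc
  obtain ⟨z, hz, hz0, hzq⟩ := exists_singular h.nd₀ D (by omega)
  exact hz0 (ha z hz hzq)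

variable (Q₀) in
/-- Stabilisers of larger anisotropic subspaces are rational. -/
def Big (M : Subgroup (Isom Q)) (D : Submodule F₀ (ι → F₀)) : Prop :=
  ∀ D' : Submodule F₀ (ι → F₀), Anis Q₀ D' → finrank F₀ D < finrank F₀ D' → ∀ y ∈ M,
    (∀ x ∈ spanF D', mat Q y *ᵥ x ∈ spanF D') → InK F₀ y

namespace Setting

variable [Fintype F] [Fintype F₀] (hs : Setting M Q₀)
include hs

/-- A singular point pairing with two given ones. -/
theorem exists_common_pairing {a b : ι → F₀} (ha0 : a ≠ 0) (hb0 : b ≠ 0) :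
    ∃ z, Q₀ z = 0 ∧ 𝔅₀ z a ≠ 0 ∧ 𝔅₀ z b ≠ 0 := by
  by_cases hab : ∀ c : F₀, c • a ≠ b
  · set S := Submodule.span F₀ ({a, b} : Set (ι → F₀)) with hS
    have hdim : finrank F₀ S ≤ 2 := finrank_span_two_le a b
    obtain ⟨w, hwK, hwS, hwq⟩ := hs.data.exists_sing_outside hdim
    obtain ⟨q, hqK, -, hqw⟩ := hs.data.exists_sing_pair hdim hwS
    obtain ⟨t, hta, htb⟩ := AschbacherQuad.exists_pairing_pair (isNondeg hs.data.nd₀) ha0 hab 1 1
    rw [hS, mem_qperp_span] at hwK hqK
    have haw : 𝔅₀ w a = 0 := by rw [QuadraticMap.polar_comm]; exact hwK a (by simp)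
    have hbw : 𝔅₀ w b = 0 := by rw [QuadraticMap.polar_comm]; exact hwK b (by simp)
    have haq : 𝔅₀ q a = 0 := by rw [QuadraticMap.polar_comm]; exact hqK a (by simp)
    have hbq : 𝔅₀ q b = 0 := by rw [QuadraticMap.polar_comm]; exact hqK b (by simp)
    set t' := t + (1 - 𝔅₀ t w) • q with ht'
    have h1 : 𝔅₀ t' w = 1 := by
      rw [ht', QuadraticMap.polar_add_left, QuadraticMap.polar_smul_left, hqw, smul_eq_mul]
      ring
    have h2 : 𝔅₀ t' a = 1 := by
      rw [ht', QuadraticMap.polar_add_left, QuadraticMap.polar_smul_left, haq, smul_zero, add_zero]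
      exact hta
    have h3 : 𝔅₀ t' b = 1 := by
      rw [ht', QuadraticMap.polar_add_left, QuadraticMap.polar_smul_left, hbq, smul_zero, add_zero]
      exact htb
    refine ⟨t' - Q₀ t' • w, ?_, ?_, ?_⟩
    · rw [sub_eq_add_neg, QuadraticMap.map_add (⇑Q₀), ← neg_smul, QuadraticMap.map_smul, hwq,
        QuadraticMap.polar_smul_right, h1, smul_eq_mul, smul_eq_mul]
      ring
    · rw [QuadraticMap.polar_sub_left, QuadraticMap.polar_smul_left, haw, smul_zero, sub_zero, h2]
      exact one_ne_zero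
    · rw [QuadraticMap.polar_sub_left, QuadraticMap.polar_smul_left, hbw, smul_zero, sub_zero, h3]
      exact one_ne_zero
  · push Not at hab
    obtain ⟨c, rfl⟩ := hab
    obtain ⟨q, -, hqq, hqa⟩ := hs.data.exists_sing_pair (S := (⊥ : Submodule F₀ (ι → F₀)))
      (by simp) (by simpa using ha0)
    refine ⟨q, hqq, by rw [hqa]; exact one_ne_zero, ?_⟩
    rw [QuadraticMap.polar_smul_right, hqa, smul_eq_mul, mul_one]
    exact fun h => hb0 (by rw [h, zero_smul])

variable (hR : Rigid Q₀ M)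
include hR

/-- An element fixing a rational singular point is rational up to a scalar. -/
theorem stab_point {y : Isom Q} (hy : y ∈ M) {e : ι → F₀} (he0 : e ≠ 0) (he : Q₀ e = 0) {l : F}
    (hye : mat Q y *ᵥ up e = l • up e) : InK F₀ y := by
  have hQ : ∀ {u : ι → F₀}, Q₀ u = 0 → Q (up u) = 0 := hs.data.quad_up_zero
  have hP : ∀ {u v : ι → F₀}, 𝔅₀ u v = 0 → 𝔅 (up u) (up v) = 0 := hs.data.polar_up_zero
  have hl : l ≠ 0 := fun h => by
    have h1 := inv_mat_mulVec y (up e)
    rw [hye, h, zero_smul, mulVec_zero] at h1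
    exact he0 (up_eq_zero.1 h1.symm)
  obtain ⟨f, -, hfq, hfe⟩ := hs.data.exists_sing_pair (S := (⊥ : Submodule F₀ (ι → F₀)))
    (by simp) (by simpa using he0)
  have hef : 𝔅 (up e) (up f) = 1 := by
    rw [QuadraticMap.polar_comm, hs.data.polar_up, hfe]; rfl
  have hee : 𝔅 (up e) (up e) = 0 := by rw [QuadraticMap.polar_self, hQ he, smul_zero]
  have hpol : ∀ z, 𝔅 (up e) (mat Q y *ᵥ z) = l⁻¹ * 𝔅 (up e) z := fun z => by
    have h1 := polar_mulVec Q y (up e) z
    rw [hye, QuadraticMap.polar_smul_left, smul_eq_mul] at h1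
    rw [← h1, inv_mul_cancel_left₀ hl]
  have hv : 𝔅 (up e) (mat Q y *ᵥ up f) ≠ 0 := by
    rw [hpol, hef, mul_one]; exact inv_ne_zero hl
  obtain ⟨hew, hmove⟩ := eich_move (hQ he) (v := mat Q y *ᵥ up f) (y := l⁻¹ • up f)
    (by rw [quad_mulVec, hQ hfq]) (by rw [QuadraticMap.map_smul, hQ hfq, smul_zero]) hv
    (by rw [QuadraticMap.polar_smul_right, hef, hpol, hef, smul_eq_mul])
  set w := (𝔅 (up e) (mat Q y *ᵥ up f))⁻¹ • (l⁻¹ • up f - mat Q y *ᵥ up f)
  set E := eichIso Q (up e) w (hQ he) hew with hE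
  set x := E * y with hx
  have hXe : mat Q x *ᵥ up e = l • up e := by
    rw [hx, mat_mul, ← mulVec_mulVec, hye, mulVec_smul, hE, mat_eichIso,
      eich_mulVec_left (hQ he) hew]
  have hXf : mat Q x *ᵥ up f = l⁻¹ • up f := by
    rw [hx, mat_mul, ← mulVec_mulVec, hE, mat_eichIso, hmove]
  have hXt : ∀ t : ι → F₀, 𝔅₀ e t = 0 → 𝔅₀ f t = 0 →
      ∃ v : ι → F₀, up v = l • (mat Q x *ᵥ up t) := by
    intro t het hft
    have h1 := (hs.root_rat he het).conj hy
    rw [hye, rootMem_smul_left] at h1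
    obtain ⟨v, k, hvk⟩ := hR e he0 he _
      (by rw [QuadraticMap.polar_smul_right, hpol, hP het, mul_zero, smul_zero]) h1
    set z := mat Q y *ᵥ up t
    have h2 : l • (mat Q x *ᵥ up t) = up v + (k - l * 𝔅 w z) • up e := by
      rw [hx, mat_mul, ← mulVec_mulVec, hE, mat_eichIso, eich_mulVec,
        show 𝔅 (up e) z = 0 by rw [hpol, hP het, mul_zero]]
      linear_combination (norm := module) hvk
    set k' := k - l * 𝔅 w z
    have h3 : 𝔅 (l • (mat Q x *ᵥ up t)) (up f) = 0 := by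
      rw [show up f = l • (mat Q x *ᵥ up f) by rw [hXf, smul_inv_smul₀ hl],
        QuadraticMap.polar_smul_left, QuadraticMap.polar_smul_right, polar_mulVec,
        hP (by rw [QuadraticMap.polar_comm, hft]), smul_zero, smul_zero]
    rw [h2, QuadraticMap.polar_add_left, QuadraticMap.polar_smul_left, hef, smul_eq_mul, mul_one,
      hs.data.polar_up] at h3
    refine ⟨v + (-𝔅₀ v f) • e, ?_⟩
    rw [h2, up_add, up_smul, eq_neg_of_add_eq_zero_right h3]
    push_cast
    rfl
  have hl2 : l * l ∈ F₀ := by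
    obtain ⟨t, htK, htS, -⟩ := hs.data.exists_sing_outside
      (S := Submodule.span F₀ {e, f}) ((finrank_span_two_le e f).trans (by norm_num))
    obtain ⟨t', ht'K, -, htt'⟩ := hs.data.exists_sing_pair
      (S := Submodule.span F₀ {e, f}) ((finrank_span_two_le e f).trans (by norm_num)) htS
    rw [mem_qperp_span] at htK ht'K
    obtain ⟨v, hv⟩ := hXt t (htK e (by simp)) (htK f (by simp))
    obtain ⟨v', hv'⟩ := hXt t' (ht'K e (by simp)) (ht'K f (by simp))
    have h1 := hs.data.polar_up v' v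
    rw [hv, hv', QuadraticMap.polar_smul_left, QuadraticMap.polar_smul_right, polar_mulVec,
      hs.data.polar_up, htt', smul_eq_mul, smul_eq_mul] at h1
    simp at h1
    rw [h1]
    exact (𝔅₀ v' v).2
  have hXrat : RatMat F₀ (l • mat Q x) := ratMat_of_up fun u => by
    obtain ⟨v, hv⟩ := hXt (u - 𝔅₀ f u • e - 𝔅₀ e u • f)
      (by
        rw [QuadraticMap.polar_sub_right, QuadraticMap.polar_sub_right,
          QuadraticMap.polar_smul_right, QuadraticMap.polar_smul_right, QuadraticMap.polar_self, he,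
          QuadraticMap.polar_comm (⇑Q₀) e f, hfe]
        simp)
      (by
        rw [QuadraticMap.polar_sub_right, QuadraticMap.polar_sub_right,
          QuadraticMap.polar_smul_right, QuadraticMap.polar_smul_right, QuadraticMap.polar_self,
          hfq, hfe]
        simp)
    refine ⟨v + (𝔅₀ f u * ⟨l * l, hl2⟩) • e + 𝔅₀ e u • f, ?_⟩
    rw [up_add, up_add, up_smul, up_smul, hv, smul_mulVec, up_sub, up_sub, up_smul, up_smul,
      mulVec_sub, mulVec_sub, mulVec_smul, mulVec_smul, hXe, hXf, smul_sub, smul_sub]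
    push_cast
    match_scalars <;> field_simp <;> ring
  have hxK : InK F₀ x := mem_subfieldSubgroup_one_iff.2 ⟨l, hl, hXrat⟩
  have hxM : x ∈ M :=
    hs.lower x (mul_mem (eich_mem_omega hs.data.nd hs.card_ge _ _) (hs.le_omega hy)) hxK
  have hEM : E ∈ M := by simpa [hx] using mul_mem hxM (inv_mem hy)
  obtain ⟨v, k, hvk⟩ := hR e he0 he w hew (RootMem.of_iso (hQ he) hew hEM)
  have hev : 𝔅 (up e) (up v) = 0 := by
    have h1 := hew
    rw [hvk, QuadraticMap.polar_add_right, QuadraticMap.polar_smul_right, hee, smul_zero,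
      add_zero] at h1
    exact h1
  have hEK : InK F₀ E := InK.of_rat (by
    rw [hE, mat_eichIso, hvk, eich_add_smul (hQ he) hev]
    exact hs.data.ratMat_eich e v)
  simpa [hx] using hEK.inv.mul hxK

/-- An element moving a rational singular point to another is rational up to a scalar. -/
theorem stab_line {y : Isom Q} (hy : y ∈ M) {e e' : ι → F₀} (he0 : e ≠ 0) (he : Q₀ e = 0)
    (he0' : e' ≠ 0) (he' : Q₀ e' = 0) {l : F} (hye : mat Q y *ᵥ up e = l • up e') : InK F₀ y := by
  obtain ⟨z, hzq, hze, hze'⟩ := hs.exists_common_pairing he0 he0'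
  set c := 𝔅₀ z e' / 𝔅₀ z e with hc
  obtain ⟨hzw, hmove⟩ := eich_move hzq (v := e') (y := c • e) he'
    (by rw [QuadraticMap.map_smul, he, smul_zero]) hze'
    (by rw [QuadraticMap.polar_smul_right, smul_eq_mul, hc, div_mul_cancel₀ _ hze])
  set w := (𝔅₀ z e')⁻¹ • (c • e - e')
  have hu := hs.data.quad_up_zero hzq
  have hw := hs.data.polar_up_zero hzw
  set k := eichIso Q (up z) (up w) hu hw with hk
  have hkM : k ∈ M := (hs.root_rat hzq hzw).iso hu hw
  have hkK : InK F₀ k := InK.of_rat (hs.data.ratMat_eich z w)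
  have h1 : InK F₀ (k * y) := hs.stab_point hR (mul_mem hkM hy) he0 he (l := l * c) (by
    rw [mat_mul, ← mulVec_mulVec, hye, mulVec_smul, hk, mat_eichIso, hs.data.eich_up, hmove,
      up_smul, smul_smul])
  simpa using hkK.inv.mul h1

/-- An element moving a rational singular point into a rational singular line is rational. -/
theorem plane_move {y : Isom Q} (hy : y ∈ M) {e : ι → F₀} (he0 : e ≠ 0) (he : Q₀ e = 0)
    {a b : ι → F₀} (ha0 : a ≠ 0) (ha : Q₀ a = 0) (hb : Q₀ b = 0) (hab : 𝔅₀ a b = 0)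
    (hba : b ∉ Submodule.span F₀ {a}) {α β : F}
    (hye : mat Q y *ᵥ up e = α • up a + β • up b) : InK F₀ y := by
  have hQ : ∀ {u : ι → F₀}, Q₀ u = 0 → Q (up u) = 0 := hs.data.quad_up_zero
  have hP : ∀ {u v : ι → F₀}, 𝔅₀ u v = 0 → 𝔅 (up u) (up v) = 0 := hs.data.polar_up_zero
  have hb0 : b ≠ 0 := fun h => hba (h ▸ Submodule.zero_mem _)
  by_cases hα : α = 0
  · exact hs.stab_line hR hy he0 he hb0 hb (l := β)
      (by rw [hye, hα, zero_smul, zero_add])
  set d := β / α with hd
  by_cases hdr : d ∈ F₀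
  · refine hs.stab_line hR hy he0 he (e' := a + (⟨d, hdr⟩ : F₀) • b) (fun h => hba ?_) ?_
      (l := α) ?_
    · rcases eq_or_ne (⟨d, hdr⟩ : F₀) 0 with h0 | h0
      · rw [h0, zero_smul, add_zero] at h
        exact absurd h ha0
      · refine Submodule.mem_span_singleton.2 ⟨-(⟨d, hdr⟩ : F₀)⁻¹, ?_⟩
        rw [eq_neg_of_add_eq_zero_left h, smul_neg, neg_smul, neg_neg, inv_smul_smul₀ h0]
    · rw [QuadraticMap.map_add (⇑Q₀), QuadraticMap.map_smul, ha, hb,
        QuadraticMap.polar_smul_right, hab, smul_zero, smul_zero, add_zero, add_zero]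
    · rw [hye, up_add, up_smul, smul_add, smul_smul]
      show _ = α • up a + (α * d) • up b
      rw [show α * d = β by rw [hd, mul_div_cancel₀ _ hα]]
  exfalso
  set c0 := up a + d • up b with hc0
  have hye' : mat Q y *ᵥ up e = α • c0 := by
    rw [hye, hc0, smul_add, smul_smul, hd, mul_div_cancel₀ _ hα]
  have hd0 : d ≠ 0 := fun h => hdr (h ▸ F₀.zero_mem)
  have haa : 𝔅₀ a a = 0 := by rw [QuadraticMap.polar_self, ha, smul_zero]
  have hbb : 𝔅₀ b b = 0 := by rw [QuadraticMap.polar_self, hb, smul_zero]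
  have hba' : 𝔅₀ b a = 0 := by rw [QuadraticMap.polar_comm, hab]
  have hperp : ∀ {z : ι → F₀}, 𝔅₀ z a = 0 → 𝔅₀ z b = 0 → 𝔅 (up z) c0 = 0 := by
    intro z h1 h2
    rw [hc0, QuadraticMap.polar_add_right, QuadraticMap.polar_smul_right, hP h1, hP h2, smul_zero,
      add_zero]
  have hc0q : Q c0 = 0 := by
    rw [hc0, QuadraticMap.map_add (⇑Q), QuadraticMap.map_smul, hQ ha, hQ hb,
      QuadraticMap.polar_smul_right, hP hab, smul_zero, smul_zero, add_zero, add_zero]
  obtain ⟨t, het, hμ⟩ : ∃ t, 𝔅₀ e t = 0 ∧ 𝔅 (up t) (mat Q y⁻¹ *ᵥ up a) ≠ 0 := by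
    by_contra! hall
    have h1 := spanF_span_le _ (hs.data.mem_spanF_of_perp
      (S := Submodule.span F₀ {e}) fun u hu => hall u (mem_qperp_singleton.1 hu))
    rw [Set.image_singleton] at h1
    obtain ⟨c, hc⟩ := Submodule.mem_span_singleton.1 h1
    have h2 := congrArg (mat Q y *ᵥ ·) hc
    simp only [mat_inv_mulVec', mulVec_smul, hye', smul_smul] at h2
    obtain ⟨p, hpK, -, hpb⟩ := hs.data.exists_sing_pair
      (S := Submodule.span F₀ {a}) (by rw [finrank_span_singleton ha0]; norm_num) hba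
    have hpa : 𝔅₀ p a = 0 := by
      rw [QuadraticMap.polar_comm]; exact mem_qperp_singleton.1 hpK
    have h3 := congrArg (QuadraticMap.polar (⇑Q) (up p)) h2
    rw [QuadraticMap.polar_smul_right, hc0, QuadraticMap.polar_add_right,
      QuadraticMap.polar_smul_right, hP hpa, hs.data.polar_up p b, hpb] at h3
    simp [hd0, hα] at h3
    rw [h3, zero_mul, zero_smul] at h2
    exact ha0 (up_eq_zero.1 h2.symm)
  set v := α • (mat Q y *ᵥ up t) with hvdef
  have h0 : RootMem M c0 v := by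
    have h1 := (hs.root_rat he het).conj hy
    rwa [hye', rootMem_smul_left] at h1
  have hc0v : 𝔅 c0 v = 0 := by
    have h1 := polar_mulVec Q y (up e) (up t)
    rw [hye', hP het, QuadraticMap.polar_smul_left] at h1
    rw [hvdef, QuadraticMap.polar_smul_right, h1]
  set μ := 𝔅 (up a) v with hμdef
  have hμ0 : μ ≠ 0 := by
    rw [hμdef, hvdef, QuadraticMap.polar_smul_right]
    refine smul_ne_zero hα fun h => hμ ?_
    rw [QuadraticMap.polar_comm, ← polar_mulVec Q y, mat_inv_mulVec']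
    exact h
  set S := Submodule.span F₀ ({a, b} : Set (ι → F₀)) with hS
  have hSd : finrank F₀ S ≤ 2 := finrank_span_two_le a b
  obtain ⟨s, hsK, hsS, hsq⟩ := hs.data.exists_sing_outside hSd
  obtain ⟨p, hpK, hpq, hps⟩ := hs.data.exists_sing_pair hSd hsS
  rw [hS, mem_qperp_span] at hsK hpK
  have has : 𝔅₀ a s = 0 := hsK a (by simp)
  have hsa : 𝔅₀ s a = 0 := by rw [QuadraticMap.polar_comm, has]
  have hbs : 𝔅₀ b s = 0 := hsK b (by simp)
  have hsb : 𝔅₀ s b = 0 := by rw [QuadraticMap.polar_comm, hbs]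
  have hpa : 𝔅₀ p a = 0 := by rw [QuadraticMap.polar_comm]; exact hpK a (by simp)
  have hpb : 𝔅₀ p b = 0 := by rw [QuadraticMap.polar_comm]; exact hpK b (by simp)
  -- first commutator
  set c := 𝔅 (up s) v with hcdef
  set x1 := μ • up s - c • up a with hx1
  have hc0x1 : 𝔅 c0 x1 = 0 := by
    rw [QuadraticMap.polar_comm, hx1, QuadraticMap.polar_sub_left, QuadraticMap.polar_smul_left,
      QuadraticMap.polar_smul_left, hperp hsa hsb, hperp haa hab, smul_zero, smul_zero, sub_zero]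
  have h1 : RootMem M c0 x1 := by
    have h' := h0.conj ((hs.root_rat ha has).iso (hQ ha) (hP has))
    rw [mat_eichIso, eich_mulVec (up a) (up s) c0, hperp haa hab, hperp hsa hsb,
      eich_mulVec (up a) (up s) v, ← hμdef, ← hcdef, hQ hsq] at h'
    simp only [zero_smul, zero_mul, mul_zero, sub_zero, add_zero] at h'
    rw [← hx1] at h'
    have h3 := h'.add hc0q (by rw [QuadraticMap.polar_add_right, hc0v, hc0x1, add_zero])
      (by rw [QuadraticMap.polar_neg_right, hc0v, neg_zero]) (h0.neg hc0q hc0v)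
    rwa [add_neg_cancel_comm] at h3
  -- second commutator
  have hpx : 𝔅 (up p) x1 = μ := by
    rw [hx1, QuadraticMap.polar_sub_right, QuadraticMap.polar_smul_right,
      QuadraticMap.polar_smul_right, hs.data.polar_up p s, hps, hP hpa]
    simp
  have h2 : ∀ {q : ι → F₀}, Q₀ q = 0 → 𝔅₀ q a = 0 → 𝔅₀ q b = 0 → 𝔅₀ q s = 0 → 𝔅₀ p q = 0 →
      RootMem M c0 (μ • up q) := by
    intro q hqq hqa hqb hqs hpq'
    have hqx : 𝔅 (up q) x1 = 0 := by
      rw [hx1, QuadraticMap.polar_sub_right, QuadraticMap.polar_smul_right,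
        QuadraticMap.polar_smul_right, hP hqs, hP hqa]
      simp
    have h' := h1.conj ((hs.root_rat hpq hpq').iso (hQ hpq) (hP hpq'))
    rw [mat_eichIso, eich_mulVec (up p) (up q) c0, hperp hpa hpb, hperp hqa hqb,
      eich_mulVec (up p) (up q) x1, hpx, hqx, hQ hqq] at h'
    simp only [zero_smul, zero_mul, mul_zero, sub_zero, add_zero] at h'
    have hc0q' : 𝔅 c0 (μ • up q) = 0 := by
      rw [QuadraticMap.polar_smul_right, QuadraticMap.polar_comm, hperp hqa hqb, smul_zero]
    have h3 := h'.add hc0q (by rw [QuadraticMap.polar_add_right, hc0x1, hc0q', add_zero])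
      (by rw [QuadraticMap.polar_neg_right, hc0x1, neg_zero]) (h1.neg hc0q hc0x1)
    rwa [add_neg_cancel_comm] at h3
  have hab' : a ∉ Submodule.span F₀ {b} := fun hm => by
    obtain ⟨x, rfl⟩ := Submodule.mem_span_singleton.1 hm
    have hx : x ≠ 0 := fun h => ha0 (by rw [h, zero_smul])
    exact hba (Submodule.mem_span_singleton.2 ⟨x⁻¹, inv_smul_smul₀ hx b⟩)
  obtain ⟨p1, hp1K, -, hp1a⟩ := hs.data.exists_sing_pair
    (S := Submodule.span F₀ {b}) (by rw [finrank_span_singleton hb0]; norm_num) hab'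
  obtain ⟨p2, hp2K, -, hp2b⟩ := hs.data.exists_sing_pair
    (S := Submodule.span F₀ {a}) (by rw [finrank_span_singleton ha0]; norm_num) hba
  have z1 : 𝔅₀ p1 b = 0 := by rw [QuadraticMap.polar_comm]; exact mem_qperp_singleton.1 hp1K
  have z3 : 𝔅₀ p2 a = 0 := by rw [QuadraticMap.polar_comm]; exact mem_qperp_singleton.1 hp2K
  have m1 : μ ∈ F₀ := by
    have h4 := (h2 hb hba' hbb hbs hpb).swap hc0q (by rw [QuadraticMap.map_smul, hQ hb, smul_zero])
    rw [rootMem_smul_left] at h4
    obtain ⟨u, k, huk⟩ := hR b hb0 hb _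
      (by rw [QuadraticMap.polar_smul_right, QuadraticMap.polar_neg_right, hperp hba' hbb, neg_zero,
        smul_zero]) h4
    have e1 := congrArg (QuadraticMap.polar (⇑Q) (up p1)) huk
    simp [hc0, QuadraticMap.polar_add_right, QuadraticMap.polar_neg_right,
      QuadraticMap.polar_smul_right, hs.data.polar_up, z1, hp1a] at e1
    have := F₀.neg_mem (𝔅₀ p1 u).2
    rwa [← e1, neg_neg] at this
  have m2 : μ * d ∈ F₀ := by
    have h4 := (h2 ha haa hab has hpa).swap hc0q (by rw [QuadraticMap.map_smul, hQ ha, smul_zero])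
    rw [rootMem_smul_left] at h4
    obtain ⟨u, k, huk⟩ := hR a ha0 ha _
      (by rw [QuadraticMap.polar_smul_right, QuadraticMap.polar_neg_right, hperp haa hab, neg_zero,
        smul_zero]) h4
    have e2 := congrArg (QuadraticMap.polar (⇑Q) (up p2)) huk
    simp [hc0, QuadraticMap.polar_add_right, QuadraticMap.polar_neg_right,
      QuadraticMap.polar_smul_right, hs.data.polar_up, z3, hp2b] at e2
    have := F₀.neg_mem (𝔅₀ p2 u).2
    rwa [← e2, neg_neg] at this
  exact hdr (by simpa [hμ0] using F₀.mul_mem (F₀.inv_mem m1) m2)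

/-- An element conjugating a rational root element into a rational one is rational. -/
theorem root_move {y : Isom Q} (hy : y ∈ M) {e w : ι → F₀} (he0 : e ≠ 0) (he : Q₀ e = 0)
    (hw : Q₀ w = 0) (hew : 𝔅₀ e w = 0) (hwe : w ∉ Submodule.span F₀ {e})
    (hk : InK F₀ (y * eichIso Q (up e) (up w) (hs.data.quad_up_zero he)
      (hs.data.polar_up_zero hew) * y⁻¹)) : InK F₀ y := by
  have hQ : ∀ {u : ι → F₀}, Q₀ u = 0 → Q (up u) = 0 := hs.data.quad_up_zero
  set x := eichIso Q (up e) (up w) (hQ he) (hs.data.polar_up_zero hew) with hx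
  set k := y * x * y⁻¹ with hkdef
  set A := mat Q y *ᵥ up e with hA
  set B := mat Q y *ᵥ up w with hB
  have hK : ∀ u, mat Q k *ᵥ (mat Q y *ᵥ u) - mat Q y *ᵥ u =
      𝔅 (up e) u • B - 𝔅 (up w) u • A := fun u => by
    rw [hkdef, mat_mul, mat_mul, ← mulVec_mulVec, ← mulVec_mulVec, inv_mat_mulVec, hx, mat_eichIso,
      eich_mulVec, hQ hw]
    simp [mulVec_add, mulVec_sub, mulVec_smul, hA, hB]
  have hle : rng k ≤ Submodule.span F ({A, B} : Set (ι → F)) := rng_le fun z => by
    obtain ⟨u, rfl⟩ : ∃ u, mat Q y *ᵥ u = z := ⟨_, mat_inv_mulVec' y z⟩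
    rw [hK]
    exact Submodule.sub_mem _ (Submodule.smul_mem _ _ (Submodule.subset_span (by simp)))
      (Submodule.smul_mem _ _ (Submodule.subset_span (by simp)))
  have hdim : finrank F (rng k) ≤ 2 := by
    refine (Submodule.finrank_mono hle).trans ?_
    have h2 := finrank_range_le_card (R := F) ![A, B]
    rw [Fintype.card_fin, Set.finrank] at h2
    rwa [show ({A, B} : Set (ι → F)) = Set.range ![A, B] by
      simp only [Matrix.range_cons, Matrix.range_empty, Set.union_empty, Set.singleton_union]]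
  have hrat := ratMat_of_small hk (by have := hs.data.card; omega)
  obtain ⟨D, hD⟩ := exists_spanF_range hrat.sub_one
  change spanF D = rng k at hD
  have hne : ∀ c : F₀, c • e ≠ w := fun c hc => hwe (Submodule.mem_span_singleton.2 ⟨c, hc⟩)
  have hmem : A ∈ rng k ∧ B ∈ rng k := by
    obtain ⟨t, ht1, ht2⟩ :=
      AschbacherQuad.exists_pairing_pair (isNondeg hs.data.nd₀) he0 hne 0 (-1)
    obtain ⟨t', ht1', ht2'⟩ :=
      AschbacherQuad.exists_pairing_pair (isNondeg hs.data.nd₀) he0 hne 1 0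
    refine ⟨mem_rng.2 ⟨mat Q y *ᵥ up t, ?_⟩, mem_rng.2 ⟨mat Q y *ᵥ up t', ?_⟩⟩
    · rw [hK, QuadraticMap.polar_comm (⇑Q) (up e), QuadraticMap.polar_comm (⇑Q) (up w),
        hs.data.polar_up, hs.data.polar_up, show 𝔅₀ t e = 0 from ht1,
        show 𝔅₀ t w = -1 from ht2]
      simp
    · rw [hK, QuadraticMap.polar_comm (⇑Q) (up e), QuadraticMap.polar_comm (⇑Q) (up w),
        hs.data.polar_up, hs.data.polar_up, show 𝔅₀ t' e = 1 from ht1',
        show 𝔅₀ t' w = 0 from ht2']
      simp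
  rw [← hD] at hmem hdim hle
  rw [finrank_spanF] at hdim
  have hA0 : A ≠ 0 := fun h => he0 (up_eq_zero.1 (by
    rw [← inv_mat_mulVec y (up e), ← hA, h, mulVec_zero]))
  have hTS : ∀ u ∈ D, ∀ v ∈ D, Q₀ u = 0 ∧ 𝔅₀ u v = 0 := by
    have hAA : Q A = 0 := by rw [hA, quad_mulVec, hQ he]
    have hBB : Q B = 0 := by rw [hB, quad_mulVec, hQ hw]
    have hAB : 𝔅 A B = 0 := by rw [hA, hB, polar_mulVec, hs.data.polar_up_zero hew]
    have hS : ∀ z ∈ Submodule.span F ({A, B} : Set (ι → F)), Q z = 0 := fun z hz => by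
      obtain ⟨p, r, rfl⟩ := Submodule.mem_span_pair.1 hz
      simp [QuadraticMap.map_add, QuadraticMap.map_smul, QuadraticMap.polar_smul_left,
        QuadraticMap.polar_smul_right, hAA, hBB, hAB]
    intro u hu v hv
    have h1 := hS _ (hle (up_mem_spanF hu))
    have h2 := OrthMax.polar_eq_zero hS (hle (up_mem_spanF hu)) (hle (up_mem_spanF hv))
    rw [← hs.data.quad] at h1
    rw [hs.data.polar_up] at h2
    exact ⟨Subtype.ext h1, Subtype.ext h2⟩
  have hDne : D ≠ ⊥ := fun h => hA0 (by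
    have h1 : spanF D ≤ (⊥ : Submodule F (ι → F)) :=
      spanF_le fun u hu => by rw [h, Submodule.mem_bot] at hu; simp [hu, up_zero]
    exact (Submodule.mem_bot F).1 (h1 hmem.1))
  obtain ⟨a, haD, ha0⟩ := Submodule.exists_mem_ne_zero_of_ne_bot hDne
  obtain ⟨b, hbD, hba⟩ : ∃ b ∈ D, b ∉ Submodule.span F₀ {a} := by
    by_contra! hall
    have h1 : spanF D ≤ Submodule.span F {up a} := (spanF_le fun u hu =>
      up_mem_spanF (hall u hu)).trans ((spanF_span_le _).trans (by rw [Set.image_singleton]))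
    obtain ⟨c1, hc1⟩ := Submodule.mem_span_singleton.1 (h1 hmem.1)
    obtain ⟨c2, hc2⟩ := Submodule.mem_span_singleton.1 (h1 hmem.2)
    have hc10 : c1 ≠ 0 := fun h => hA0 (by rw [← hc1, h, zero_smul])
    refine hwe (mem_of_up_mem ?_)
    have e2 : up w = (c2 / c1) • up e := by
      rw [← inv_mat_mulVec y (up w), ← hB, ← inv_mat_mulVec y (up e), ← hA, ← hc1, ← hc2,
        ← mulVec_smul, smul_smul, div_mul_cancel₀ _ hc10]
    rw [e2]
    exact Submodule.smul_mem _ _ (up_mem_spanF (Submodule.mem_span_singleton_self e))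
  have hDab : D = Submodule.span F₀ ({a, b} : Set (ι → F₀)) := by
    symm
    refine Submodule.eq_of_le_of_finrank_le (Submodule.span_le.2 ?_) ?_
    · simp [Set.insert_subset_iff, haD, hbD]
    · have h1 : Submodule.span F₀ {a} < Submodule.span F₀ ({a, b} : Set (ι → F₀)) :=
        lt_of_le_of_ne (Submodule.span_mono (by simp)) fun h =>
          hba (h ▸ Submodule.subset_span (by simp))
      have e1 := Submodule.finrank_lt_finrank_of_lt h1
      rw [finrank_span_singleton ha0] at e1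
      omega
  have h1 := spanF_span_le _ (hDab ▸ hmem.1 : A ∈ spanF (Submodule.span F₀ {a, b}))
  rw [Set.image_pair] at h1
  obtain ⟨α, β, hαβ⟩ := Submodule.mem_span_pair.1 h1
  exact hs.plane_move hR hy he0 he ha0 (hTS a haD a haD).1 (hTS b hbD b hbD).1
    (hTS a haD b hbD).2 hba hαβ.symm

/-- An element moving a rational singular point to the orthogonal of a rational singular line is
rational. -/
theorem fixed_orth {y : Isom Q} (hy : y ∈ M) {e : ι → F₀} (he0 : e ≠ 0) (he : Q₀ e = 0)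
    {a b : ι → F₀} (ha0 : a ≠ 0) (ha : Q₀ a = 0) (hb : Q₀ b = 0) (hab : 𝔅₀ a b = 0)
    (hba : b ∉ Submodule.span F₀ {a}) (hya : 𝔅 (up a) (mat Q y *ᵥ up e) = 0)
    (hyb : 𝔅 (up b) (mat Q y *ᵥ up e) = 0) : InK F₀ y := by
  have hQ : ∀ {u : ι → F₀}, Q₀ u = 0 → Q (up u) = 0 := hs.data.quad_up_zero
  set x := eichIso Q (up a) (up b) (hQ ha) (hs.data.polar_up_zero hab) with hx
  have hxM : x ∈ M := (hs.root_rat ha hab).iso _ _
  have hz : InK F₀ (y⁻¹ * x * y) :=
    hs.stab_point hR (mul_mem (mul_mem (inv_mem hy) hxM) hy) he0 he (l := 1) (by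
      rw [mat_mul, mat_mul, ← mulVec_mulVec, ← mulVec_mulVec, hx, mat_eichIso, eich_mulVec, hya,
        hyb]
      simp only [zero_smul, zero_mul, mul_zero, sub_zero, add_zero]
      rw [inv_mat_mulVec, one_smul])
  have h1 : InK F₀ y⁻¹ := hs.root_move hR (inv_mem hy) ha0 ha hb hab hba
    (by rw [inv_inv]; exact hz)
  simpa using h1.inv

/-- An element moving a rational singular point into a small rational subspace is rational. -/
theorem mem_of_image {y : Isom Q} (hy : y ∈ M) {e : ι → F₀} (he0 : e ≠ 0) (he : Q₀ e = 0)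
    {D : Submodule F₀ (ι → F₀)} (hD : finrank F₀ D + 5 ≤ Fintype.card ι)
    (hye : mat Q y *ᵥ up e ∈ spanF D) : InK F₀ y := by
  obtain ⟨a, haK, b, hbK, ha, hb, hab, ha0, hba⟩ := hs.data.exists_plane
    (K := qperp Q₀ D) (by rw [hs.data.le_finrank_qperp]; omega)
  have hz : ∀ c ∈ qperp Q₀ D, ∀ x ∈ spanF D, 𝔅 (up c) x = 0 := by
    intro c hc x hx
    rw [spanF] at hx
    induction hx using Submodule.span_induction with
    | mem z hz =>
      obtain ⟨u, hu, rfl⟩ := hz
      exact hs.data.polar_up_zero (by rw [QuadraticMap.polar_comm]; exact mem_qperp.1 hc u hu)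
    | zero => simp
    | add p r _ _ hp hr => rw [QuadraticMap.polar_add_right, hp, hr, add_zero]
    | smul t p _ hp => rw [QuadraticMap.polar_smul_right, hp, smul_zero]
  exact hs.fixed_orth hR hy he0 he ha0 ha hb hab hba (hz a haK _ hye) (hz b hbK _ hye)

end Setting

end CfsgLib.OrthSubfield
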