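import Cfsg.Agent.OrthSubfield.Coefficients

/-!
# The dichotomy in odd dimension at least seven, odd characteristic

The statements of `Rational` and `Coefficients` for a rational structure on a space of odd dimension at
least seven, where rational vectors orthogonal to a given subspace need a bound on its radical.
-/

set_option autoImplicit false
set_option linter.unusedSectionVars false

namespace CfsgLib.OrthSubfield

open Matrix Module CfsgLib.Spinor CfsgLib.Forms CfsgLib.Forms4 CfsgLib.MaxSub CfsgLib.OrthMax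
  Cfsg.Geo

variable {F : Type*} [Field F] {ι : Type} [Fintype ι] [DecidableEq ι] {F₀ : Subfield F}

variable (F₀)

/-- `Q₀` is the rational part of the nondegenerate form `Q`. -/
structure SData (Q : QuadraticForm F (ι → F)) (Q₀ : QuadraticForm F₀ (ι → F₀)) : Prop where
  quad : ∀ u, ((Q₀ u : F₀) : F) = Q (up u)
  nd : (QuadraticMap.polarBilin Q).Nondegenerate
  h2 : (2 : F) ≠ 0
  card : 7 ≤ Fintype.card ι
  odd : Odd (Fintype.card ι)

variable {F₀} {Q : QuadraticForm F (ι → F)} {Q₀ : QuadraticForm F₀ (ι → F₀)}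

set_option quotPrecheck false in
local notation "𝔅" => QuadraticMap.polar (⇑Q)

set_option quotPrecheck false in
local notation "𝔅₀" => QuadraticMap.polar (⇑Q₀)

namespace SData

variable (h : SData F₀ Q Q₀)
include h

theorem polar_up (u v : ι → F₀) : 𝔅 (up u) (up v) = ((𝔅₀ u v : F₀) : F) := by
  simp only [QuadraticMap.polar, ← up_add, ← h.quad]
  push_cast
  rfl

theorem polar_up_zero {u v : ι → F₀} (e : 𝔅₀ u v = 0) : 𝔅 (up u) (up v) = 0 := by
  rw [h.polar_up, e]; rfl

theorem quad_up_zero {u : ι → F₀} (e : Q₀ u = 0) : Q (up u) = 0 := by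
  rw [← h.quad, e]; rfl

theorem eq_zero_of_forall_up {x : ι → F} (hx : ∀ u : ι → F₀, 𝔅 x (up u) = 0) : x = 0 := by
  refine h.nd.1 x fun y => ?_
  have hy : y ∈ spanF (⊤ : Submodule F₀ (ι → F₀)) := by rw [spanF_top]; trivial
  rw [spanF] at hy
  induction hy using Submodule.span_induction with
  | mem z hz => obtain ⟨u, -, rfl⟩ := hz; exact hx u
  | zero => simp
  | add a b _ _ ha hb => rw [map_add, ha, hb, add_zero]
  | smul c a _ ha => rw [map_smul, ha, smul_zero]

theorem nd₀ : (QuadraticMap.polarBilin Q₀).Nondegenerate := by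
  have key : ∀ u, (∀ v, 𝔅₀ u v = 0) → u = 0 := fun u hu =>
    up_eq_zero.1 (h.eq_zero_of_forall_up fun v => h.polar_up_zero (hu v))
  exact ⟨fun u hu => key u hu, fun u hu => key u fun v => by
    rw [QuadraticMap.polar_comm]; exact hu v⟩

/-- A vector with rational products with all rational vectors is rational. -/
theorem rat_of_polar {x : ι → F} (hx : ∀ u : ι → F₀, 𝔅 x (up u) ∈ F₀) :
    ∃ v : ι → F₀, up v = x := by
  let T : (ι → F₀) →ₗ[F₀] (ι → F₀) :=
    LinearMap.pi fun i => (QuadraticMap.polarBilin Q₀).flip (Pi.single i 1)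
  have hT : ∀ v i, T v i = 𝔅₀ v (Pi.single i 1) := fun v i => rfl
  have hinj : Function.Injective T := by
    refine (injective_iff_map_eq_zero T).2 fun v hv => h.nd₀.1 v fun y => ?_
    rw [pi_eq_sum_univ' y, map_sum]
    refine Finset.sum_eq_zero fun i _ => ?_
    rw [map_smul, QuadraticMap.polarBilin_apply_apply, ← hT, hv]
    simp
  obtain ⟨v, hv⟩ := LinearMap.injective_iff_surjective.1 hinj
    (fun i => ⟨𝔅 x (up (Pi.single i 1)), hx _⟩)
  refine ⟨v, (sub_eq_zero.1 (h.eq_zero_of_forall_up fun u => ?_)).symm⟩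
  have hi : ∀ i, 𝔅 (x - up v) (up (Pi.single i 1)) = 0 := fun i => by
    rw [QuadraticMap.polar_sub_left, h.polar_up, ← hT, hv, sub_self]
  have e : up u = ∑ i, ((u i : F₀) : F) • up (Pi.single i (1 : F₀)) := by
    funext j
    simp [up_single, Finset.sum_apply, up, Pi.single_apply]
  rw [e, ← QuadraticMap.polarBilin_apply_apply, map_sum]
  exact Finset.sum_eq_zero fun i _ => by
    rw [map_smul, QuadraticMap.polarBilin_apply_apply, hi, smul_zero]

theorem eich_up (z w : ι → F₀) (x : ι → F₀) :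
    eich Q (up z) (up w) *ᵥ up x = up (eich Q₀ z w *ᵥ x) := by
  rw [eich_mulVec, eich_mulVec]
  simp only [h.polar_up, ← h.quad, up_add, up_sub, up_smul]
  push_cast
  rfl

theorem ratMat_eich (z w : ι → F₀) : RatMat F₀ (eich Q (up z) (up w)) :=
  ratMat_of_up fun x => ⟨_, h.eich_up z w x⟩

/-- A vector orthogonal to the rational vectors orthogonal to `S` lies in the span of `S`. -/
theorem mem_spanF_of_perp {S : Submodule F₀ (ι → F₀)} {x : ι → F}
    (hx : ∀ u ∈ qperp Q₀ S, 𝔅 (up u) x = 0) : x ∈ spanF S := by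
  have hle : spanF S ≤ qperp Q (spanF (qperp Q₀ S)) := by
    refine spanF_le fun s hs => mem_qperp.2 fun y hy => ?_
    rw [spanF] at hy
    induction hy using Submodule.span_induction with
    | mem z hz =>
      obtain ⟨u, hu, rfl⟩ := hz
      refine h.polar_up_zero ?_
      rw [QuadraticMap.polar_comm]
      exact mem_qperp.1 hu s hs
    | zero => simp
    | add a b _ _ ha hb => rw [QuadraticMap.polar_add_left, ha, hb, add_zero]
    | smul c a _ ha => rw [QuadraticMap.polar_smul_left, ha, smul_zero]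
  have he : spanF S = qperp Q (spanF (qperp Q₀ S)) := by
    refine Submodule.eq_of_le_of_finrank_eq hle ?_
    have h3 := Submodule.finrank_le S
    rw [finrank_fintype_fun_eq_card] at h3
    rw [finrank_qperp h.nd, finrank_spanF, finrank_spanF, finrank_qperp h.nd₀]
    omega
  rw [he]
  refine mem_qperp.2 fun y hy => ?_
  rw [spanF] at hy
  induction hy using Submodule.span_induction with
  | mem z hz => obtain ⟨u, hu, rfl⟩ := hz; exact hx u hu
  | zero => simp
  | add a b _ _ ha hb => rw [QuadraticMap.polar_add_left, ha, hb, add_zero]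
  | smul c a _ ha => rw [QuadraticMap.polar_smul_left, ha, smul_zero]

variable [Fintype F₀]

theorem le_finrank_qperp (S : Submodule F₀ (ι → F₀)) :
    finrank F₀ (qperp Q₀ S) = Fintype.card ι - finrank F₀ S :=
  finrank_qperp h.nd₀ S

theorem h2₀ : (2 : F₀) ≠ 0 := fun e => h.h2 (by
  have h1 := congrArg F₀.subtype e
  rwa [map_ofNat, map_zero] at h1)

/-- A rational singular vector orthogonal to `S`, outside `S`, when the radical of `S` is small. -/
theorem exists_sing_outside' {S : Submodule F₀ (ι → F₀)}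
    (hS : finrank F₀ (qperp Q₀ S ⊓ S : Submodule F₀ (ι → F₀)) + finrank F₀ S ≤ 4) :
    ∃ z ∈ qperp Q₀ S, z ∉ S ∧ Q₀ z = 0 := by
  refine exists_singular_notMem h.nd₀ ?_
  have h1 := h.le_finrank_qperp S
  have := h.card
  omega

/-- A rational singular vector orthogonal to `S`, outside `S`, for `S` of dimension at most two. -/
theorem exists_sing_outside {S : Submodule F₀ (ι → F₀)} (hS : finrank F₀ S ≤ 2) :
    ∃ z ∈ qperp Q₀ S, z ∉ S ∧ Q₀ z = 0 := by
  refine h.exists_sing_outside' ?_
  have h2 := Submodule.finrank_mono (inf_le_right : qperp Q₀ S ⊓ S ≤ S)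
  omega

/-- A rational singular vector orthogonal to `S` with product one with `t`. -/
theorem exists_sing_pair' {S : Submodule F₀ (ι → F₀)} {z : ι → F₀} (hz : z ∈ qperp Q₀ S)
    (hzS : z ∉ S) (hzq : Q₀ z = 0) {t : ι → F₀} (ht : t ∉ S) :
    ∃ q ∈ qperp Q₀ S, Q₀ q = 0 ∧ 𝔅₀ q t = 1 := by
  have hrad : ∀ x : ι → F₀, x ∉ S → ∃ y ∈ qperp Q₀ S, 𝔅₀ y x ≠ 0 := by
    intro x hx
    by_contra! hall
    exact hx ((qperp_qperp h.nd₀ S) ▸ mem_qperp.2 hall)
  obtain ⟨x₀, hx₀, hzx⟩ := hrad z hzS
  obtain ⟨t', ht', htt⟩ := hrad t ht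
  obtain ⟨q, hq, hqq, hqt⟩ := exists_singular_pairing hz hzq hx₀ hzx ht' htt
  refine ⟨(𝔅₀ q t)⁻¹ • q, Submodule.smul_mem _ _ hq, by rw [QuadraticMap.map_smul, hqq, smul_zero],
    by rw [QuadraticMap.polar_smul_left, smul_eq_mul, inv_mul_cancel₀ hqt]⟩

/-- A rational singular vector orthogonal to a small `S` with product one with `t`. -/
theorem exists_sing_pair {S : Submodule F₀ (ι → F₀)} (hS : finrank F₀ S ≤ 2) {t : ι → F₀}
    (ht : t ∉ S) : ∃ q ∈ qperp Q₀ S, Q₀ q = 0 ∧ 𝔅₀ q t = 1 := by
  obtain ⟨z, hz, hzS, hzq⟩ := h.exists_sing_outside hS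
  exact h.exists_sing_pair' hz hzS hzq ht

/-- The radical of a singular point with a hyperbolic pair orthogonal to it. -/
theorem finrank_rad_le {e w w' : ι → F₀} (hw : Q₀ w = 0) (hw' : Q₀ w' = 0)
    (hew : 𝔅₀ e w = 0) (hew' : 𝔅₀ e w' = 0) (hww : 𝔅₀ w w' ≠ 0) :
    finrank F₀ (qperp Q₀ (Submodule.span F₀ {e, w, w'}) ⊓ Submodule.span F₀ {e, w, w'} :
        Submodule F₀ (ι → F₀)) + finrank F₀ (Submodule.span F₀ ({e, w, w'} : Set (ι → F₀))) ≤ 4 := by
  have h1 : qperp Q₀ (Submodule.span F₀ {e, w, w'}) ⊓ Submodule.span F₀ {e, w, w'} ≤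
      Submodule.span F₀ {e} := by
    rintro x ⟨hx, hm⟩
    rw [SetLike.mem_coe, mem_qperp_span] at hx
    obtain ⟨a, b, c, rfl⟩ := Submodule.mem_span_triple.1 hm
    have h3 := hx w (by simp)
    have h4 := hx w' (by simp)
    have hw'w : 𝔅₀ w' w ≠ 0 := by rwa [QuadraticMap.polar_comm]
    simp only [QuadraticMap.polar_add_right, QuadraticMap.polar_smul_right, QuadraticMap.polar_self,
      hw, hw', QuadraticMap.polar_comm (⇑Q₀) w e, QuadraticMap.polar_comm (⇑Q₀) w' e, hew, hew',
      smul_eq_mul, smul_zero, mul_zero, zero_add, add_zero, mul_eq_zero] at h3 h4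
    rw [h3.resolve_right hww, h4.resolve_right hw'w, zero_smul, zero_smul, add_zero, add_zero]
    exact Submodule.smul_mem _ _ (Submodule.mem_span_singleton_self e)
  have h2 := Submodule.finrank_mono h1
  have h3 : finrank F₀ (Submodule.span F₀ {e}) ≤ 1 := (finrank_span_le_card {e}).trans (by simp)
  have h4 := finrank_span_three_le (F₀ := F₀) e w w'
  omega

end SData

variable [Fintype F] [Fintype F₀] {M : Subgroup (Isom Q)}

/-- The setting of the dichotomy. -/
structure SSetting (M : Subgroup (Isom Q)) (Q₀ : QuadraticForm F₀ (ι → F₀)) : Prop where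
  data : SData F₀ Q Q₀
  le_omega : M ≤ Cfsg.Omega F ⇑Q
  lower : ∀ g ∈ Cfsg.Omega F ⇑Q, InK F₀ g → g ∈ M

namespace SSetting

variable (hs : SSetting M Q₀)
include hs

theorem card_ge : 5 ≤ Fintype.card ι := by have := hs.data.card; omega

theorem mem_of_rat {g : Isom Q} (hg : g ∈ Cfsg.Omega F ⇑Q) (h : RatMat F₀ (mat Q g)) : g ∈ M :=
  hs.lower g hg (InK.of_rat h)

theorem root_rat {u w : ι → F₀} (hu : Q₀ u = 0) (huw : 𝔅₀ u w = 0) :
    RootMem M (up u) (up w) :=
  RootMem.of_iso (hs.data.quad_up_zero hu) (hs.data.polar_up_zero huw)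
    (hs.mem_of_rat (eich_mem_omega hs.data.nd hs.card_ge _ _) (hs.data.ratMat_eich u w))

theorem coef_neg {e : ι → F₀} (he : Q₀ e = 0) {a : F} (h : Coef Q₀ M e a) : Coef Q₀ M e (-a) :=
  fun y hy => by
    rw [neg_smul]
    exact RootMem.neg (hs.data.quad_up_zero he)
      (by rw [QuadraticMap.polar_smul_right, hs.data.polar_up_zero hy, smul_zero]) (h y hy)

/-- One step: move the translation vector by a rational Eichler element fixing `e`. -/
theorem coef_step {e t y : ι → F₀} (he : Q₀ e = 0) (het : 𝔅₀ e t = 0) (hyq : Q₀ y = 0)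
    (hey : 𝔅₀ e y = 0) (hty : 𝔅₀ t y = 0) (ht : t ∉ Submodule.span F₀ ({e, y} : Set (ι → F₀)))
    {a : F} (h : RootMem M (up e) (a • up t)) : RootMem M (up e) (a • up y) := by
  obtain ⟨s, hsK, hsq, hst⟩ := hs.data.exists_sing_pair
    ((finrank_span_two_le e y).trans (by norm_num)) ht
  have hse : 𝔅₀ s e = 0 := by
    rw [QuadraticMap.polar_comm]; exact mem_qperp_span.1 hsK e (by simp)
  have hsy : 𝔅₀ s y = 0 := by
    rw [QuadraticMap.polar_comm]; exact mem_qperp_span.1 hsK y (by simp)
  have hQ : ∀ {u : ι → F₀}, Q₀ u = 0 → Q (up u) = 0 := hs.data.quad_up_zero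
  have hP : ∀ {u v : ι → F₀}, 𝔅₀ u v = 0 → 𝔅 (up u) (up v) = 0 := hs.data.polar_up_zero
  have hye : 𝔅₀ y e = 0 := by rw [QuadraticMap.polar_comm, hey]
  have hyt : 𝔅₀ y t = 0 := by rw [QuadraticMap.polar_comm, hty]
  have hk := (hs.root_rat hsq hsy).iso (hQ hsq) (hP hsy)
  have h' := h.conj hk
  rw [mat_eichIso, eich_mulVec (up s) (up y) (up e), hP hse, hP hye, mulVec_smul,
    eich_mulVec (up s) (up y) (up t), hs.data.polar_up s t, hst, hP hyt, hQ hyq] at h'
  simp only [OneMemClass.coe_one, one_smul, zero_smul, mul_zero, zero_mul,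
    sub_zero, add_zero, smul_add] at h'
  have hy' : 𝔅 (up e) (a • up y) = 0 := by
    rw [QuadraticMap.polar_smul_right, hP hey, smul_zero]
  have ht' : 𝔅 (up e) (a • up t) = 0 := by
    rw [QuadraticMap.polar_smul_right, hP het, smul_zero]
  have h3 := h'.add (hQ he)
    (by rw [QuadraticMap.polar_add_right, ht', hy', add_zero])
    (by rw [QuadraticMap.polar_neg_right, ht', neg_zero]) (h.neg (hQ he) ht')
  rwa [add_neg_cancel_comm] at h3

/-- A coefficient on one singular point is a coefficient. -/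
theorem coef_of_one {e t : ι → F₀} (he0 : e ≠ 0) (he : Q₀ e = 0) (het : 𝔅₀ e t = 0)
    (htq : Q₀ t = 0) (hte : t ∉ Submodule.span F₀ {e}) {a : F}
    (h : RootMem M (up e) (a • up t)) : Coef Q₀ M e a := by
  have hsing : ∀ y : ι → F₀, Q₀ y = 0 → 𝔅₀ e y = 0 → RootMem M (up e) (a • up y) := by
    intro y hy hey
    by_cases hye : y ∈ Submodule.span F₀ {e}
    · obtain ⟨c, rfl⟩ := Submodule.mem_span_singleton.1 hye
      rw [up_smul, smul_smul, ← zero_add ((a * (c : F)) • up e),
        rootMem_add_smul (hs.data.quad_up_zero he) (by simp)]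
      exact RootMem.zero
    by_cases hty : 𝔅₀ t y = 0
    · by_cases htS : t ∈ Submodule.span F₀ ({e, y} : Set (ι → F₀))
      · obtain ⟨t', ht'K, ht'S, ht'q⟩ := hs.data.exists_sing_outside
          (S := Submodule.span F₀ {e, t}) (finrank_span_two_le e t)
        have h1 := mem_qperp_span.1 ht'K
        have hle : Submodule.span F₀ ({e, t} : Set (ι → F₀)) = Submodule.span F₀ {e, y} := by
          refine Submodule.eq_of_le_of_finrank_le (Submodule.span_le.2 ?_) ?_
          · simp [Set.insert_subset_iff, htS, Submodule.subset_span (show e ∈ ({e, y} : Set (ι → F₀)) by simp)]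
          · refine (finrank_span_two_le e y).trans ?_
            have hlt : Submodule.span F₀ {e} < Submodule.span F₀ ({e, t} : Set (ι → F₀)) :=
              lt_of_le_of_ne (Submodule.span_mono (by simp)) fun h0 =>
                hte (h0 ▸ Submodule.subset_span (by simp))
            have h3 := Submodule.finrank_lt_finrank_of_lt hlt
            rw [finrank_span_singleton he0] at h3
            exact h3
        have ht'y : 𝔅₀ t' y = 0 := by
          have h2 : y ∈ Submodule.span F₀ ({e, t} : Set (ι → F₀)) :=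
            hle ▸ Submodule.subset_span (by simp)
          rw [QuadraticMap.polar_comm]
          exact mem_qperp.1 ht'K y h2
        refine hs.coef_step he (h1 e (by simp)) hy hey ht'y (fun hm => ht'S (hle ▸ hm))
          (hs.coef_step he het ht'q (h1 e (by simp)) (h1 t (by simp)) (fun hm => ?_) h)
        obtain ⟨c, d, hcd⟩ := Submodule.mem_span_pair.1 hm
        by_cases hd : d = 0
        · rw [hd, zero_smul, add_zero] at hcd
          exact hte (Submodule.mem_span_singleton.2 ⟨c, hcd⟩)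
        · refine ht'S ?_
          have e1 : t' = d⁻¹ • (t - c • e) := by
            rw [← hcd, add_sub_cancel_left, smul_smul, inv_mul_cancel₀ hd, one_smul]
          rw [e1]
          exact Submodule.smul_mem _ _ (Submodule.sub_mem _ (Submodule.subset_span (by simp))
            (Submodule.smul_mem _ _ (Submodule.subset_span (by simp))))
      · exact hs.coef_step he het hy hey hty htS h
    obtain ⟨t', ht'K, ht'S, ht'q⟩ := hs.data.exists_sing_outside'
      (S := Submodule.span F₀ {e, t, y}) (hs.data.finrank_rad_le htq hy het hey hty)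
    have h1 := mem_qperp_span.1 ht'K
    have het' : 𝔅₀ e t' = 0 := h1 e (by simp)
    have htt' : 𝔅₀ t t' = 0 := h1 t (by simp)
    have ht'y : 𝔅₀ t' y = 0 := by rw [QuadraticMap.polar_comm]; exact h1 y (by simp)
    have hmem : ∀ z ∈ ({e, t, y} : Set (ι → F₀)), z ∈ Submodule.span F₀ {e, t, y} :=
      fun z hz => Submodule.subset_span hz
    refine hs.coef_step he het' hy hey ht'y (fun hm => ht'S ?_)
      (hs.coef_step he het ht'q het' htt' (fun hm => ?_) h)
    · obtain ⟨c, d, rfl⟩ := Submodule.mem_span_pair.1 hm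
      exact Submodule.add_mem _ (Submodule.smul_mem _ _ (hmem e (by simp)))
        (Submodule.smul_mem _ _ (hmem y (by simp)))
    · obtain ⟨c, d, hcd⟩ := Submodule.mem_span_pair.1 hm
      by_cases hd : d = 0
      · rw [hd, zero_smul, add_zero] at hcd
        exact hte (Submodule.mem_span_singleton.2 ⟨c, hcd⟩)
      · refine ht'S ?_
        have e1 : t' = d⁻¹ • (t - c • e) := by
          rw [← hcd, add_sub_cancel_left, smul_smul, inv_mul_cancel₀ hd, one_smul]
        rw [e1]
        exact Submodule.smul_mem _ _ (Submodule.sub_mem _ (hmem t (by simp))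
          (Submodule.smul_mem _ _ (hmem e (by simp))))
  intro y hey
  by_cases hye : y ∈ Submodule.span F₀ {e}
  · obtain ⟨c, rfl⟩ := Submodule.mem_span_singleton.1 hye
    exact hsing _ (by rw [QuadraticMap.map_smul, he, smul_zero]) hey
  obtain ⟨q, hqK, hqq, hqy⟩ := hs.data.exists_sing_pair
    (S := Submodule.span F₀ {e}) (by rw [finrank_span_singleton he0]; norm_num) hye
  have heq : 𝔅₀ e q = 0 := mem_qperp_singleton.1 hqK
  have hne : 𝔅₀ y q ≠ 0 := by rw [QuadraticMap.polar_comm, hqy]; exact one_ne_zero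
  set c := Q₀ y / 𝔅₀ y q
  have e1 : a • up y = a • up (y - c • q) + a • up (c • q) := by
    rw [← smul_add, ← up_add, sub_add_cancel]
  have h0 : ∀ z, 𝔅₀ e z = 0 → 𝔅 (up e) (a • up z) = 0 := fun z hz => by
    rw [QuadraticMap.polar_smul_right, hs.data.polar_up_zero hz, smul_zero]
  have h1 : 𝔅₀ e (c • q) = 0 := by rw [QuadraticMap.polar_smul_right, heq, smul_zero]
  have h2 : 𝔅₀ e (y - c • q) = 0 := by rw [QuadraticMap.polar_sub_right, h1, hey, sub_zero]
  rw [e1]
  exact (hsing _ (quad_sub_smul hqq hne) h2).add (hs.data.quad_up_zero he) (h0 _ h2) (h0 _ h1)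
    (hsing _ (by rw [QuadraticMap.map_smul, hqq, smul_zero]) h1)

/-- A coefficient passes to orthogonal singular points. -/
theorem coef_orth {e y : ι → F₀} (he0 : e ≠ 0) (he : Q₀ e = 0) (hy : Q₀ y = 0)
    (hey : 𝔅₀ e y = 0) (hye : y ∉ Submodule.span F₀ {e}) {a : F} (h : Coef Q₀ M e a) :
    Coef Q₀ M y a := by
  have hy0 : y ≠ 0 := fun h0 => hye (h0 ▸ Submodule.zero_mem _)
  have hey' : e ∉ Submodule.span F₀ {y} := fun hm => by
    obtain ⟨c, hc⟩ := Submodule.mem_span_singleton.1 hm
    refine hye (Submodule.mem_span_singleton.2 ⟨c⁻¹, ?_⟩)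
    have hc0 : c ≠ 0 := fun h0 => he0 (by rw [← hc, h0, zero_smul])
    rw [← hc, smul_smul, inv_mul_cancel₀ hc0, one_smul]
  have h1 := (h y hey).swap (hs.data.quad_up_zero he)
    (by rw [QuadraticMap.map_smul, hs.data.quad_up_zero hy, smul_zero])
  rw [rootMem_smul_left, smul_neg, ← neg_smul] at h1
  have h2 := hs.coef_neg hy (hs.coef_of_one hy0 hy (by rw [QuadraticMap.polar_comm, hey]) he hey' h1)
  simpa using h2

theorem coef_mul {e : ι → F₀} (he0 : e ≠ 0) (he : Q₀ e = 0) {a b : F}
    (ha : Coef Q₀ M e a) (hb : Coef Q₀ M e b) : Coef Q₀ M e (a * b) := by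
  have hSe : finrank F₀ (Submodule.span F₀ {e}) ≤ 2 := by
    rw [finrank_span_singleton he0]; norm_num
  obtain ⟨w, hwK, hwe, hwq⟩ := hs.data.exists_sing_outside hSe
  have hew : 𝔅₀ e w = 0 := mem_qperp_singleton.1 hwK
  obtain ⟨w', hw'K, hw'q, hw'w⟩ := hs.data.exists_sing_pair hSe hwe
  have hew' : 𝔅₀ e w' = 0 := mem_qperp_singleton.1 hw'K
  have hw'e : w' ∉ Submodule.span F₀ {e} := fun hm => by
    obtain ⟨c, rfl⟩ := Submodule.mem_span_singleton.1 hm
    rw [QuadraticMap.polar_smul_left, hew, smul_zero] at hw'w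
    exact zero_ne_one hw'w
  obtain ⟨y, hyK, hyS, hyq⟩ := hs.data.exists_sing_outside'
    (S := Submodule.span F₀ {e, w, w'}) (hs.data.finrank_rad_le hwq hw'q hew hew'
      (by rw [QuadraticMap.polar_comm, hw'w]; exact one_ne_zero))
  have h1 := mem_qperp_span.1 hyK
  have hey : 𝔅₀ e y = 0 := h1 e (by simp)
  have hwy : 𝔅₀ w y = 0 := h1 w (by simp)
  have hw'y : 𝔅₀ w' y = 0 := h1 w' (by simp)
  have hye : y ∉ Submodule.span F₀ {e} := fun hm =>
    hyS (Submodule.span_mono (by simp) hm)
  have hc := hs.coef_orth he0 he hw'q hew' hw'e ha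
  have hQ : ∀ {u : ι → F₀}, Q₀ u = 0 → Q (up u) = 0 := hs.data.quad_up_zero
  have hP : ∀ {u v : ι → F₀}, 𝔅₀ u v = 0 → 𝔅 (up u) (up v) = 0 := hs.data.polar_up_zero
  have hay : 𝔅 (up w') (a • up y) = 0 := by
    rw [QuadraticMap.polar_smul_right, hP hw'y, smul_zero]
  have hk := (hc y hw'y).iso (hQ hw'q) hay
  have hbw : 𝔅 (up e) (b • up w) = 0 := by
    rw [QuadraticMap.polar_smul_right, hP hew, smul_zero]
  have h' := (hb w hew).conj hk
  rw [mat_eichIso, eich_mulVec (up w') (a • up y) (up e), QuadraticMap.polar_smul_left,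
    hP (u := w') (v := e) (by rw [QuadraticMap.polar_comm, hew']),
    hP (u := y) (v := e) (by rw [QuadraticMap.polar_comm, hey]), mulVec_smul,
    eich_mulVec (up w') (a • up y) (up w), hs.data.polar_up w' w, hw'w,
    QuadraticMap.polar_smul_left, hP (u := y) (v := w) (by rw [QuadraticMap.polar_comm, hwy]),
    QuadraticMap.map_smul, hQ hyq] at h'
  simp only [OneMemClass.coe_one, zero_smul, smul_zero, mul_zero,
    zero_mul, one_mul, sub_zero, add_zero, smul_add, smul_smul] at h'
  have hy' : 𝔅 (up e) ((b * a) • up y) = 0 := by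
    rw [QuadraticMap.polar_smul_right, hP hey, smul_zero]
  have h3 := h'.add (hQ he)
    (by rw [QuadraticMap.polar_add_right, hbw, hy', add_zero])
    (by rw [QuadraticMap.polar_neg_right, hbw, neg_zero]) ((hb w hew).neg (hQ he) hbw)
  rw [add_neg_cancel_comm, mul_comm b a] at h3
  exact hs.coef_of_one he0 he hey hyq hye h3

/-- An irrational root element gives an irrational coefficient. -/
theorem exists_coef {e : ι → F₀} (he0 : e ≠ 0) (he : Q₀ e = 0) {w : ι → F}
    (hew : 𝔅 (up e) w = 0) (hw : RootMem M (up e) w)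
    (hno : ¬ ∃ (v : ι → F₀) (k : F), w = up v + k • up e) :
    ∃ a ∉ F₀, Coef Q₀ M e a := by
  have hQ : ∀ {u : ι → F₀}, Q₀ u = 0 → Q (up u) = 0 := hs.data.quad_up_zero
  have hP : ∀ {u v : ι → F₀}, 𝔅₀ u v = 0 → 𝔅 (up u) (up v) = 0 := hs.data.polar_up_zero
  have hSe : finrank F₀ (Submodule.span F₀ {e}) ≤ 2 := by
    rw [finrank_span_singleton he0]; norm_num
  obtain ⟨v, hvq, hev, hvw⟩ : ∃ v, Q₀ v = 0 ∧ 𝔅₀ e v = 0 ∧ 𝔅 (up v) w ∉ F₀ := by
    by_contra! hall
    have hperp : ∀ u, 𝔅₀ e u = 0 → 𝔅 (up u) w ∈ F₀ := by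
      intro u hu
      by_cases hue : u ∈ Submodule.span F₀ {e}
      · obtain ⟨c, rfl⟩ := Submodule.mem_span_singleton.1 hue
        rw [up_smul, QuadraticMap.polar_smul_left, hew, smul_zero]
        exact F₀.zero_mem
      obtain ⟨q, hqK, hqq, hqu⟩ := hs.data.exists_sing_pair hSe hue
      have heq : 𝔅₀ e q = 0 := mem_qperp_singleton.1 hqK
      have h1 := hall _ (quad_sub_smul hqq (x := u)
        (by rw [QuadraticMap.polar_comm, hqu]; exact one_ne_zero))
        (by rw [QuadraticMap.polar_sub_right, QuadraticMap.polar_smul_right, hu, heq, smul_zero,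
          sub_zero])
      have h2 := hall q hqq heq
      rw [up_sub, up_smul, QuadraticMap.polar_sub_left, QuadraticMap.polar_smul_left,
        smul_eq_mul] at h1
      have h3 := F₀.add_mem h1 (F₀.mul_mem (Q₀ u / 𝔅₀ u q).2 h2)
      rwa [sub_add_cancel] at h3
    obtain ⟨f, -, -, hfe⟩ := hs.data.exists_sing_pair (S := (⊥ : Submodule F₀ (ι → F₀)))
      (by simp) (by simpa using he0)
    have hef : 𝔅₀ e f = 1 := by rw [QuadraticMap.polar_comm, hfe]
    set k := 𝔅 (up f) w
    obtain ⟨v, hv⟩ := hs.data.rat_of_polar (x := w - k • up e) fun u => by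
      have h1 := hperp (u - 𝔅₀ e u • f)
        (by rw [QuadraticMap.polar_sub_right, QuadraticMap.polar_smul_right, hef, smul_eq_mul,
          mul_one, sub_self])
      rw [up_sub, up_smul, QuadraticMap.polar_sub_left, QuadraticMap.polar_smul_left,
        smul_eq_mul] at h1
      rw [QuadraticMap.polar_sub_left, QuadraticMap.polar_smul_left, hs.data.polar_up,
        QuadraticMap.polar_comm (⇑Q) w, smul_eq_mul, mul_comm k]
      exact h1
    exact hno ⟨v, k, by rw [hv, sub_add_cancel]⟩
  have hve : v ∉ Submodule.span F₀ {e} := fun hm => by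
    obtain ⟨c, rfl⟩ := Submodule.mem_span_singleton.1 hm
    rw [up_smul, QuadraticMap.polar_smul_left, hew, smul_zero] at hvw
    exact hvw F₀.zero_mem
  set a := 𝔅 (up v) w with ha
  refine ⟨a, hvw, ?_⟩
  have hSev : finrank F₀ (Submodule.span F₀ {e, v}) ≤ 2 :=
    (finrank_span_two_le e v).trans (by norm_num)
  obtain ⟨u, huK, huS, huq⟩ := hs.data.exists_sing_outside hSev
  have heu : 𝔅₀ e u = 0 := mem_qperp_span.1 huK e (by simp)
  have hvu : 𝔅₀ v u = 0 := mem_qperp_span.1 huK v (by simp)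
  have hk := (hs.root_rat hvq hvu).iso (hQ hvq) (hP hvu)
  set b := 𝔅 (up u) w
  set x := a • up u - b • up v with hx
  have hex : 𝔅 (up e) x = 0 := by
    rw [hx, QuadraticMap.polar_sub_right, QuadraticMap.polar_smul_right,
      QuadraticMap.polar_smul_right, hP heu, hP hev, smul_zero, smul_zero, sub_zero]
  have h1 : RootMem M (up e) x := by
    have h' := hw.conj hk
    rw [mat_eichIso, eich_mulVec (up v) (up u) (up e),
      hP (u := v) (v := e) (by rw [QuadraticMap.polar_comm, hev]),
      hP (u := u) (v := e) (by rw [QuadraticMap.polar_comm, heu]),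
      eich_mulVec (up v) (up u) w, hQ huq] at h'
    simp only [zero_smul, zero_mul, mul_zero, sub_zero, add_zero] at h'
    rw [← ha, ← hx] at h'
    have h3 := h'.add (hQ he) (by rw [QuadraticMap.polar_add_right, hew, hex, add_zero])
      (by rw [QuadraticMap.polar_neg_right, hew, neg_zero]) (hw.neg (hQ he) hew)
    rwa [add_neg_cancel_comm] at h3
  obtain ⟨s, hsK, hsq, hsu⟩ := hs.data.exists_sing_pair hSev huS
  have hes : 𝔅₀ e s = 0 := mem_qperp_span.1 hsK e (by simp)
  have hvs : 𝔅₀ v s = 0 := mem_qperp_span.1 hsK v (by simp)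
  have hst : 𝔅₀ s v = 0 := by rw [QuadraticMap.polar_comm, hvs]
  refine hs.coef_of_one he0 he hev hvq hve ?_
  have hk2 := (hs.root_rat hsq hst).iso (hQ hsq) (hP hst)
  have h' := h1.conj hk2
  have hsx : 𝔅 (up s) x = a := by
    rw [hx, QuadraticMap.polar_sub_right, QuadraticMap.polar_smul_right,
      QuadraticMap.polar_smul_right, hs.data.polar_up s u, hsu,
      hP (u := s) (v := v) (by rw [QuadraticMap.polar_comm, hvs])]
    simp
  have htx : 𝔅 (up v) x = 0 := by
    rw [hx, QuadraticMap.polar_sub_right, QuadraticMap.polar_smul_right,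
      QuadraticMap.polar_smul_right, hP hvu,
      hP (u := v) (v := v) (by rw [QuadraticMap.polar_self, hvq, smul_zero])]
    simp
  rw [mat_eichIso, eich_mulVec (up s) (up v) (up e),
    hP (u := s) (v := e) (by rw [QuadraticMap.polar_comm, hes]),
    hP (u := v) (v := e) (by rw [QuadraticMap.polar_comm, hev]),
    eich_mulVec (up s) (up v) x, hsx, htx, hQ hvq] at h'
  simp only [zero_smul, zero_mul, mul_zero, sub_zero, add_zero] at h'
  have hat : 𝔅 (up e) (a • up v) = 0 := by
    rw [QuadraticMap.polar_smul_right, hP hev, smul_zero]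
  have h3 := h'.add (hQ he) (by rw [QuadraticMap.polar_add_right, hex, hat, add_zero])
    (by rw [QuadraticMap.polar_neg_right, hex, neg_zero]) (h1.neg (hQ he) hex)
  rwa [add_neg_cancel_comm] at h3

/-- An irrational coefficient makes every field element a coefficient. -/
theorem coef_eq_univ {r : ℕ} (hr : r.Prime) (hcard : Fintype.card F = Nat.card F₀ ^ r)
    {e : ι → F₀} (he0 : e ≠ 0) (he : Q₀ e = 0) {a : F} (ha : a ∉ F₀) (hc : Coef Q₀ M e a) (b : F) :
    Coef Q₀ M e b := by
  have hrat : ∀ c : F₀, Coef Q₀ M e (c : F) := fun c y hy => by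
    rw [← up_smul]
    exact hs.root_rat he (by rw [QuadraticMap.polar_smul_right, hy, smul_zero])
  let A : Subalgebra F₀ F :=
    { carrier := {x | Coef Q₀ M e x}
      mul_mem' := fun hx hy => hs.coef_mul he0 he hx hy
      add_mem' := fun {x y} hx hy z hz => by
        rw [add_smul]
        refine (hx z hz).add (hs.data.quad_up_zero he) ?_ ?_ (hy z hz) <;>
          rw [QuadraticMap.polar_smul_right, hs.data.polar_up_zero hz, smul_zero]
      algebraMap_mem' := fun c => hrat c }
  have hfr : Module.finrank F₀ F = r := by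
    have h1 := Module.card_eq_pow_finrank (K := F₀) (V := F)
    rw [hcard, Nat.card_eq_fintype_card] at h1
    exact (Nat.pow_right_injective Fintype.one_lt_card h1).symm
  haveI := Subalgebra.isSimpleOrder_of_finrank_prime F₀ F (hfr ▸ hr)
  rcases eq_bot_or_eq_top A with hA | hA
  · exfalso
    have h1 : a ∈ A := hc
    rw [hA, Algebra.mem_bot] at h1
    obtain ⟨c, rfl⟩ := h1
    exact ha c.2
  · have h1 : b ∈ A := hA.symm ▸ Algebra.mem_top
    exact h1

/-- The dichotomy, generating half. -/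
theorem rigid_or_omega_le {r : ℕ} (hr : r.Prime) (hcard : Fintype.card F = Nat.card F₀ ^ r) :
    Rigid Q₀ M ∨ Cfsg.Omega F ⇑Q ≤ M := by
  by_cases hR : Rigid Q₀ M
  · exact Or.inl hR
  refine Or.inr ?_
  unfold Rigid at hR
  push Not at hR
  obtain ⟨e, he0, he, w, hew, hw, hno⟩ := hR
  obtain ⟨a, ha, hca⟩ := hs.exists_coef he0 he hew hw (by push Not; exact hno)
  have hfull : ∀ u : ι → F₀, u ≠ 0 → Q₀ u = 0 → Coef Q₀ M u a → Full M (up u) := by
    intro u hu0 hu hcu w hw
    have hall := hs.coef_eq_univ hr hcard hu0 hu ha hcu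
    obtain ⟨f, -, -, hfu⟩ := hs.data.exists_sing_pair (S := (⊥ : Submodule F₀ (ι → F₀)))
      (by simp) (by simpa using hu0)
    have huf : 𝔅₀ u f = 1 := by rw [QuadraticMap.polar_comm, hfu]
    let y : ι → (ι → F₀) := fun i => Pi.single i 1 - 𝔅₀ u (Pi.single i 1) • f
    have hy : ∀ i, 𝔅₀ u (y i) = 0 := fun i => by
      rw [QuadraticMap.polar_sub_right, QuadraticMap.polar_smul_right, huf, smul_eq_mul, mul_one,
        sub_self]
    have hsum : w = ∑ i, w i • up (y i) := by
      have e1 : w = ∑ i, w i • up (Pi.single i (1 : F₀)) := by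
        funext j
        simp [up_single, Finset.sum_apply, Pi.single_apply]
      have e2 : ∑ i, w i • up (y i) = w - (𝔅 (up u) w) • up f := by
        conv_rhs => rw [e1, ← QuadraticMap.polarBilin_apply_apply, map_sum, Finset.sum_smul,
          ← Finset.sum_sub_distrib]
        refine Finset.sum_congr rfl fun i _ => ?_
        rw [up_sub, up_smul, map_smul, QuadraticMap.polarBilin_apply_apply, hs.data.polar_up,
          smul_eq_mul, smul_sub, smul_smul]
      rw [e2, hw, zero_smul, sub_zero]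
    rw [hsum]
    have hgen : ∀ s : Finset ι,
        𝔅 (up u) (∑ i ∈ s, w i • up (y i)) = 0 ∧ RootMem M (up u) (∑ i ∈ s, w i • up (y i)) := by
      intro s
      induction s using Finset.induction_on with
      | empty => exact ⟨by simp, by rw [Finset.sum_empty]; exact RootMem.zero⟩
      | insert i s hi ih =>
        have h0 : 𝔅 (up u) (w i • up (y i)) = 0 := by
          rw [QuadraticMap.polar_smul_right, hs.data.polar_up_zero (hy i), smul_zero]
        rw [Finset.sum_insert hi]
        exact ⟨by rw [QuadraticMap.polar_add_right, h0, ih.1, add_zero],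
          (hall (w i) (y i) (hy i)).add (hs.data.quad_up_zero hu) h0 ih.1 ih.2⟩
    exact (hgen Finset.univ).2
  obtain ⟨f, -, hfq, hfe⟩ := hs.data.exists_sing_pair (S := (⊥ : Submodule F₀ (ι → F₀)))
    (by simp) (by simpa using he0)
  have hf0 : f ≠ 0 := fun h0 => by simp [h0] at hfe
  obtain ⟨y, hyK, hyS, hyq⟩ := hs.data.exists_sing_outside
    (S := Submodule.span F₀ {e, f}) ((finrank_span_two_le e f).trans (by norm_num))
  have hy0 : y ≠ 0 := fun h0 => hyS (h0 ▸ Submodule.zero_mem _)
  have hey : 𝔅₀ e y = 0 := mem_qperp_span.1 hyK e (by simp)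
  have hyf : 𝔅₀ y f = 0 := by
    rw [QuadraticMap.polar_comm]; exact mem_qperp_span.1 hyK f (by simp)
  have hcy := hs.coef_orth he0 he hyq hey (fun hm => hyS (Submodule.span_mono (by simp) hm)) hca
  have hcf : Coef Q₀ M f a := hs.coef_orth hy0 hyq hfq hyf (fun hm => by
    obtain ⟨c, hc⟩ := Submodule.mem_span_singleton.1 hm
    rw [← hc, QuadraticMap.polar_smul_left, QuadraticMap.polar_comm (⇑Q₀) y, hey, smul_zero] at hfe
    exact zero_ne_one hfe) hcy
  refine omega_le_of_full_pair hs.data.nd hs.card_ge (hs.data.quad_up_zero he)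
    (hs.data.quad_up_zero hfq) ?_ (hfull e he0 he hca) (hfull f hf0 hfq hcf)
  rw [QuadraticMap.polar_comm, hs.data.polar_up, hfe]
  exact one_ne_zero

end SSetting

end CfsgLib.OrthSubfield
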