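import Cfsg.Agent.OrthSubfield.SmallDim
import Cfsg.Agent.OrthSubfield.Rigid
import Cfsg.Agent.OmegaOrbits.Basic
import Cfsg.Agent.OrthMax.Nondegenerate
import Cfsg.Agent.Forms.OrthDet

/-!
# A rigid subgroup is rational in odd dimension at least seven

An involution conjugate to the negative of a rational reflection centralises, together with a
rational involution with a fixed space of dimension three, an involution which is rational; this
shows that the image of the vector of the reflection is rational up to a scalar.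
-/

set_option autoImplicit false
set_option linter.unusedSectionVars false

namespace CfsgLib.OrthSubfield

open Matrix Module CfsgLib.Spinor CfsgLib.Forms CfsgLib.Forms4 CfsgLib.MaxSub CfsgLib.OrthMax
  CfsgLib.OmegaOrbits Cfsg.Geo

variable {F : Type*} [Field F] [Fintype F] {ι : Type} [Fintype ι] [DecidableEq ι] {F₀ : Subfield F}
  [Fintype F₀] {Q : QuadraticForm F (ι → F)} {Q₀ : QuadraticForm F₀ (ι → F₀)}
  {M : Subgroup (Isom Q)}

set_option quotPrecheck false in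
local notation "𝔅" => QuadraticMap.polar (⇑Q)

set_option quotPrecheck false in
local notation "𝔅₀" => QuadraticMap.polar (⇑Q₀)

theorem spanF_inf (D D' : Submodule F₀ (ι → F₀)) : spanF (D ⊓ D') = spanF D ⊓ spanF D' := by
  refine Submodule.eq_of_le_of_finrank_le (le_inf (spanF_le fun u hu => up_mem_spanF hu.1)
    (spanF_le fun u hu => up_mem_spanF hu.2)) ?_
  have h1 := Submodule.finrank_sup_add_finrank_inf_eq (spanF D) (spanF D')
  have h2 := Submodule.finrank_sup_add_finrank_inf_eq D D'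
  rw [spanF_sup, finrank_spanF, finrank_spanF, finrank_spanF] at h1
  rw [finrank_spanF]
  omega

/-- Two values of a functional with irrational ratio. -/
def Ind (F₀ : Subfield F) (x y : F) : Prop := ∀ c d : F₀, (c : F) * x + (d : F) * y = 0 → c = 0 ∧ d = 0

theorem Ind.ne_zero {x y : F} (h : Ind F₀ x y) : x ≠ 0 := fun h0 =>
  one_ne_zero ((h 1 0 (by simp [h0])).1)

theorem Ind.of_ratio {x y : F} (hx : x ≠ 0) (h : ∀ c : F₀, y ≠ (c : F) * x) : Ind F₀ x y := by
  intro c d e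
  by_cases hd : d = 0
  · subst hd
    simp [hx] at e
    exact ⟨e, rfl⟩
  refine absurd ?_ (h (-(c / d)))
  have hd' : (d : F) ≠ 0 := fun e' => hd (Subtype.ext e')
  push_cast
  field_simp
  linear_combination e

theorem Ind.not_ratio {x y : F} (h : Ind F₀ x y) (c : F₀) : y ≠ (c : F) * x := fun e =>
  one_ne_zero (h (-c) 1 (by push_cast; rw [e]; ring)).2

namespace SData

variable (h : SData F₀ Q Q₀)
include h

/-- In odd dimension an isometry rational up to a scalar is rational. -/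
theorem ratMat_of_inK {g : Isom Q} (hg : InK F₀ g) : RatMat F₀ (mat Q g) := by
  obtain ⟨l, hl, hrat⟩ := mem_subfieldSubgroup_one_iff.1 hg
  change RatMat F₀ (l • mat Q g) at hrat
  obtain ⟨u, hu⟩ : ∃ u, Q₀ u ≠ 0 := by
    by_contra! hall
    obtain ⟨e, -, he, -⟩ := h.exists_sing_outside (S := (⊥ : Submodule F₀ (ι → F₀))) (by simp)
    exact he (by
      rw [Submodule.mem_bot]
      refine h.nd₀.1 e fun y => ?_
      rw [QuadraticMap.polarBilin_apply_apply]
      simp [QuadraticMap.polar, hall])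
  obtain ⟨v, hv⟩ := exists_up_mulVec hrat u
  have hl2 : l * l ∈ F₀ := by
    have h1 := congrArg Q hv
    rw [smul_mulVec, QuadraticMap.map_smul, quad_mulVec, ← h.quad, ← h.quad, smul_eq_mul] at h1
    have hu' : ((Q₀ u : F₀) : F) ≠ 0 := fun e => hu (Subtype.ext e)
    have h2 := F₀.div_mem (Q₀ v).2 (Q₀ u).2
    rwa [h1, mul_div_cancel_right₀ _ hu'] at h2
  obtain ⟨k, hk⟩ := h.odd
  have hdet : l ^ (2 * k + 1) * (mat Q g).det ∈ F₀ := by
    have h1 : (l • mat Q g).det ∈ F₀ := by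
      have e : l • mat Q g = (Matrix.of fun i j => (⟨_, hrat i j⟩ : F₀)).map F₀.subtype := by
        ext i j; rfl
      rw [e, ← RingHom.mapMatrix_apply, ← RingHom.map_det]
      exact Subtype.coe_prop _
    rwa [det_smul, hk] at h1
  have hl7 : l ^ (2 * k + 1) ∈ F₀ := by
    rcases det_mat_eq h.nd g with e | e <;> rw [e] at hdet
    · rwa [mul_one] at hdet
    · simpa using F₀.neg_mem hdet
  have hlF : l ∈ F₀ := by
    have h1 := F₀.div_mem hl7 (F₀.pow_mem hl2 k)
    rwa [show l ^ (2 * k + 1) / (l * l) ^ k = l by rw [pow_succ, pow_mul, sq, mul_div_cancel_left₀ _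
      (pow_ne_zero k (mul_ne_zero hl hl))]] at h1
  intro i j
  have h1 := F₀.mul_mem (F₀.inv_mem hlF) (hrat i j)
  rwa [Matrix.smul_apply, smul_eq_mul, inv_mul_cancel_left₀ hl] at h1

/-- The image of a rational singular line is rational when its root element stays rational. -/
theorem exists_spanF_line {y : Isom Q} {a b : ι → F₀} (ha0 : a ≠ 0) (ha : Q₀ a = 0)
    (hb : Q₀ b = 0) (hab : 𝔅₀ a b = 0) (hba : b ∉ Submodule.span F₀ {a})
    (hk : RatMat F₀ (mat Q (y * eichIso Q (up a) (up b) (h.quad_up_zero ha)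
      (h.polar_up_zero hab) * y⁻¹))) :
    ∃ D : Submodule F₀ (ι → F₀),
      spanF D = Submodule.span F {mat Q y *ᵥ up a, mat Q y *ᵥ up b} := by
  set x := eichIso Q (up a) (up b) (h.quad_up_zero ha) (h.polar_up_zero hab) with hx
  set k := y * x * y⁻¹ with hkdef
  set A := mat Q y *ᵥ up a with hA
  set B := mat Q y *ᵥ up b with hB
  have hK : ∀ u, mat Q k *ᵥ (mat Q y *ᵥ u) - mat Q y *ᵥ u =
      𝔅 (up a) u • B - 𝔅 (up b) u • A := fun u => by
    rw [hkdef, mat_mul, mat_mul, ← mulVec_mulVec, ← mulVec_mulVec, inv_mat_mulVec, hx, mat_eichIso,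
      eich_mulVec, h.quad_up_zero hb]
    simp [mulVec_add, mulVec_sub, mulVec_smul, hA, hB]
  obtain ⟨D, hD⟩ := exists_spanF_range hk.sub_one
  change spanF D = rng k at hD
  refine ⟨D, hD.trans (le_antisymm (rng_le fun z => ?_) ?_)⟩
  · obtain ⟨u, rfl⟩ : ∃ u, mat Q y *ᵥ u = z := ⟨_, mat_inv_mulVec' y z⟩
    rw [hK]
    exact Submodule.sub_mem _ (Submodule.smul_mem _ _ (Submodule.subset_span (by simp)))
      (Submodule.smul_mem _ _ (Submodule.subset_span (by simp)))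
  have hne : ∀ c : F₀, c • a ≠ b := fun c hc => hba (Submodule.mem_span_singleton.2 ⟨c, hc⟩)
  obtain ⟨t, ht1, ht2⟩ := AschbacherQuad.exists_pairing_pair (isNondeg h.nd₀) ha0 hne 0 (-1)
  obtain ⟨t', ht1', ht2'⟩ := AschbacherQuad.exists_pairing_pair (isNondeg h.nd₀) ha0 hne 1 0
  refine Submodule.span_le.2 (Set.insert_subset_iff.2
    ⟨mem_rng.2 ⟨mat Q y *ᵥ up t, ?_⟩, Set.singleton_subset_iff.2 (mem_rng.2 ⟨mat Q y *ᵥ up t', ?_⟩)⟩)
  · rw [hK, QuadraticMap.polar_comm (⇑Q) (up a), QuadraticMap.polar_comm (⇑Q) (up b),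
      h.polar_up, h.polar_up, show 𝔅₀ t a = 0 from ht1, show 𝔅₀ t b = -1 from ht2]
    simp
  · rw [hK, QuadraticMap.polar_comm (⇑Q) (up a), QuadraticMap.polar_comm (⇑Q) (up b),
      h.polar_up, h.polar_up, show 𝔅₀ t' a = 1 from ht1', show 𝔅₀ t' b = 0 from ht2']
    simp

/-- The involution negating two orthogonal hyperbolic pairs. -/
theorem exists_inv_four {g1 f1 g2 f2 : ι → F₀} (hg1 : Q₀ g1 = 0) (hf1 : Q₀ f1 = 0) (hg2 : Q₀ g2 = 0)
    (hf2 : Q₀ f2 = 0) (h1 : 𝔅₀ g1 f1 = 1) (h2 : 𝔅₀ g2 f2 = 1) (hgg : 𝔅₀ g1 g2 = 0)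
    (hgf : 𝔅₀ g1 f2 = 0) (hfg : 𝔅₀ f1 g2 = 0) (hff : 𝔅₀ f1 f2 = 0) :
    ∃ i : Isom Q, i ∈ Cfsg.Omega F ⇑Q ∧ RatMat F₀ (mat Q i) ∧
      IsReflProd Q i [up (g1 + f1), up (g1 - f1), up (g2 + f2), up (g2 - f2)] ∧
      ∀ x, mat Q i *ᵥ x = x - (2 * 𝔅 (up f1) x) • up g1 - (2 * 𝔅 (up g1) x) • up f1 -
        (2 * 𝔅 (up f2) x) • up g2 - (2 * 𝔅 (up g2) x) • up f2 := by
  have hP : ∀ {u v : ι → F₀}, 𝔅₀ u v = 0 → 𝔅 (up u) (up v) = 0 := h.polar_up_zero
  have hP1 : ∀ {u v : ι → F₀}, 𝔅₀ u v = 1 →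
      𝔅 (up u) (up v) = 1 ∧ 𝔅 (up v) (up u) = 1 := by
    intro u v e
    have e1 : 𝔅 (up u) (up v) = 1 := by rw [h.polar_up, e]; rfl
    exact ⟨e1, by rw [QuadraticMap.polar_comm, e1]⟩
  have hs : ∀ {u : ι → F₀}, Q₀ u = 0 → 𝔅 (up u) (up u) = 0 := fun e => by
    rw [QuadraticMap.polar_self, h.quad_up_zero e, smul_zero]
  have qp : ∀ {u v : ι → F₀}, Q₀ u = 0 → Q₀ v = 0 → 𝔅₀ u v = 1 →
      Q (up u + up v) = 1 ∧ Q (up u - up v) = -1 := by
    intro u v hu hv e
    constructor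
    · rw [QuadraticMap.map_add (⇑Q), h.quad_up_zero hu, h.quad_up_zero hv, (hP1 e).1]; simp
    · rw [sub_eq_add_neg, QuadraticMap.map_add (⇑Q), QuadraticMap.map_neg, h.quad_up_zero hu,
        h.quad_up_zero hv, QuadraticMap.polar_neg_right, (hP1 e).1]
      simp
  obtain ⟨qa', qb'⟩ := qp hg1 hf1 h1
  obtain ⟨qc', qd'⟩ := qp hg2 hf2 h2
  have qa : Q (up (g1 + f1)) = 1 := by rw [up_add, qa']
  have qb : Q (up (g1 - f1)) = -1 := by rw [up_sub, qb']
  have qc : Q (up (g2 + f2)) = 1 := by rw [up_add, qc']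
  have qd : Q (up (g2 - f2)) = -1 := by rw [up_sub, qd']
  have na : Q (up (g1 + f1)) ≠ 0 := by rw [qa]; exact one_ne_zero
  have nb : Q (up (g1 - f1)) ≠ 0 := by rw [qb]; exact neg_ne_zero.2 one_ne_zero
  have nc : Q (up (g2 + f2)) ≠ 0 := by rw [qc]; exact one_ne_zero
  have nd' : Q (up (g2 - f2)) ≠ 0 := by rw [qd]; exact neg_ne_zero.2 one_ne_zero
  have hrefl : ∀ {v : ι → F₀} (hv : Q (up v) ≠ 0), RatMat F₀ (mat Q (reflIso Q (up v) hv)) :=
    fun {v} hv => ratMat_of_up fun u => ⟨u - ((Q₀ v)⁻¹ * 𝔅₀ v u) • v, by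
      rw [mat_reflIso, reflectionMatrix_mulVec, refl_apply, up_sub, up_smul, ← h.quad, h.polar_up]
      push_cast
      rfl⟩
  have hprod := ((IsReflProd.reflIso _ na).mul (IsReflProd.reflIso _ nb)).mul
    ((IsReflProd.reflIso _ nc).mul (IsReflProd.reflIso _ nd'))
  refine ⟨reflIso Q _ na * reflIso Q _ nb * (reflIso Q _ nc * reflIso Q _ nd'), ?_,
    ((hrefl na).mul (hrefl nb)).mul ((hrefl nc).mul (hrefl nd')), hprod, fun x => ?_⟩
  · refine (mem_omega_iff_even h.nd (Or.inr (by have := h.card; omega)) hprod).2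
      ⟨by simp +decide, ?_⟩
    simp [qa, qb, qc, qd]
  · rw [mat_mul, mat_mul, mat_mul, ← mulVec_mulVec, ← mulVec_mulVec, ← mulVec_mulVec]
    simp only [mat_reflIso, reflectionMatrix_mulVec, refl_apply, qa', qb', qc', qd', up_add, up_sub,
      QuadraticMap.polar_sub_right, QuadraticMap.polar_smul_right, QuadraticMap.polar_add_right,
      QuadraticMap.polar_add_left, QuadraticMap.polar_sub_left, hs hg1, hs hf1, hs hg2, hs hf2,
      (hP1 h1).1, (hP1 h1).2, (hP1 h2).1, (hP1 h2).2, hP hgg, hP hgf, hP hfg, hP hff, inv_one, inv_neg, smul_eq_mul]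
    module

end SData

namespace SSetting

variable (hs : SSetting M Q₀)
include hs

/-- A singular point pairing with two given ones. -/
theorem exists_common_pairing {a b : ι → F₀} (ha0 : a ≠ 0) (hb0 : b ≠ 0) :
    ∃ z, Q₀ z = 0 ∧ 𝔅₀ z a ≠ 0 ∧ 𝔅₀ z b ≠ 0 := by
  by_cases hab : ∀ c : F₀, c • a ≠ b
  · set S := Submodule.span F₀ ({a, b} : Set (ι → F₀)) with hS
    have hdim : finrank F₀ S ≤ 2 := finrank_span_two_le a b
    obtain ⟨w, hwK, hwS, hwq⟩ := hs.data.exists_sing_outside hdim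
    obtain ⟨q, hqK, -, hqw⟩ := hs.data.exists_sing_pair hdim hwS
    obtain ⟨t, hta, htb⟩ := AschbacherQuad.exists_pairing_pair (isNondeg hs.data.nd₀) ha0 hab 1 1
    rw [hS, mem_qperp_span] at hwK hqK
    have haw : 𝔅₀ w a = 0 := by rw [QuadraticMap.polar_comm]; exact hwK a (by simp)
    have hbw : 𝔅₀ w b = 0 := by rw [QuadraticMap.polar_comm]; exact hwK b (by simp)
    have haq : 𝔅₀ q a = 0 := by rw [QuadraticMap.polar_comm]; exact hqK a (by simp)
    have hbq : 𝔅₀ q b = 0 := by rw [QuadraticMap.polar_comm]; exact hqK b (by simp)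
    set t' := t + (1 - 𝔅₀ t w) • q with ht'
    have h1 : 𝔅₀ t' w = 1 := by
      rw [ht', QuadraticMap.polar_add_left, QuadraticMap.polar_smul_left, hqw, smul_eq_mul]
      ring
    have h2 : 𝔅₀ t' a = 1 := by
      rw [ht', QuadraticMap.polar_add_left, QuadraticMap.polar_smul_left, haq, smul_zero, add_zero]
      exact hta
    have h3 : 𝔅₀ t' b = 1 := by
      rw [ht', QuadraticMap.polar_add_left, QuadraticMap.polar_smul_left, hbq, smul_zero, add_zero]
      exact htb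
    refine ⟨t' - Q₀ t' • w, ?_, ?_, ?_⟩
    · rw [sub_eq_add_neg, QuadraticMap.map_add (⇑Q₀), ← neg_smul, QuadraticMap.map_smul, hwq,
        QuadraticMap.polar_smul_right, h1, smul_eq_mul, smul_eq_mul]
      ring
    · rw [QuadraticMap.polar_sub_left, QuadraticMap.polar_smul_left, haw, smul_zero, sub_zero, h2]
      exact one_ne_zero
    · rw [QuadraticMap.polar_sub_left, QuadraticMap.polar_smul_left, hbw, smul_zero, sub_zero, h3]
      exact one_ne_zero
  · push Not at hab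
    obtain ⟨c, rfl⟩ := hab
    obtain ⟨q, -, hqq, hqa⟩ := hs.data.exists_sing_pair (S := (⊥ : Submodule F₀ (ι → F₀)))
      (by simp) (by simpa using ha0)
    refine ⟨q, hqq, by rw [hqa]; exact one_ne_zero, ?_⟩
    rw [QuadraticMap.polar_smul_right, hqa, smul_eq_mul, mul_one]
    exact fun h => hb0 (by rw [h, zero_smul])

variable (hR : Rigid Q₀ M)
include hR

/-- An element fixing a rational singular point is rational up to a scalar. -/
theorem stab_point {y : Isom Q} (hy : y ∈ M) {e : ι → F₀} (he0 : e ≠ 0) (he : Q₀ e = 0) {l : F}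
    (hye : mat Q y *ᵥ up e = l • up e) : InK F₀ y := by
  have hQ : ∀ {u : ι → F₀}, Q₀ u = 0 → Q (up u) = 0 := hs.data.quad_up_zero
  have hP : ∀ {u v : ι → F₀}, 𝔅₀ u v = 0 → 𝔅 (up u) (up v) = 0 := hs.data.polar_up_zero
  have hl : l ≠ 0 := fun h => by
    have h1 := inv_mat_mulVec y (up e)
    rw [hye, h, zero_smul, mulVec_zero] at h1
    exact he0 (up_eq_zero.1 h1.symm)
  obtain ⟨f, -, hfq, hfe⟩ := hs.data.exists_sing_pair (S := (⊥ : Submodule F₀ (ι → F₀)))
    (by simp) (by simpa using he0)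
  have hef : 𝔅 (up e) (up f) = 1 := by
    rw [QuadraticMap.polar_comm, hs.data.polar_up, hfe]; rfl
  have hee : 𝔅 (up e) (up e) = 0 := by rw [QuadraticMap.polar_self, hQ he, smul_zero]
  have hpol : ∀ z, 𝔅 (up e) (mat Q y *ᵥ z) = l⁻¹ * 𝔅 (up e) z := fun z => by
    have h1 := polar_mulVec Q y (up e) z
    rw [hye, QuadraticMap.polar_smul_left, smul_eq_mul] at h1
    rw [← h1, inv_mul_cancel_left₀ hl]
  have hv : 𝔅 (up e) (mat Q y *ᵥ up f) ≠ 0 := by
    rw [hpol, hef, mul_one]; exact inv_ne_zero hl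
  obtain ⟨hew, hmove⟩ := eich_move (hQ he) (v := mat Q y *ᵥ up f) (y := l⁻¹ • up f)
    (by rw [quad_mulVec, hQ hfq]) (by rw [QuadraticMap.map_smul, hQ hfq, smul_zero]) hv
    (by rw [QuadraticMap.polar_smul_right, hef, hpol, hef, smul_eq_mul])
  set w := (𝔅 (up e) (mat Q y *ᵥ up f))⁻¹ • (l⁻¹ • up f - mat Q y *ᵥ up f)
  set E := eichIso Q (up e) w (hQ he) hew with hE
  set x := E * y with hx
  have hXe : mat Q x *ᵥ up e = l • up e := by
    rw [hx, mat_mul, ← mulVec_mulVec, hye, mulVec_smul, hE, mat_eichIso,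
      eich_mulVec_left (hQ he) hew]
  have hXf : mat Q x *ᵥ up f = l⁻¹ • up f := by
    rw [hx, mat_mul, ← mulVec_mulVec, hE, mat_eichIso, hmove]
  have hXt : ∀ t : ι → F₀, 𝔅₀ e t = 0 → 𝔅₀ f t = 0 →
      ∃ v : ι → F₀, up v = l • (mat Q x *ᵥ up t) := by
    intro t het hft
    have h1 := (hs.root_rat he het).conj hy
    rw [hye, rootMem_smul_left] at h1
    obtain ⟨v, k, hvk⟩ := hR e he0 he _
      (by rw [QuadraticMap.polar_smul_right, hpol, hP het, mul_zero, smul_zero]) h1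
    set z := mat Q y *ᵥ up t
    have h2 : l • (mat Q x *ᵥ up t) = up v + (k - l * 𝔅 w z) • up e := by
      rw [hx, mat_mul, ← mulVec_mulVec, hE, mat_eichIso, eich_mulVec,
        show 𝔅 (up e) z = 0 by rw [hpol, hP het, mul_zero]]
      linear_combination (norm := module) hvk
    set k' := k - l * 𝔅 w z
    have h3 : 𝔅 (l • (mat Q x *ᵥ up t)) (up f) = 0 := by
      rw [show up f = l • (mat Q x *ᵥ up f) by rw [hXf, smul_inv_smul₀ hl],
        QuadraticMap.polar_smul_left, QuadraticMap.polar_smul_right, polar_mulVec,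
        hP (by rw [QuadraticMap.polar_comm, hft]), smul_zero, smul_zero]
    rw [h2, QuadraticMap.polar_add_left, QuadraticMap.polar_smul_left, hef, smul_eq_mul, mul_one,
      hs.data.polar_up] at h3
    refine ⟨v + (-𝔅₀ v f) • e, ?_⟩
    rw [h2, up_add, up_smul, eq_neg_of_add_eq_zero_right h3]
    push_cast
    rfl
  have hl2 : l * l ∈ F₀ := by
    obtain ⟨t, htK, htS, -⟩ := hs.data.exists_sing_outside
      (S := Submodule.span F₀ {e, f}) (finrank_span_two_le e f)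
    obtain ⟨t', ht'K, -, htt'⟩ := hs.data.exists_sing_pair
      (S := Submodule.span F₀ {e, f}) (finrank_span_two_le e f) htS
    rw [mem_qperp_span] at htK ht'K
    obtain ⟨v, hv⟩ := hXt t (htK e (by simp)) (htK f (by simp))
    obtain ⟨v', hv'⟩ := hXt t' (ht'K e (by simp)) (ht'K f (by simp))
    have h1 := hs.data.polar_up v' v
    rw [hv, hv', QuadraticMap.polar_smul_left, QuadraticMap.polar_smul_right, polar_mulVec,
      hs.data.polar_up, htt', smul_eq_mul, smul_eq_mul] at h1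
    simp at h1
    rw [h1]
    exact (𝔅₀ v' v).2
  have hXrat : RatMat F₀ (l • mat Q x) := ratMat_of_up fun u => by
    obtain ⟨v, hv⟩ := hXt (u - 𝔅₀ f u • e - 𝔅₀ e u • f)
      (by
        rw [QuadraticMap.polar_sub_right, QuadraticMap.polar_sub_right,
          QuadraticMap.polar_smul_right, QuadraticMap.polar_smul_right, QuadraticMap.polar_self, he,
          QuadraticMap.polar_comm (⇑Q₀) e f, hfe]
        simp)
      (by
        rw [QuadraticMap.polar_sub_right, QuadraticMap.polar_sub_right,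
          QuadraticMap.polar_smul_right, QuadraticMap.polar_smul_right, QuadraticMap.polar_self,
          hfq, hfe]
        simp)
    refine ⟨v + (𝔅₀ f u * ⟨l * l, hl2⟩) • e + 𝔅₀ e u • f, ?_⟩
    rw [up_add, up_add, up_smul, up_smul, hv, smul_mulVec, up_sub, up_sub, up_smul, up_smul,
      mulVec_sub, mulVec_sub, mulVec_smul, mulVec_smul, hXe, hXf, smul_sub, smul_sub]
    push_cast
    match_scalars <;> field_simp <;> ring
  have hxK : InK F₀ x := mem_subfieldSubgroup_one_iff.2 ⟨l, hl, hXrat⟩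
  have hxM : x ∈ M :=
    hs.lower x (mul_mem (eich_mem_omega hs.data.nd hs.card_ge _ _) (hs.le_omega hy)) hxK
  have hEM : E ∈ M := by simpa [hx] using mul_mem hxM (inv_mem hy)
  obtain ⟨v, k, hvk⟩ := hR e he0 he w hew (RootMem.of_iso (hQ he) hew hEM)
  have hev : 𝔅 (up e) (up v) = 0 := by
    have h1 := hew
    rw [hvk, QuadraticMap.polar_add_right, QuadraticMap.polar_smul_right, hee, smul_zero,
      add_zero] at h1
    exact h1
  have hEK : InK F₀ E := InK.of_rat (by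
    rw [hE, mat_eichIso, hvk, eich_add_smul (hQ he) hev]
    exact hs.data.ratMat_eich e v)
  simpa [hx] using hEK.inv.mul hxK

/-- An element moving a rational singular point to another is rational up to a scalar. -/
theorem stab_line {y : Isom Q} (hy : y ∈ M) {e e' : ι → F₀} (he0 : e ≠ 0) (he : Q₀ e = 0)
    (he0' : e' ≠ 0) (he' : Q₀ e' = 0) {l : F} (hye : mat Q y *ᵥ up e = l • up e') : InK F₀ y := by
  obtain ⟨z, hzq, hze, hze'⟩ := hs.exists_common_pairing he0 he0'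
  set c := 𝔅₀ z e' / 𝔅₀ z e with hc
  obtain ⟨hzw, hmove⟩ := eich_move hzq (v := e') (y := c • e) he'
    (by rw [QuadraticMap.map_smul, he, smul_zero]) hze'
    (by rw [QuadraticMap.polar_smul_right, smul_eq_mul, hc, div_mul_cancel₀ _ hze])
  set w := (𝔅₀ z e')⁻¹ • (c • e - e')
  have hu := hs.data.quad_up_zero hzq
  have hw := hs.data.polar_up_zero hzw
  set k := eichIso Q (up z) (up w) hu hw with hk
  have hkM : k ∈ M := (hs.root_rat hzq hzw).iso hu hw
  have hkK : InK F₀ k := InK.of_rat (hs.data.ratMat_eich z w)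
  have h1 : InK F₀ (k * y) := hs.stab_point hR (mul_mem hkM hy) he0 he (l := l * c) (by
    rw [mat_mul, ← mulVec_mulVec, hye, mulVec_smul, hk, mat_eichIso, hs.data.eich_up, hmove,
      up_smul, smul_smul])
  simpa using hkK.inv.mul h1

/-- An element of `M` fixing the fixed space of a rational involution of corank four is rational. -/
theorem stab_frame {y : Isom Q} (hy : y ∈ M) {a b b' e : ι → F₀} (ha0 : a ≠ 0) (he0 : e ≠ 0)
    (ha : Q₀ a = 0) (hb : Q₀ b = 0) (hb' : Q₀ b' = 0) (he : Q₀ e = 0) (hab : 𝔅₀ a b = 0)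
    (hab' : 𝔅₀ a b' = 0) (hbb : 𝔅₀ b b' = 1)
    (hya : 𝔅 (up a) (mat Q y *ᵥ up e) = 0) (hyb : 𝔅 (up b) (mat Q y *ᵥ up e) = 0)
    (hyb' : 𝔅 (up b') (mat Q y *ᵥ up e) = 0) : InK F₀ y := by
  have hQ : ∀ {u : ι → F₀}, Q₀ u = 0 → Q (up u) = 0 := hs.data.quad_up_zero
  have hout : ∀ {p r : ι → F₀}, 𝔅₀ a r = 0 → 𝔅₀ p r = 1 → p ∉ Submodule.span F₀ {a} := by
    intro p r har hpr hm
    obtain ⟨c, rfl⟩ := Submodule.mem_span_singleton.1 hm
    rw [QuadraticMap.polar_smul_left, har, smul_zero] at hpr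
    exact zero_ne_one hpr
  have hline : ∀ {p : ι → F₀}, Q₀ p = 0 → 𝔅₀ a p = 0 → 𝔅 (up p) (mat Q y *ᵥ up e) = 0 →
      p ∉ Submodule.span F₀ {a} → ∃ D : Submodule F₀ (ι → F₀),
        spanF D = Submodule.span F {mat Q y⁻¹ *ᵥ up a, mat Q y⁻¹ *ᵥ up p} := by
    intro p hp hap hyp hpa
    set x := eichIso Q (up a) (up p) (hQ ha) (hs.data.polar_up_zero hap) with hx
    have hxM : x ∈ M := (hs.root_rat ha hap).iso _ _
    have hz : InK F₀ (y⁻¹ * x * y) :=
      hs.stab_point hR (mul_mem (mul_mem (inv_mem hy) hxM) hy) he0 he (l := 1) (by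
        rw [mat_mul, mat_mul, ← mulVec_mulVec, ← mulVec_mulVec, hx, mat_eichIso, eich_mulVec, hya,
          hyp]
        simp only [zero_smul, mul_zero, sub_zero, add_zero]
        rw [inv_mat_mulVec, one_smul])
    exact hs.data.exists_spanF_line ha0 ha hp hap hpa (hs.data.ratMat_of_inK (by rwa [inv_inv]))
  obtain ⟨D, hD⟩ := hline hb hab hyb (hout hab' hbb)
  obtain ⟨D', hD'⟩ := hline hb' hab' hyb' (hout hab (by rw [QuadraticMap.polar_comm]; exact hbb))
  set A := mat Q y⁻¹ *ᵥ up a with hA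
  have hpol : ∀ {u v : ι → F₀}, 𝔅 (mat Q y⁻¹ *ᵥ up u) (mat Q y⁻¹ *ᵥ up v) = ((𝔅₀ u v : F₀) : F) :=
    fun {u v} => by rw [polar_mulVec, hs.data.polar_up]
  have hinter : spanF (D ⊓ D') = Submodule.span F {A} := by
    rw [spanF_inf, hD, hD']
    refine le_antisymm ?_ ((Submodule.span_singleton_le_iff_mem _ _).2
      ⟨Submodule.subset_span (by simp), Submodule.subset_span (by simp)⟩)
    rintro z ⟨hz, hz'⟩
    obtain ⟨α, β, hαβ⟩ := Submodule.mem_span_pair.1 hz
    obtain ⟨α', β', hαβ'⟩ := Submodule.mem_span_pair.1 hz'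
    have hβ : β = 0 := by
      have h1 := congrArg (fun w => 𝔅 (mat Q y⁻¹ *ᵥ up b') w) (hαβ.trans hαβ'.symm)
      simp only [hA, QuadraticMap.polar_add_right, QuadraticMap.polar_smul_right, hpol,
        QuadraticMap.polar_comm (⇑Q₀) b' a, hab', QuadraticMap.polar_comm (⇑Q₀) b' b, hbb,
        QuadraticMap.polar_self, hb'] at h1
      simpa using h1
    rw [hβ, zero_smul, add_zero] at hαβ
    exact Submodule.mem_span_singleton.2 ⟨α, hαβ⟩
  have hA0 : A ≠ 0 := fun h0 => ha0 (up_eq_zero.1 (by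
    rw [← mat_inv_mulVec' y (up a), ← hA, h0, mulVec_zero]))
  obtain ⟨c, hc, hc0⟩ : ∃ c ∈ D ⊓ D', c ≠ 0 := by
    by_contra! hall
    have h1 : spanF (D ⊓ D') ≤ ⊥ := spanF_le fun u hu => by rw [hall u hu, up_zero]; simp
    rw [hinter] at h1
    exact hA0 ((Submodule.mem_bot F).1 (h1 (Submodule.mem_span_singleton_self A)))
  obtain ⟨μ, hμ⟩ := Submodule.mem_span_singleton.1 (hinter ▸ up_mem_spanF hc : up c ∈ Submodule.span F {A})
  have hμ0 : μ ≠ 0 := fun h0 => hc0 (up_eq_zero.1 (by rw [← hμ, h0, zero_smul]))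
  have hcq : Q₀ c = 0 := Subtype.ext (by
    rw [hs.data.quad, ← hμ, QuadraticMap.map_smul, hA, quad_mulVec, hQ ha, smul_zero]; rfl)
  have h1 : InK F₀ y⁻¹ := hs.stab_line hR (inv_mem hy) ha0 ha hc0 hcq (l := μ⁻¹) (by
    rw [← hμ, smul_smul, inv_mul_cancel₀ hμ0, one_smul])
  simpa using h1.inv

end SSetting

namespace SData

variable (h : SData F₀ Q Q₀)
include h

/-- Two orthogonal singular points with values of irrational ratio. -/
theorem exists_ind_line (φ : (ι → F₀) → F) (hadd : ∀ x y, φ (x + y) = φ x + φ y)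
    (hsmul : ∀ (c : F₀) x, φ (c • x) = (c : F) * φ x) (hrank : ∃ x y, Ind F₀ (φ x) (φ y)) :
    ∃ g g' : ι → F₀, Q₀ g = 0 ∧ Q₀ g' = 0 ∧ 𝔅₀ g g' = 0 ∧ Ind F₀ (φ g) (φ g') := by
  obtain ⟨t1, t2, ht⟩ := hrank
  have hsub : ∀ (x : ι → F₀) (c : F₀) y, φ (x - c • y) = φ x - (c : F) * φ y := fun x c y => by
    rw [eq_sub_iff_add_eq, ← hsmul, ← hadd, sub_add_cancel]
  -- singular vectors in a hyperplane see the values
  have hsing : ∀ S : Submodule F₀ (ι → F₀), finrank F₀ S ≤ 2 → ∀ t ∈ qperp Q₀ S, t ∉ S →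
      ∀ P : F → Prop, P 0 → (∀ x y, P x → P y → P (x + y)) →
        (∀ (c : F₀) x, P x → P ((c : F) * x)) →
        (∀ r ∈ qperp Q₀ S, Q₀ r = 0 → P (φ r)) → P (φ t) := by
    intro S hS t htK htS P _ hPadd hPmul hall
    obtain ⟨q, hqK, hqq, hqt⟩ := h.exists_sing_pair hS htS
    have htq : 𝔅₀ t q = 1 := by rw [QuadraticMap.polar_comm, hqt]
    have h1 := hall _ (Submodule.sub_mem _ htK (Submodule.smul_mem _ (Q₀ t / 𝔅₀ t q) hqK))
      (quad_sub_smul hqq (by rw [htq]; exact one_ne_zero))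
    have h2 := hPadd _ _ h1 (hPmul (Q₀ t / 𝔅₀ t q) _ (hall q hqK hqq))
    rwa [hsub, sub_add_cancel] at h2
  obtain ⟨g, hg0, hg, hgφ⟩ : ∃ g, g ≠ 0 ∧ Q₀ g = 0 ∧ φ g ≠ 0 := by
    by_contra! hall
    refine ht.ne_zero (hsing ⊥ (by simp) t1 ?_ ?_ (fun x => x = 0) rfl (by simp_all) (by simp_all)
      fun r _ hr => ?_)
    · simp
    · rw [Submodule.mem_bot]
      intro h0
      exact ht.ne_zero (by rw [h0, ← zero_smul F₀ t2, hsmul]; simp)
    · rcases eq_or_ne r 0 with rfl | hr0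
      · rw [← zero_smul F₀ t2, hsmul]; simp
      · exact hall r hr0 hr
  by_cases hgood : ∃ r, Q₀ r = 0 ∧ 𝔅₀ g r = 0 ∧ ∀ c : F₀, φ r ≠ (c : F) * φ g
  · obtain ⟨r, hr, hgr, hind⟩ := hgood
    exact ⟨g, r, hg, hr, hgr, Ind.of_ratio hgφ hind⟩
  push Not at hgood
  have hperp : ∀ t, 𝔅₀ g t = 0 → ∃ c : F₀, φ t = (c : F) * φ g := by
    intro t hgt
    by_cases htS : t ∈ Submodule.span F₀ {g}
    · obtain ⟨c, rfl⟩ := Submodule.mem_span_singleton.1 htS
      exact ⟨c, hsmul c g⟩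
    refine hsing _ ((finrank_span_singleton hg0).trans_le (by norm_num)) t
      (mem_qperp_singleton.2 hgt) htS (fun x => ∃ c : F₀, x = (c : F) * φ g) ⟨0, by simp⟩ ?_ ?_
      fun r hr hrq => hgood r hrq (mem_qperp_singleton.1 hr)
    · rintro _ _ ⟨c, rfl⟩ ⟨d, rfl⟩
      exact ⟨c + d, by push_cast; ring⟩
    · rintro e _ ⟨c, rfl⟩
      exact ⟨e * c, by push_cast; ring⟩
  obtain ⟨k, -, hk, hkg⟩ := h.exists_sing_pair (S := (⊥ : Submodule F₀ (ι → F₀))) (by simp)
    (by simpa using hg0)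
  have hgk : 𝔅₀ g k = 1 := by rw [QuadraticMap.polar_comm, hkg]
  have hall : ∀ t, ∃ c d : F₀, φ t = (c : F) * φ g + (d : F) * φ k := fun t => by
    obtain ⟨c, hc⟩ := hperp (t - 𝔅₀ g t • k) (by
      rw [QuadraticMap.polar_sub_right, QuadraticMap.polar_smul_right, hgk, smul_eq_mul, mul_one,
        sub_self])
    refine ⟨c, 𝔅₀ g t, ?_⟩
    rw [hsub] at hc
    linear_combination hc
  have hkφ : ∀ c : F₀, φ k ≠ (c : F) * φ g := by
    intro c hc
    obtain ⟨a1, b1, e1⟩ := hall t1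
    obtain ⟨a2, b2, e2⟩ := hall t2
    rw [hc] at e1 e2
    by_cases h0 : a1 + b1 * c = 0
    · refine ht.ne_zero ?_
      have h0' : (a1 : F) + (b1 : F) * c = 0 := by exact_mod_cast congrArg (Subtype.val : F₀ → F) h0
      linear_combination e1 + φ g * h0'
    · refine ht.not_ratio ((a2 + b2 * c) / (a1 + b1 * c)) ?_
      have h0' : (a1 : F) + (b1 : F) * c ≠ 0 := fun e => h0 (Subtype.ext (by push_cast; exact e))
      rw [e1, e2]
      push_cast
      rw [show (a1 : F) * φ g + (b1 : F) * ((c : F) * φ g) = ((a1 : F) + (b1 : F) * c) * φ g by ring,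
        ← mul_assoc, ← mul_assoc, div_mul_cancel₀ _ h0']
      ring
  obtain ⟨r, hrK, hrS, hr⟩ := h.exists_sing_outside (S := Submodule.span F₀ {g, k})
    (finrank_span_two_le g k)
  obtain ⟨r', hr'K, hr', hr'r⟩ := h.exists_sing_pair (finrank_span_two_le g k) hrS
  rw [mem_qperp_span] at hrK hr'K
  have hgr : 𝔅₀ g r = 0 := hrK g (by simp)
  have hkr : 𝔅₀ k r = 0 := hrK k (by simp)
  have hgr' : 𝔅₀ g r' = 0 := hr'K g (by simp)
  have hkr' : 𝔅₀ k r' = 0 := hr'K k (by simp)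
  obtain ⟨c, hc⟩ := hperp r hgr
  obtain ⟨c', hc'⟩ := hperp r' hgr'
  obtain ⟨l, hl0, hl⟩ : ∃ l : F₀, l * l = 1 ∧ 1 + l * c ≠ 0 := by
    by_cases h1 : 1 + c = 0
    · refine ⟨-1, by ring, fun e => h.h2₀ ?_⟩
      linear_combination e + h1
    · exact ⟨1, by ring, by rwa [one_mul]⟩
  refine ⟨g + l • r, k - l • r', ?_, ?_, ?_, ?_⟩
  · rw [QuadraticMap.map_add (⇑Q₀), QuadraticMap.map_smul, hg, hr, QuadraticMap.polar_smul_right,
      hgr]
    simp
  · rw [show k - l • r' = k + (-l) • r' by module, QuadraticMap.map_add (⇑Q₀),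
      QuadraticMap.map_smul, hk, hr', QuadraticMap.polar_smul_right, hkr']
    simp
  · rw [QuadraticMap.polar_sub_right, QuadraticMap.polar_add_left, QuadraticMap.polar_add_left,
      QuadraticMap.polar_smul_left, QuadraticMap.polar_smul_left, QuadraticMap.polar_smul_right,
      QuadraticMap.polar_smul_right, hgk, hgr', QuadraticMap.polar_comm (⇑Q₀) r k, hkr,
      QuadraticMap.polar_comm (⇑Q₀) r r', hr'r]
    simp only [smul_eq_mul]
    linear_combination -hl0
  · have e1 : φ (g + l • r) = ((1 + l * c : F₀) : F) * φ g := by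
      rw [hadd, hsmul, hc]; push_cast; ring
    refine Ind.of_ratio ?_ fun d e => ?_
    · rw [e1]
      exact mul_ne_zero (fun e => hl (Subtype.ext e)) hgφ
    · rw [hsub, e1, hc'] at e
      refine hkφ (d * (1 + l * c) + l * c') ?_
      push_cast at e ⊢
      linear_combination e

/-- A frame separating the values of a functional of rank two. -/
theorem exists_frame (φ : (ι → F₀) → F) (hadd : ∀ x y, φ (x + y) = φ x + φ y)
    (hsmul : ∀ (c : F₀) x, φ (c • x) = (c : F) * φ x) (hrank : ∃ x y, Ind F₀ (φ x) (φ y)) :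
    ∃ g1 f1 g2 f2 g3 z : ι → F₀, Q₀ g1 = 0 ∧ Q₀ f1 = 0 ∧ Q₀ g2 = 0 ∧ Q₀ f2 = 0 ∧ Q₀ g3 = 0 ∧
      𝔅₀ g1 f1 = 1 ∧ 𝔅₀ g2 f2 = 1 ∧ 𝔅₀ g1 g2 = 0 ∧ 𝔅₀ g1 f2 = 0 ∧ 𝔅₀ f1 g2 = 0 ∧ 𝔅₀ f1 f2 = 0 ∧
      (∀ p ∈ ({g3, z} : Set (ι → F₀)), 𝔅₀ g1 p = 0 ∧ 𝔅₀ f1 p = 0 ∧ 𝔅₀ g2 p = 0 ∧ 𝔅₀ f2 p = 0) ∧
      Ind F₀ (φ g1) (φ g2) ∧ Ind F₀ (φ g3) (φ z) := by
  obtain ⟨g1, g2, hg1, hg2, hgg, hind⟩ := h.exists_ind_line φ hadd hsmul hrank
  have hφ0 : φ 0 = 0 := by rw [← zero_smul F₀ g1, hsmul]; simp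
  have hg10 : g1 ≠ 0 := fun e => hind.ne_zero (by rw [e, hφ0])
  have hg21 : g2 ∉ Submodule.span F₀ {g1} := fun hm => by
    obtain ⟨c, hc⟩ := Submodule.mem_span_singleton.1 hm
    exact hind.not_ratio c (by rw [← hc, hsmul])
  obtain ⟨q3, hq3K, hq3S, hq3⟩ := h.exists_sing_outside (S := Submodule.span F₀ {g1, g2})
    (finrank_span_two_le g1 g2)
  rw [mem_qperp_span] at hq3K
  have h11 : 𝔅₀ g1 g1 = 0 := by rw [QuadraticMap.polar_self, hg1, smul_zero]
  have h22 : 𝔅₀ g2 g2 = 0 := by rw [QuadraticMap.polar_self, hg2, smul_zero]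
  have h21 : 𝔅₀ g2 g1 = 0 := by rw [QuadraticMap.polar_comm, hgg]
  obtain ⟨g3, hg3, h13, h23, hg3S, hg3φ⟩ : ∃ g3, Q₀ g3 = 0 ∧ 𝔅₀ g1 g3 = 0 ∧ 𝔅₀ g2 g3 = 0 ∧
      g3 ∉ Submodule.span F₀ ({g1, g2} : Set (ι → F₀)) ∧ φ g3 ≠ 0 := by
    by_cases hq : φ q3 = 0
    · refine ⟨q3 + g1, ?_, ?_, ?_, fun hm => hq3S ?_, ?_⟩
      · rw [QuadraticMap.map_add (⇑Q₀), hq3, hg1, QuadraticMap.polar_comm, hq3K g1 (by simp)]
        simp
      · rw [QuadraticMap.polar_add_right, hq3K g1 (by simp), h11, add_zero]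
      · rw [QuadraticMap.polar_add_right, hq3K g2 (by simp), h21, add_zero]
      · have h1 := Submodule.sub_mem _ hm
          (Submodule.subset_span (show g1 ∈ ({g1, g2} : Set (ι → F₀)) by simp))
        rwa [add_sub_cancel_right] at h1
      · rw [hadd, hq, zero_add]; exact hind.ne_zero
    · exact ⟨q3, hq3, hq3K g1 (by simp), hq3K g2 (by simp), hq3S, hq⟩
  obtain ⟨z0, hz0K, hz0S⟩ : ∃ z0 ∈ qperp Q₀ (Submodule.span F₀ {g1, g2}),
      z0 ∉ Submodule.span F₀ ({g1, g2, g3} : Set (ι → F₀)) := by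
    refine SetLike.not_le_iff_exists.1 fun hle => ?_
    have h1 := Submodule.finrank_mono hle
    rw [h.le_finrank_qperp] at h1
    have := h.card
    have h3 := finrank_span_two_le (F₀ := F₀) g1 g2
    have h4 := finrank_span_three_le (F₀ := F₀) g1 g2 g3
    omega
  rw [mem_qperp_span] at hz0K
  obtain ⟨z, h1z, h2z, hzS, hind3⟩ : ∃ z, 𝔅₀ g1 z = 0 ∧ 𝔅₀ g2 z = 0 ∧
      z ∉ Submodule.span F₀ ({g1, g2, g3} : Set (ι → F₀)) ∧ Ind F₀ (φ g3) (φ z) := by
    by_cases hz : ∀ c : F₀, φ z0 ≠ (c : F) * φ g3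
    · exact ⟨z0, hz0K g1 (by simp), hz0K g2 (by simp), hz0S, Ind.of_ratio hg3φ hz⟩
    push Not at hz
    obtain ⟨c, hc⟩ := hz
    obtain ⟨g, hgmem, hg1', hg2', hgφ⟩ : ∃ g, g ∈ ({g1, g2, g3} : Set (ι → F₀)) ∧ 𝔅₀ g1 g = 0 ∧
        𝔅₀ g2 g = 0 ∧ ∀ d : F₀, φ g ≠ (d : F) * φ g3 := by
      by_contra! hall
      obtain ⟨d1, e1⟩ := hall g1 (by simp) h11 h21
      obtain ⟨d2, e2⟩ := hall g2 (by simp) hgg h22
      by_cases hd1 : d1 = 0
      · exact hind.ne_zero (by rw [e1, hd1]; simp)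
      · refine hind.not_ratio (d2 / d1) ?_
        have hd : (d1 : F) ≠ 0 := fun e => hd1 (Subtype.ext e)
        rw [e1, e2]
        push_cast
        field_simp
    refine ⟨z0 + g, by rw [QuadraticMap.polar_add_right, hz0K g1 (by simp), hg1', add_zero],
      by rw [QuadraticMap.polar_add_right, hz0K g2 (by simp), hg2', add_zero], fun hm => hz0S ?_,
      Ind.of_ratio hg3φ fun d e => hgφ (d - c) ?_⟩
    · have h1 := Submodule.sub_mem _ hm (Submodule.subset_span hgmem)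
      rwa [add_sub_cancel_right] at h1
    · rw [hadd, hc] at e
      push_cast
      linear_combination e
  have hstep : ∀ {x y : ι → F₀} {s : Set (ι → F₀)}, x ∈ Submodule.span F₀ (insert y s) →
      x ∉ Submodule.span F₀ s → y ∈ Submodule.span F₀ (insert x s) := fun h1 h2 =>
    mem_span_insert_exchange h1 h2
  have hA : g1 ∉ Submodule.span F₀ ({g2, g3} : Set (ι → F₀)) := fun hm => by
    rw [Set.pair_comm] at hm
    refine hg3S (hstep hm fun hm' => ?_)
    obtain ⟨c, hc⟩ := Submodule.mem_span_singleton.1 hm'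
    rcases eq_or_ne c 0 with rfl | hc0
    · exact hg10 (by rw [← hc, zero_smul])
    · exact hg21 (Submodule.mem_span_singleton.2 ⟨c⁻¹, by rw [← hc, inv_smul_smul₀ hc0]⟩)
  have hB : g2 ∉ Submodule.span F₀ ({g1, g3} : Set (ι → F₀)) := fun hm => by
    rw [Set.pair_comm] at hm
    have h1 := hstep hm hg21
    rw [Set.pair_comm] at h1
    exact hg3S h1
  have hA' : g1 ∉ Submodule.span F₀ ({g2, g3, z} : Set (ι → F₀)) := fun hm => by
    rw [show ({g2, g3, z} : Set (ι → F₀)) = insert z {g2, g3} by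
      simp only [Set.insert_comm z, Set.pair_comm z]] at hm
    exact hzS (hstep hm hA)
  have hB' : g2 ∉ Submodule.span F₀ ({g1, g3, z} : Set (ι → F₀)) := fun hm => by
    rw [show ({g1, g3, z} : Set (ι → F₀)) = insert z {g1, g3} by
      simp only [Set.insert_comm z, Set.pair_comm z]] at hm
    have h1 := hstep hm hB
    rw [Set.insert_comm] at h1
    exact hzS h1
  obtain ⟨f1, hf1K, hf1, hf1g⟩ := h.exists_sing_pair' (S := Submodule.span F₀ {g2, g3, z})
    (z := g1) (mem_qperp_span.2 (by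
      simp [h21, QuadraticMap.polar_comm (⇑Q₀) g3 g1, h13,
        QuadraticMap.polar_comm (⇑Q₀) z g1, h1z])) hA' hg1 (t := g1) hA'
  rw [mem_qperp_span] at hf1K
  have h1f : 𝔅₀ g1 f1 = 1 := by rw [QuadraticMap.polar_comm, hf1g]
  have hfg : 𝔅₀ f1 g2 = 0 := by rw [QuadraticMap.polar_comm]; exact hf1K g2 (by simp)
  have hB'' : g2 ∉ Submodule.span F₀ ({f1, g1, g3, z} : Set (ι → F₀)) := fun hm => by
    obtain ⟨b, w, hw, e⟩ := Submodule.mem_span_insert.1 hm
    have hw0 : 𝔅₀ g1 w = 0 := by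
      have : w ∈ qperp Q₀ (Submodule.span F₀ {g1}) := Submodule.span_le.2 (by
        simp only [Set.insert_subset_iff, Set.singleton_subset_iff, SetLike.mem_coe, mem_qperp_singleton]
        exact ⟨h11, h13, h1z⟩) hw
      exact mem_qperp_singleton.1 this
    have hb : b = 0 := by
      have e1 := congrArg (fun x => 𝔅₀ g1 x) e
      simp only [QuadraticMap.polar_add_right, QuadraticMap.polar_smul_right, hgg, h1f, hw0,
        smul_eq_mul, mul_one, add_zero] at e1
      exact e1.symm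
    rw [hb, zero_smul, zero_add] at e
    exact hB' (e ▸ hw)
  obtain ⟨f2, hf2K, hf2, hf2g⟩ := h.exists_sing_pair' (S := Submodule.span F₀ {f1, g1, g3, z})
    (z := g2) (mem_qperp_span.2 (by
      simp [hfg, hgg, QuadraticMap.polar_comm (⇑Q₀) g3 g2, h23,
        QuadraticMap.polar_comm (⇑Q₀) z g2, h2z])) hB'' hg2 (t := g2) hB''
  rw [mem_qperp_span] at hf2K
  refine ⟨g1, f1, g2, f2, g3, z, hg1, hf1, hg2, hf2, hg3, h1f,
    by rw [QuadraticMap.polar_comm, hf2g], hgg, hf2K g1 (by simp), hfg, hf2K f1 (by simp),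
    fun p hp => ?_, hind, hind3⟩
  rcases hp with rfl | rfl
  · exact ⟨h13, by rw [QuadraticMap.polar_comm]; exact hf1K p (by simp), h23,
      by rw [QuadraticMap.polar_comm]; exact hf2K p (by simp)⟩
  · exact ⟨h1z, by rw [QuadraticMap.polar_comm]; exact hf1K p (by simp), h2z,
      by rw [QuadraticMap.polar_comm]; exact hf2K p (by simp)⟩

end SData

namespace SData

variable (h : SData F₀ Q Q₀)
include h

/-- A hyperplane section losing exactly one dimension. -/
theorem finrank_inf_perp {K : Submodule F₀ (ι → F₀)} {a x : ι → F₀} (hx : x ∈ K) (hax : 𝔅₀ a x ≠ 0) :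
    finrank F₀ (K ⊓ qperp Q₀ (Submodule.span F₀ {a}) : Submodule F₀ (ι → F₀)) + 1 = finrank F₀ K := by
  have h1 := OrthMax.finrank_le_inf_qperp_add_one h.nd₀ K a
  have h3 := Submodule.finrank_lt_finrank_of_lt (lt_of_le_of_ne
    (inf_le_left : K ⊓ qperp Q₀ (Submodule.span F₀ {a}) ≤ K) fun e =>
      hax (mem_qperp_singleton.1 (e.symm ▸ hx : x ∈ K ⊓ qperp Q₀ (Submodule.span F₀ {a})).2))
  omega

/-- Orthogonal rational reflections of value one, with the space they fix. -/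
theorem exists_refl_list (k : ℕ) (hk : k + 1 ≤ Fintype.card ι) :
    ∃ (i : Isom Q) (L : List (ι → F₀)) (W : Submodule F₀ (ι → F₀)), L.length = k ∧
      IsReflProd Q i (L.map up) ∧ (∀ p ∈ L, Q₀ p = 1) ∧ RatMat F₀ (mat Q i) ∧
      finrank F₀ W + k = Fintype.card ι ∧ (∀ x ∈ W, (∀ z ∈ W, 𝔅₀ z x = 0) → x = 0) ∧
      (∀ w ∈ W, mat Q i *ᵥ up w = up w) ∧
      ∀ x, (∀ w ∈ W, 𝔅 (up w) x = 0) → mat Q i *ᵥ x = -x := by
  induction k with
  | zero =>
    refine ⟨1, [], ⊤, rfl, IsReflProd.one, fun p hp => absurd hp List.not_mem_nil,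
      by rw [mat_one]; exact MaxSub.ratMat_one F₀, ?_, fun x _ hx => ?_, fun w _ => ?_, fun x hx => ?_⟩
    · rw [finrank_top, finrank_fintype_fun_eq_card, add_zero]
    · exact h.nd₀.1 x fun z => by
        rw [QuadraticMap.polarBilin_apply_apply, QuadraticMap.polar_comm]; exact hx z Submodule.mem_top
    · rw [mat_one, one_mulVec]
    · have e : x = 0 := h.eq_zero_of_forall_up fun u => by
        rw [QuadraticMap.polar_comm]; exact hx u Submodule.mem_top
      rw [e, mulVec_zero, neg_zero]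
  | succ k ih =>
    obtain ⟨i, L, W, hL, hP, hval, hrat, hdim, hndW, hfix, hneg⟩ := ih (by omega)
    obtain ⟨p, hp, hpq⟩ := exists_value_mem (Q := Q₀) (X := W)
      ((Submodule.eq_bot_iff _).2 fun x hx => hndW x hx.1 (mem_qperp.1 hx.2)) (by omega) 1 one_ne_zero
    have h20 : (2 : F₀) ≠ 0 := h.h2₀
    have hpp : 𝔅₀ p p = 2 := by
      rw [QuadraticMap.polar_self, hpq, nsmul_eq_mul, mul_one, Nat.cast_ofNat]
    have hQp : Q (up p) = 1 := by rw [← h.quad, hpq]; rfl
    have np : Q (up p) ≠ 0 := by rw [hQp]; exact one_ne_zero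
    have hpF : 𝔅 (up p) (up p) = 2 := by rw [polar_self', hQp, mul_one]
    have hdec : ∀ y ∈ W, y - (𝔅₀ p y / 2) • p ∈ W ⊓ qperp Q₀ (Submodule.span F₀ {p}) := fun y hy =>
      ⟨W.sub_mem hy (W.smul_mem _ hp), mem_qperp_singleton.2 (by
        rw [QuadraticMap.polar_sub_right, QuadraticMap.polar_smul_right, hpp, smul_eq_mul,
          div_mul_cancel₀ _ h20, sub_self])⟩
    refine ⟨i * reflIso Q _ np, L ++ [p], W ⊓ qperp Q₀ (Submodule.span F₀ {p}), by simp [hL], ?_, ?_, ?_, ?_,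
      ?_, fun w hw => ?_, fun x hx => ?_⟩
    · rw [List.map_append]
      exact hP.mul (IsReflProd.reflIso _ np)
    · intro r hr
      rcases List.mem_append.1 hr with hr | hr
      · exact hval r hr
      · rw [List.mem_singleton.1 hr]; exact hpq
    · have hr : RatMat F₀ (mat Q (reflIso Q (up p) np)) :=
        ratMat_of_up fun u => ⟨u - ((Q₀ p)⁻¹ * 𝔅₀ p u) • p, by
          rw [mat_reflIso, reflectionMatrix_mulVec, refl_apply, up_sub, up_smul, ← h.quad, h.polar_up]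
          push_cast
          rfl⟩
      rw [mat_mul]
      exact hrat.mul hr
    · have := h.finrank_inf_perp hp (a := p) (by rw [hpp]; exact h20)
      omega
    · intro x hx hall
      refine hndW x hx.1 fun z hz => ?_
      have h1 := hall _ (hdec z hz)
      rwa [QuadraticMap.polar_sub_left, QuadraticMap.polar_smul_left, mem_qperp_singleton.1 hx.2,
        smul_zero, sub_zero] at h1
    · rw [mat_mul, ← mulVec_mulVec, mat_reflIso_mulVec, refl_apply, h.polar_up_zero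
        (mem_qperp_singleton.1 hw.2), mul_zero, zero_smul, sub_zero, hfix w hw.1]
    · set c := 𝔅 (up p) x / 2 with hc
      have hcx : 𝔅 (up p) x = 2 * c := by rw [hc, mul_div_cancel₀ _ h.h2]
      have h1 : ∀ w ∈ W, 𝔅 (up w) (x - c • up p) = 0 := by
        intro w hw
        have h2' := hx _ (hdec w hw)
        rw [up_sub, up_smul, QuadraticMap.polar_sub_left, QuadraticMap.polar_smul_left, smul_eq_mul,
          sub_eq_zero, hcx] at h2'
        push_cast at h2'
        rw [show ((2 : F₀) : F) = 2 from map_ofNat F₀.subtype 2, ← h.polar_up] at h2'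
        rw [QuadraticMap.polar_sub_right, QuadraticMap.polar_smul_right, smul_eq_mul, h2',
          QuadraticMap.polar_comm (⇑Q) (up p) (up w)]
        field_simp [h.h2]
        ring
      rw [mat_mul, ← mulVec_mulVec, mat_reflIso_mulVec, refl_apply, hQp, inv_one, one_mul, hcx,
        show x - (2 * c) • up p = (x - c • up p) - c • up p by module, mulVec_sub, mulVec_smul,
        hfix p hp, hneg _ h1]
      module

/-- A rational involution of `Ω` fixing only a nonsingular line. -/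
theorem exists_inv_six :
    ∃ (i : Isom Q) (v e : ι → F₀), i ∈ Cfsg.Omega F ⇑Q ∧ RatMat F₀ (mat Q i) ∧ i * i = 1 ∧
      Q₀ v ≠ 0 ∧ mat Q i *ᵥ up v = up v ∧ (∀ x, 𝔅 (up v) x = 0 → mat Q i *ᵥ x = -x) ∧
      e ≠ 0 ∧ Q₀ e = 0 ∧ 𝔅₀ e v = 0 := by
  have hn := h.card
  obtain ⟨k, hk⟩ := h.odd
  obtain ⟨i, L, W, hL, hP, hval, hrat, hdim, hndW, hfix, hneg⟩ := h.exists_refl_list (2 * k) (by omega)
  have hW : finrank F₀ W = 1 := by omega
  obtain ⟨v, hv, hv0⟩ : ∃ v ∈ W, v ≠ 0 := Submodule.exists_mem_ne_zero_of_ne_bot fun e => by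
    rw [e, finrank_bot] at hW; omega
  have hWv : ∀ w ∈ W, ∃ c : F₀, c • v = w := fun w hw => by
    rw [← Submodule.eq_of_le_of_finrank_le ((Submodule.span_singleton_le_iff_mem _ _).2 hv)
      (by rw [finrank_span_singleton hv0]; omega)] at hw
    exact Submodule.mem_span_singleton.1 hw
  have hvq : Q₀ v ≠ 0 := fun e => hv0 (hndW v hv fun z hz => by
    obtain ⟨c, rfl⟩ := hWv z hz
    rw [QuadraticMap.polar_smul_left, QuadraticMap.polar_self, e, smul_zero, smul_zero])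
  have hperp : ∀ x, 𝔅 (up v) x = 0 → mat Q i *ᵥ x = -x := fun x hx => hneg x fun w hw => by
    obtain ⟨c, rfl⟩ := hWv w hw
    rw [up_smul, QuadraticMap.polar_smul_left, hx, smul_zero]
  obtain ⟨e, heK, heS, he⟩ := h.exists_sing_outside (S := Submodule.span F₀ {v})
    (by rw [finrank_span_singleton hv0]; norm_num)
  refine ⟨i, v, e, ?_, hrat, ?_, hvq, hfix v hv, hperp, fun e' => heS (e' ▸ Submodule.zero_mem _), he, ?_⟩
  · refine (mem_omega_iff_even h.nd (Or.inr (by omega)) hP).2 ⟨by rw [List.length_map, hL]; exact ⟨k, two_mul k⟩, ?_⟩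
    have h1 : ((L.map up).map fun u => Q u).prod = 1 := List.prod_eq_one fun y hy => by
      obtain ⟨u, hu, rfl⟩ := List.mem_map.1 hy
      obtain ⟨p, hp, rfl⟩ := List.mem_map.1 hu
      rw [← h.quad, hval p hp]; rfl
    rw [h1]
    exact IsSquare.one
  · have hq' : Q (up v) ≠ 0 := fun e' => hvq (Subtype.ext (by rw [h.quad]; exact e'))
    refine mat_ext Q (Matrix.ext_iff_mulVec.2 fun x => ?_)
    set c := 𝔅 (up v) x / (2 * Q (up v))
    have h1 : 𝔅 (up v) (x - c • up v) = 0 := by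
      rw [QuadraticMap.polar_sub_right, QuadraticMap.polar_smul_right, polar_self', smul_eq_mul,
        div_mul_cancel₀ _ (mul_ne_zero h.h2 hq'), sub_self]
    have e' : x = (x - c • up v) + c • up v := by abel
    rw [mat_mul, ← mulVec_mulVec, mat_one, one_mulVec]
    conv_lhs => rw [e']
    rw [mulVec_add, mulVec_smul, hfix v hv, hperp _ h1, mulVec_add, mulVec_neg, mulVec_smul, hfix v hv,
      hperp _ h1, neg_neg, sub_add_cancel]
  · rw [QuadraticMap.polar_comm]
    exact mem_qperp_singleton.1 heK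

end SData

/-- Vectors fixed by an involutive self-adjoint map and orthogonal to the fixed vectors orthogonal to
`u` are multiples of the fixed part of `u`. -/
theorem fixed_mem_span (hQ : (QuadraticMap.polarBilin Q).Nondegenerate) (h2 : (2 : F) ≠ 0)
    {S : Matrix ι ι F} (hSS : ∀ x, S *ᵥ (S *ᵥ x) = x) (hsym : ∀ x y, 𝔅 (S *ᵥ x) y = 𝔅 x (S *ᵥ y))
    {u z : ι → F} (hz : S *ᵥ z = z) (hperp : ∀ k, S *ᵥ k = k → 𝔅 u k = 0 → 𝔅 z k = 0) :
    ∃ c : F, z = c • (u + S *ᵥ u) := by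
  have hfix : ∀ y, S *ᵥ (y + S *ᵥ y) = y + S *ᵥ y := fun y => by rw [mulVec_add, hSS, add_comm]
  have hhalf : ∀ {a : ι → F}, S *ᵥ a = a → ∀ y, 𝔅 a (y + S *ᵥ y) = 2 * 𝔅 a y := fun {a} ha y => by
    rw [QuadraticMap.polar_add_right, ← hsym, ha]; ring
  by_cases h0 : ∀ y, 𝔅 u (y + S *ᵥ y) = 0
  · refine ⟨0, ?_⟩
    rw [zero_smul]
    refine hQ.1 z fun y => ?_
    have h1 := hperp _ (hfix y) (h0 y)
    rw [hhalf hz] at h1
    exact (mul_eq_zero.1 h1).resolve_left h2
  push Not at h0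
  obtain ⟨y0, hy0⟩ := h0
  set t0 := (𝔅 u (y0 + S *ᵥ y0))⁻¹ • (y0 + S *ᵥ y0) with ht0
  have ht0f : S *ᵥ t0 = t0 := by rw [ht0, mulVec_smul, hfix]
  have hut0 : 𝔅 u t0 = 1 := by
    rw [ht0, QuadraticMap.polar_smul_right, smul_eq_mul, inv_mul_cancel₀ hy0]
  refine ⟨𝔅 z t0 / 2, sub_eq_zero.1 (hQ.1 _ fun y => ?_)⟩
  set k := (y + S *ᵥ y) - 𝔅 u (y + S *ᵥ y) • t0 with hk
  have h1 := hperp k (by rw [hk, mulVec_sub, mulVec_smul, hfix, ht0f]) (by
    rw [hk, QuadraticMap.polar_sub_right, QuadraticMap.polar_smul_right, hut0, smul_eq_mul, mul_one,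
      sub_self])
  rw [hk, QuadraticMap.polar_sub_right, QuadraticMap.polar_smul_right, hhalf hz] at h1
  have h3 : 𝔅 u (y + S *ᵥ y) = 𝔅 (u + S *ᵥ u) y := by
    rw [QuadraticMap.polar_add_right, QuadraticMap.polar_add_left, hsym]
  rw [h3, smul_eq_mul] at h1
  rw [QuadraticMap.polarBilin_apply_apply, QuadraticMap.polar_sub_left, QuadraticMap.polar_smul_left,
    smul_eq_mul]
  field_simp
  linear_combination h1

namespace SSetting

variable (hs : SSetting M Q₀) (hR : Rigid Q₀ M)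
include hs hR

/-- The fixed point of a conjugate of a negative reflection is rational up to a scalar. -/
theorem exists_rat_line {t : Isom Q} (ht : t ∈ M) (htt : t * t = 1) {u : ι → F} (hqu : Q u ≠ 0)
    (htu : mat Q t *ᵥ u = u) (htperp : ∀ x, 𝔅 u x = 0 → mat Q t *ᵥ x = -x) :
    ∃ (w : ι → F₀) (l : F), u = l • up w := by
  by_contra hirr
  push Not at hirr
  have h2 := hs.data.h2
  have hu0 : u ≠ 0 := fun e => hqu (by rw [e, QuadraticMap.map_zero])
  set φ : (ι → F₀) → F := fun r => 𝔅 (up r) u with hφ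
  have hadd : ∀ x y, φ (x + y) = φ x + φ y := fun x y => by
    simp [hφ, up_add, QuadraticMap.polar_add_left]
  have hsmul : ∀ (c : F₀) x, φ (c • x) = (c : F) * φ x := fun c x => by
    simp [hφ, up_smul, QuadraticMap.polar_smul_left]
  have hrank : ∃ x y, Ind F₀ (φ x) (φ y) := by
    obtain ⟨r1, hr1⟩ : ∃ r, φ r ≠ 0 := by
      by_contra! hall
      exact hu0 (hs.data.eq_zero_of_forall_up fun r => by rw [QuadraticMap.polar_comm]; exact hall r)
    by_contra hno
    push Not at hno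
    obtain ⟨w, hw⟩ := hs.data.rat_of_polar (x := (φ r1)⁻¹ • u) fun r => by
      obtain ⟨c, hc⟩ : ∃ c : F₀, φ r = (c : F) * φ r1 := by
        by_contra! hall
        exact hno r1 r (Ind.of_ratio hr1 hall)
      have e : 𝔅 u (up r) = φ r := QuadraticMap.polar_comm _ _ _
      rw [QuadraticMap.polar_smul_left, e, hc, smul_eq_mul, mul_comm, mul_inv_cancel_right₀ hr1]
      exact c.2
    exact hirr w (φ r1) (by rw [hw, smul_inv_smul₀ hr1])
  obtain ⟨g1, f1, g2, f2, g3, z, hg1, hf1, hg2, hf2, hg3, e1, e2, hgg, hgf, hfg, hff, hperpB, hind,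
    hind3⟩ := hs.data.exists_frame φ hadd hsmul hrank
  obtain ⟨i2, hi2Ω, hi2K, -, hI⟩ := hs.data.exists_inv_four hg1 hf1 hg2 hf2 e1 e2 hgg hgf hfg hff
  have hP := @SData.polar_up _ _ _ _ _ _ _ _ hs.data
  have hsymI : ∀ x y, 𝔅 (mat Q i2 *ᵥ x) y = 𝔅 x (mat Q i2 *ᵥ y) := fun x y => by
    rw [hI, hI]
    simp only [QuadraticMap.polar_sub_left, QuadraticMap.polar_sub_right,
      QuadraticMap.polar_smul_left, QuadraticMap.polar_smul_right, smul_eq_mul,
      QuadraticMap.polar_comm (⇑Q) x (up _)]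
    ring
  have hII : ∀ x, mat Q i2 *ᵥ (mat Q i2 *ᵥ x) = x := fun x => by
    refine sub_eq_zero.1 (hs.data.nd.1 _ fun y => ?_)
    rw [QuadraticMap.polarBilin_apply_apply, QuadraticMap.polar_sub_left, hsymI, polar_mulVec,
      sub_self]
  have hi22 : i2 * i2 = 1 := mat_ext Q (Matrix.ext_iff_mulVec.2 fun x => by
    rw [mat_mul, ← mulVec_mulVec, hII, mat_one, one_mulVec])
  have hself : ∀ {r : ι → F₀}, Q₀ r = 0 → 𝔅₀ r r = 0 := fun e => by
    rw [QuadraticMap.polar_self, e, smul_zero]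
  have hneg1 : mat Q i2 *ᵥ up g1 = -up g1 := by
    rw [hI]
    simp only [hP, QuadraticMap.polar_comm (⇑Q₀) f1 g1, e1, hself hg1,
      QuadraticMap.polar_comm (⇑Q₀) f2 g1, hgf, QuadraticMap.polar_comm (⇑Q₀) g2 g1, hgg,
      ZeroMemClass.coe_zero, OneMemClass.coe_one]
    module
  have hneg2 : mat Q i2 *ᵥ up g2 = -up g2 := by
    rw [hI]
    simp only [hP, hfg, hgg, hself hg2, QuadraticMap.polar_comm (⇑Q₀) f2 g2, e2,
      ZeroMemClass.coe_zero, OneMemClass.coe_one]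
    module
  have hfixB : ∀ p ∈ ({g3, z} : Set (ι → F₀)), mat Q i2 *ᵥ up p = up p := fun p hp => by
    obtain ⟨h1, h2', h3, h4⟩ := hperpB p hp
    rw [hI]
    simp only [hP, h1, h2', h3, h4, ZeroMemClass.coe_zero, mul_zero, zero_smul, sub_zero]
  -- the two involutions are not conjugate
  have hvv : 𝔅 u u = 2 * Q u := by rw [QuadraticMap.polar_self, nsmul_eq_mul, Nat.cast_ofNat]
  have htfix : ∀ x, mat Q t *ᵥ x = x → ∃ c : F, x = c • u := by
    intro x hx
    set c := 𝔅 u x / (2 * Q u)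
    refine ⟨c, ?_⟩
    have h1 : 𝔅 u (x - c • u) = 0 := by
      rw [QuadraticMap.polar_sub_right, QuadraticMap.polar_smul_right, hvv, smul_eq_mul,
        div_mul_cancel₀ _ (mul_ne_zero h2 hqu), sub_self]
    have h3 := htperp _ h1
    rw [mulVec_sub, mulVec_smul, hx, htu] at h3
    have h4 : (2 : F) • (x - c • u) = 0 := by rw [two_smul]; exact eq_neg_iff_add_eq_zero.1 h3
    exact sub_eq_zero.1 ((smul_eq_zero.1 h4).resolve_left h2)
  have hnc : ∀ k : Isom Q, k * i2 * k⁻¹ ≠ t := by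
    intro k hk
    have himg : ∀ p ∈ ({g3, z} : Set (ι → F₀)), ∃ c : F, mat Q k *ᵥ up p = c • u := fun p hp =>
      htfix _ (by rw [← hk, mat_mul, mat_mul, ← mulVec_mulVec, ← mulVec_mulVec, inv_mat_mulVec,
        hfixB p hp])
    obtain ⟨c, hc⟩ := himg g3 (by simp)
    obtain ⟨d, hd⟩ := himg z (by simp)
    have hg30 : up g3 ≠ 0 := fun e => hind3.ne_zero (by
      simp only [hφ]; rw [e, QuadraticMap.polar_zero_left])
    have hc0 : c ≠ 0 := fun e => hg30 (by
      rw [← inv_mat_mulVec k (up g3), hc, e, zero_smul, mulVec_zero])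
    have he : up z = (d / c) • up g3 := by
      rw [← inv_mat_mulVec k (up g3), ← inv_mat_mulVec k (up z), hc, hd, ← mulVec_smul, smul_smul,
        div_mul_cancel₀ _ hc0]
    obtain ⟨r, hr⟩ : ∃ r : F₀, r • g3 = z := Submodule.mem_span_singleton.1 (mem_of_up_mem (by
      rw [he]; exact Submodule.smul_mem _ _ (up_mem_spanF (Submodule.mem_span_singleton_self g3))))
    exact hind3.not_ratio r (by rw [← hr, hsmul])
  obtain ⟨m, hm1, hmt, hmi⟩ := exists_central_of_not_conj htt hi22 hnc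
  set j := (t * i2) ^ m with hj
  have hi2M : i2 ∈ M := hs.mem_of_rat hi2Ω hi2K
  have hjM : j ∈ M := pow_mem (mul_mem ht hi2M) m
  have htinv : t⁻¹ = t := inv_eq_of_mul_eq_one_right htt
  have hi2inv : i2⁻¹ = i2 := inv_eq_of_mul_eq_one_right hi22
  have hjj : j * j = 1 := by
    have h1 : t * (t * i2) * t⁻¹ = (t * i2)⁻¹ := by
      rw [_root_.mul_inv_rev, htinv, hi2inv, ← mul_assoc, htt, one_mul]
    have h3 : t * j * t⁻¹ = j⁻¹ := by rw [hj, ← conj_pow, h1, inv_pow]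
    rw [show t * j = j * t from hmt, mul_inv_cancel_right] at h3
    nth_rewrite 2 [h3]
    exact mul_inv_cancel j
  have hjmul : ∀ x, mat Q j *ᵥ (mat Q j *ᵥ x) = x := fun x => by
    rw [mulVec_mulVec, ← mat_mul, hjj, mat_one, one_mulVec]
  have hJI : ∀ x, mat Q j *ᵥ (mat Q i2 *ᵥ x) = mat Q i2 *ᵥ (mat Q j *ᵥ x) := fun x => by
    rw [mulVec_mulVec, mulVec_mulVec, ← mat_mul, ← mat_mul, show i2 * j = j * i2 from hmi]
  -- the centraliser of `i2` is rational
  have hjK : InK F₀ j := by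
    have hg10 : g1 ≠ 0 := fun e => hind.ne_zero (by
      simp only [hφ]; rw [e, up_zero, QuadraticMap.polar_zero_left])
    have hg30 : g3 ≠ 0 := fun e => hind3.ne_zero (by
      simp only [hφ]; rw [e, up_zero, QuadraticMap.polar_zero_left])
    have hkill : ∀ {p : ι → F₀}, mat Q i2 *ᵥ up p = -up p →
        𝔅 (up p) (mat Q j *ᵥ up g3) = 0 := fun {p} hp => by
      have h1 := hsymI (up p) (mat Q j *ᵥ up g3)
      rw [hp, QuadraticMap.polar_neg_left, ← hJI, hfixB g3 (by simp)] at h1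
      exact (mul_eq_zero.1 (show (2 : F) * 𝔅 (up p) (mat Q j *ᵥ up g3) = 0 by
        linear_combination -h1)).resolve_left h2
    refine hs.stab_frame hR hjM hg10 hg30 hg1 hg2 hf2 hg3 hgg hgf e2 (hkill hneg1) (hkill hneg2)
      (hkill ?_)
    rw [hI]
    simp only [hP, hff, hgf, hself hf2, e2, ZeroMemClass.coe_zero, OneMemClass.coe_one]
    module
  have hjrat := hs.data.ratMat_of_inK hjK
  obtain ⟨ε, hεu, hε⟩ : ∃ ε : F, mat Q j *ᵥ u = ε • u ∧ (ε = 1 ∨ ε = -1) := by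
    obtain ⟨ε, hε⟩ := htfix (mat Q j *ᵥ u) (by
      rw [mulVec_mulVec, ← mat_mul, hmt, mat_mul, ← mulVec_mulVec, htu])
    refine ⟨ε, hε, mul_self_eq_one_iff.1 ?_⟩
    have h1 := hjmul u
    rw [hε, mulVec_smul, hε, smul_smul] at h1
    exact smul_left_injective F hu0 (h1.trans (one_smul F u).symm)
  have hpow : ∀ (a : F) x, mat Q t *ᵥ (mat Q i2 *ᵥ x) = a • x → mat Q j *ᵥ x = a ^ m • x := by
    intro a x hx
    rw [hj]
    clear hm1 hmt hmi hj hjj hjM hjmul hJI hjK hjrat hεu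
    induction m with
    | zero => rw [pow_zero, mat_one, one_mulVec, pow_zero, one_smul]
    | succ m ih =>
      rw [pow_succ, mat_mul, ← mulVec_mulVec, mat_mul, ← mulVec_mulVec, hx, mulVec_smul, ih,
        smul_smul, pow_succ']
  -- one side: `S = ± i2`, with `j = δ` on its fixed vectors orthogonal to `u`
  have side : ∀ (S : Matrix ι ι F), RatMat F₀ S → (∀ x, S *ᵥ (S *ᵥ x) = x) →
      (∀ x y, 𝔅 (S *ᵥ x) y = 𝔅 x (S *ᵥ y)) → (∀ x, mat Q j *ᵥ (S *ᵥ x) = S *ᵥ (mat Q j *ᵥ x)) →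
      ∀ δ : F, (δ = 1 ∨ δ = -1) → (∀ k, S *ᵥ k = k → 𝔅 u k = 0 → mat Q j *ᵥ k = δ • k) →
      ∀ p r : ι → F₀, Ind F₀ (φ p) (φ r) → S *ᵥ up p = up p → S *ᵥ up r = up r →
      ε = δ ∧ (δ = 1 → ∀ x, mat Q j *ᵥ (x + S *ᵥ x) = x + S *ᵥ x) := by
    intro S hSrat hSS hsym hjS δ hδ hK p r hpr hp hr
    have hfix : ∀ y, S *ᵥ (y + S *ᵥ y) = y + S *ᵥ y := fun y => by rw [mulVec_add, hSS, add_comm]
    have hju : mat Q j *ᵥ (u + S *ᵥ u) = ε • (u + S *ᵥ u) := by
      rw [mulVec_add, hjS, hεu, mulVec_smul, smul_add]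
    have heig : ∀ η : F, (η = 1 ∨ η = -1) → η ≠ δ → ∀ y, S *ᵥ y = y → mat Q j *ᵥ y = η • y →
        ∃ c : F, y = c • (u + S *ᵥ u) := fun η hη hne y hy hjy =>
      fixed_mem_span hs.data.nd h2 hSS hsym hy fun k hk huk => by
        have h1 := polar_mulVec Q j y k
        rw [hjy, hK k hk huk, QuadraticMap.polar_smul_left, QuadraticMap.polar_smul_right,
          smul_eq_mul, smul_eq_mul] at h1
        have h3 : η * δ = -1 := by
          rcases hη with rfl | rfl <;> rcases hδ with rfl | rfl <;> simp_all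
        exact (mul_eq_zero.1 (show (2 : F) * 𝔅 y k = 0 by
          linear_combination -h1 + 𝔅 y k * h3)).resolve_left h2
    have heq : ε = δ := by
      by_contra hne
      set A : Matrix ι ι F := (1 + ε • mat Q j) * (1 + S) with hA
      have hArat : RatMat F₀ A := by
        refine RatMat.mul (fun a b => ?_) fun a b => F₀.add_mem (MaxSub.ratMat_one F₀ a b) (hSrat a b)
        refine F₀.add_mem (MaxSub.ratMat_one F₀ a b) (F₀.mul_mem ?_ (hjrat a b))
        rcases hε with rfl | rfl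
        · exact F₀.one_mem
        · exact F₀.neg_mem F₀.one_mem
      have hAx : ∀ x, A *ᵥ x = (x + S *ᵥ x) + ε • (mat Q j *ᵥ (x + S *ᵥ x)) := fun x => by
        rw [hA, ← mulVec_mulVec, add_mulVec, add_mulVec, one_mulVec, one_mulVec, smul_mulVec]
      have hεε : ε * ε = 1 := by rcases hε with rfl | rfl <;> ring
      have hAfix : ∀ x, ∃ c : F, A *ᵥ x = c • (u + S *ᵥ u) := fun x => by
        refine heig ε hε hne _ ?_ ?_
        · rw [hAx, mulVec_add, hfix, mulVec_smul, ← hjS, hfix]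
        · rw [hAx, mulVec_add, mulVec_smul, hjmul]
          simp only [smul_add, smul_smul, hεε, one_smul]
          abel
      by_cases hzero : ∀ x : ι → F₀, A *ᵥ up x = 0
      · have h0 : ∀ y, A *ᵥ y = 0 := fun y => by
          have hy : y ∈ spanF (⊤ : Submodule F₀ (ι → F₀)) := by rw [spanF_top]; trivial
          rw [spanF] at hy
          induction hy using Submodule.span_induction with
          | mem a ha => obtain ⟨b, -, rfl⟩ := ha; exact hzero b
          | zero => rw [mulVec_zero]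
          | add a b _ _ ha hb => rw [mulVec_add, ha, hb, add_zero]
          | smul c a _ ha => rw [mulVec_smul, ha, smul_zero]
        have h1 := h0 u
        rw [hAx, hju, smul_smul, hεε, one_smul, ← two_smul F] at h1
        refine hpr.ne_zero ?_
        have h3 : 𝔅 (up p) (u + S *ᵥ u) = 2 * φ p := by
          rw [QuadraticMap.polar_add_right, ← hsym, hp]; simp only [hφ]; ring
        rw [(smul_eq_zero.1 h1).resolve_left h2, QuadraticMap.polar_zero_right] at h3
        exact (mul_eq_zero.1 h3.symm).resolve_left h2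
      push Not at hzero
      obtain ⟨x, hx⟩ := hzero
      obtain ⟨c, hc⟩ := hAfix (up x)
      have hc0 : c ≠ 0 := fun e => hx (by rw [hc, e, zero_smul])
      obtain ⟨w, hw⟩ := exists_up_mulVec hArat x
      rw [hc] at hw
      have hval : ∀ b : ι → F₀, S *ᵥ up b = up b → φ b * (2 * c) = ((𝔅₀ b w : F₀) : F) := by
        intro b hb
        rw [← hs.data.polar_up, hw, QuadraticMap.polar_smul_right, QuadraticMap.polar_add_right,
          ← hsym, hb, smul_eq_mul]
        simp only [hφ]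
        ring
      have hwp : ((𝔅₀ p w : F₀) : F) ≠ 0 := by
        rw [← hval p hp]; exact mul_ne_zero hpr.ne_zero (mul_ne_zero h2 hc0)
      refine hpr.not_ratio (𝔅₀ r w / 𝔅₀ p w) (mul_right_cancel₀ (mul_ne_zero h2 hc0) ?_)
      push_cast
      rw [hval r hr, mul_assoc, hval p hp, div_mul_cancel₀ _ hwp]
    refine ⟨heq, fun hδ1 x => ?_⟩
    set y := (x + S *ᵥ x) - mat Q j *ᵥ (x + S *ᵥ x) with hy
    obtain ⟨c, hc⟩ := heig (-1) (Or.inr rfl) (by
        rw [hδ1]; exact fun e => h2 (by linear_combination -e)) y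
      (by rw [hy, mulVec_sub, hfix, ← hjS, hfix])
      (by rw [hy, mulVec_sub, hjmul, neg_one_smul, neg_sub])
    have h1 : mat Q j *ᵥ y = -y := by rw [hy, mulVec_sub, hjmul, neg_sub]
    rw [hc, mulVec_smul, hju, heq, hδ1, one_smul, eq_neg_iff_add_eq_zero, ← two_smul F, smul_smul]
      at h1
    have h3 : y = 0 := by
      rw [hc]
      rcases smul_eq_zero.1 h1 with e | e
      · rw [(mul_eq_zero.1 e).resolve_left h2, zero_smul]
      · rw [e, smul_zero]
    rw [hy, sub_eq_zero] at h3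
    exact h3.symm
  obtain ⟨hB, hB1⟩ := side (mat Q i2) hi2K hII hsymI hJI ((-1) ^ m) (neg_one_pow_eq_or F m)
    (fun k hk huk => hpow (-1) k (by rw [hk, htperp k huk, neg_one_smul])) g3 z hind3
    (hfixB g3 (by simp)) (hfixB z (by simp))
  obtain ⟨hE, hE1⟩ := side (-mat Q i2) (fun a b => F₀.neg_mem (hi2K a b))
    (fun x => by rw [neg_mulVec, neg_mulVec, mulVec_neg, hII, neg_neg])
    (fun x y => by rw [neg_mulVec, neg_mulVec, QuadraticMap.polar_neg_left,
      QuadraticMap.polar_neg_right, hsymI])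
    (fun x => by rw [neg_mulVec, neg_mulVec, mulVec_neg, hJI]) 1 (Or.inl rfl)
    (fun k hk huk => by
      rw [hpow 1 k ?_, one_pow, one_smul]
      rw [neg_mulVec, neg_eq_iff_eq_neg] at hk
      rw [hk, mulVec_neg, htperp k huk, neg_neg, one_smul]) g1 g2 hind
    (by rw [neg_mulVec, hneg1, neg_neg]) (by rw [neg_mulVec, hneg2, neg_neg])
  refine hm1 (mat_ext Q (Matrix.ext_iff_mulVec.2 fun x => ?_))
  have h1 := hB1 (hB.symm.trans hE) x
  have h3 := hE1 rfl x
  rw [neg_mulVec, mulVec_add, mulVec_neg] at h3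
  rw [mulVec_add] at h1
  rw [mat_one, one_mulVec]
  refine smul_right_injective (ι → F) h2 ?_
  simp only [two_smul]
  linear_combination (norm := module) h1 + h3

/-- A rigid subgroup is rational up to scalars. -/
theorem inK_of_rigid {g : Isom Q} (hg : g ∈ M) : InK F₀ g := by
  obtain ⟨i0, v, e, hi0Ω, hi0K, hi00, hvq, hiv, hperp, he0, heq, hev⟩ := hs.data.exists_inv_six
  have hi0M : i0 ∈ M := hs.mem_of_rat hi0Ω hi0K
  have hqv : Q (up v) ≠ 0 := fun h => hvq (Subtype.ext (by rw [hs.data.quad]; exact h))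
  have hline : ∀ y ∈ M, ∃ (w : ι → F₀) (l : F), mat Q y *ᵥ up v = l • up w := fun y hy => by
    refine hs.exists_rat_line hR (t := y * i0 * y⁻¹) (mul_mem (mul_mem hy hi0M) (inv_mem hy)) ?_
      (by rw [quad_mulVec]; exact hqv) ?_ fun x hx => ?_
    · rw [show y * i0 * y⁻¹ * (y * i0 * y⁻¹) = y * (i0 * i0) * y⁻¹ by group, hi00]; group
    · rw [mat_mul, mat_mul, ← mulVec_mulVec, ← mulVec_mulVec, inv_mat_mulVec, hiv]
    · rw [← mat_inv_mulVec' y x, polar_mulVec] at hx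
      rw [mat_mul, mat_mul, ← mulVec_mulVec, ← mulVec_mulVec, hperp _ hx, mulVec_neg,
        mat_inv_mulVec']
  set k := eichIso Q (up e) (up v) (hs.data.quad_up_zero heq) (hs.data.polar_up_zero hev) with hk
  obtain ⟨w, l, hw⟩ := hline g hg
  obtain ⟨w', l', hw'⟩ := hline (g * k) (mul_mem hg ((hs.root_rat heq hev).iso _ _))
  have hkv : mat Q k *ᵥ up v = up v - (2 * Q (up v)) • up e := by
    rw [hk, mat_eichIso, eich_mulVec, hs.data.polar_up_zero hev, QuadraticMap.polar_self]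
    module
  have hgk : mat Q (g * k) *ᵥ up v = l • up w - (2 * Q (up v)) • (mat Q g *ᵥ up e) := by
    rw [mat_mul, ← mulVec_mulVec, hkv, mulVec_sub, mulVec_smul, hw]
  have h2 := hs.data.h2
  have e1 : l * l * (Q₀ w : F) = Q₀ v := by
    rw [hs.data.quad, hs.data.quad, ← quad_mulVec Q g (up v), hw, QuadraticMap.map_smul, smul_eq_mul]
  have hl : l ≠ 0 := fun h0 => hvq (Subtype.ext (by rw [← e1, h0]; simp))
  have hww : l * l' * (𝔅₀ w w' : F) = 2 * Q (up v) := by
    have h1 : 𝔅 (l • up w) (l' • up w') = 2 * Q (up v) := by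
      rw [← hw, ← hw', mat_mul, ← mulVec_mulVec, polar_mulVec, hkv, QuadraticMap.polar_sub_right,
        QuadraticMap.polar_smul_right, QuadraticMap.polar_comm (⇑Q) (up v) (up e),
        hs.data.polar_up_zero hev, smul_zero, sub_zero, QuadraticMap.polar_self, nsmul_eq_mul,
        Nat.cast_ofNat]
    rw [← h1, QuadraticMap.polar_smul_left, QuadraticMap.polar_smul_right, hs.data.polar_up,
      smul_eq_mul, smul_eq_mul]
    ring
  have hw0 : ((Q₀ w : F₀) : F) ≠ 0 := fun h0 => hvq (Subtype.ext (by rw [← e1, h0]; simp))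
  have hb0 : ((𝔅₀ w w' : F₀) : F) ≠ 0 := fun h0 => by
    rw [h0, mul_zero] at hww
    exact mul_ne_zero h2 hqv hww.symm
  obtain ⟨b, hb⟩ : ∃ b : F₀, l' = (b : F) * l := by
    refine ⟨2 * Q₀ w / 𝔅₀ w w', ?_⟩
    rw [← hs.data.quad, ← e1] at hww
    push_cast
    rw [show ((2 : F₀) : F) = 2 from map_ofNat F₀.subtype 2, div_mul_eq_mul_div, eq_div_iff hb0]
    exact mul_left_cancel₀ hl (by linear_combination hww)
  have h20 := hs.data.h2₀
  set x := (2 * Q₀ v)⁻¹ • (w - b • w')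
  have hge : mat Q g *ᵥ up e = l • up x := by
    have h1 := hgk.symm.trans hw'
    have h3 : (2 * Q (up v)) • (mat Q g *ᵥ up e) = (l : F) • up (w - b • w') := by
      rw [up_sub, up_smul, smul_sub, smul_smul, mul_comm l, ← hb, ← h1, sub_sub_cancel]
    rw [show l • up x = (2 * Q (up v))⁻¹ • (l • up (w - b • w')) by
      rw [up_smul, smul_comm, ← hs.data.quad]
      push_cast
      rw [show ((2 : F₀) : F) = 2 from map_ofNat F₀.subtype 2], ← h3,
      inv_smul_smul₀ (mul_ne_zero h2 hqv)]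
  have hx0 : x ≠ 0 := fun h0 => he0 (up_eq_zero.1 (by
    rw [← inv_mat_mulVec g (up e), hge, h0, up_zero, smul_zero, mulVec_zero]))
  refine hs.stab_line hR hg he0 heq hx0 (Subtype.ext ?_) hge
  have h1 := quad_mulVec Q g (up e)
  rw [hge, QuadraticMap.map_smul, hs.data.quad_up_zero heq, smul_eq_mul] at h1
  rw [hs.data.quad]
  exact (mul_eq_zero.1 h1).resolve_left (mul_ne_zero hl hl)

end SSetting

end CfsgLib.OrthSubfield
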