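import Cfsg.Agent.OrthSubfield.Involution
import Cfsg.Agent.OmegaOrbits.Basic

/-!
# A rigid subgroup is rational up to scalars, second half

The stabilisers of anisotropic rational subspaces are handled from dimension two downwards; the
zero subspace gives the whole subgroup.
-/

set_option autoImplicit false
set_option linter.unusedSectionVars false

namespace CfsgLib.OrthSubfield

open Matrix Module CfsgLib.Spinor CfsgLib.Forms CfsgLib.Forms4 CfsgLib.MaxSub CfsgLib.OrthMax
  CfsgLib.OmegaOrbits Cfsg.Geo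

variable {F : Type*} [Field F] [Fintype F] {ι : Type} [Fintype ι] [DecidableEq ι] {F₀ : Subfield F}
  [Fintype F₀] {Q : QuadraticForm F (ι → F)} {Q₀ : QuadraticForm F₀ (ι → F₀)}
  {M : Subgroup (Isom Q)}

set_option quotPrecheck false in
local notation "𝔅" => QuadraticMap.polar (⇑Q)

set_option quotPrecheck false in
local notation "𝔅₀" => QuadraticMap.polar (⇑Q₀)

namespace Data

variable (h : Data F₀ Q Q₀)
include h

/-- A nontrivial element of `Ω` does not move into an anisotropic rational point only. -/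
theorem not_rng_le_singleton {k : Isom Q} (hk : k ∈ Cfsg.Omega F ⇑Q) (hk1 : k ≠ 1) {a : ι → F₀}
    (ha : Q₀ a ≠ 0) : ¬ rng k ≤ Submodule.span F {up a} := by
  intro hle
  have hqa : Q (up a) ≠ 0 := fun e => ha (Subtype.ext (by rw [h.quad]; exact e))
  have hdich : ∀ x, mat Q k *ᵥ x = x ∨ mat Q k *ᵥ x = refl Q (up a) x := by
    intro x
    obtain ⟨c, hc⟩ := Submodule.mem_span_singleton.1 (hle (sub_mem_rng k x))
    have e1 : mat Q k *ᵥ x = x + c • up a := by rw [hc, add_sub_cancel]
    have e2 := quad_mulVec Q k x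
    rw [e1, QuadraticMap.map_add (⇑Q), QuadraticMap.map_smul, QuadraticMap.polar_smul_right,
      QuadraticMap.polar_comm (⇑Q) x, smul_eq_mul, smul_eq_mul] at e2
    have e3 : c * (c * Q (up a) + 𝔅 (up a) x) = 0 := by linear_combination e2
    rcases mul_eq_zero.1 e3 with h0 | h0
    · exact Or.inl (by rw [e1, h0, zero_smul, add_zero])
    · refine Or.inr ?_
      have e4 : c = -((Q (up a))⁻¹ * 𝔅 (up a) x) := by
        field_simp
        linear_combination h0
      rw [e1, refl_apply, e4, neg_smul, sub_eq_add_neg]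
  obtain ⟨x, hx⟩ : ∃ x, mat Q k *ᵥ x ≠ x := by
    by_contra! hall
    exact hk1 (mat_ext Q (Matrix.ext_iff_mulVec.2 fun x => by rw [hall, mat_one, one_mulVec]))
  have hxr := (hdich x).resolve_left hx
  have heq : k = reflIso Q (up a) hqa := mat_ext Q (Matrix.ext_iff_mulVec.2 fun y => by
    rw [mat_reflIso, reflectionMatrix_mulVec]
    rcases hdich y with hy | hy
    · by_contra hy'
      rcases hdich (x + y) with hs | hs
      · rw [mulVec_add, hy] at hs
        exact hx (add_right_cancel hs)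
      · rw [mulVec_add, map_add, hxr, add_right_inj] at hs
        exact hy' hs
    · exact hy)
  rw [heq, mem_omega_iff_even h.nd (Or.inr (by have := h.card; omega))
    (IsReflProd.reflIso (up a) hqa)] at hk
  simp at hk

/-- The two involutions in characteristic two: an Eichler element and four commuting transvections. -/
theorem exists_pair_inv_two (hn10 : 10 ≤ Fintype.card ι) {D : Submodule F₀ (ι → F₀)} (ha : Anis Q₀ D) (h2 : (2 : F) = 0) :
    ∃ (i i2 : Isom Q) (e : ι → F₀),
      i ∈ Cfsg.Omega F ⇑Q ∧ i2 ∈ Cfsg.Omega F ⇑Q ∧ RatMat F₀ (mat Q i) ∧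
      RatMat F₀ (mat Q i2) ∧ i * i = 1 ∧ i2 * i2 = 1 ∧ Fixes D i ∧ Fixes D i2 ∧
      e ≠ 0 ∧ Q₀ e = 0 ∧ up e ∈ rng i ∧ finrank F (rng i) ≤ 4 ∧
      finrank F (rng i) + finrank F (rng i2) ≤ 6 ∧
      finrank F (rng i) ≠ finrank F (rng i2) ∧ i2 ≠ 1 := by
  haveI : CharP F 2 := CharTwo.of_one_ne_zero_of_two_eq_zero one_ne_zero h2
  have h20 : (2 : F₀) = 0 := Subtype.ext h2
  haveI : CharP F₀ 2 := CharTwo.of_one_ne_zero_of_two_eq_zero one_ne_zero h20
  have hQ : ∀ {u : ι → F₀}, Q₀ u = 0 → Q (up u) = 0 := h.quad_up_zero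
  have hP : ∀ {u v : ι → F₀}, 𝔅₀ u v = 0 → 𝔅 (up u) (up v) = 0 := h.polar_up_zero
  have hself : ∀ u : ι → F₀, 𝔅₀ u u = 0 := fun u => by
    rw [QuadraticMap.polar_self, nsmul_eq_mul, Nat.cast_ofNat, h20, zero_mul]
  have hD : finrank F₀ D ≤ 2 := ha.finrank_le h
  have hn := h.card
  -- three orthogonal singular points and a nonsingular one, orthogonal to `D`
  have hsup : ∀ (s : Set (ι → F₀)) (n : ℕ), finrank F₀ (Submodule.span F₀ s) ≤ n →
      finrank F₀ (D ⊔ Submodule.span F₀ s : Submodule F₀ (ι → F₀)) ≤ finrank F₀ D + n := fun s n h1 =>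
    (Submodule.finrank_add_le_finrank_add_finrank _ _).trans (by omega)
  obtain ⟨e, heK, heD, heq⟩ := h.exists_sing_outside₃ (by omega) (S := D) (by omega)
  have he0 : e ≠ 0 := fun h0 => heD (h0 ▸ D.zero_mem)
  obtain ⟨e2, he2K, he2S, he2q⟩ := h.exists_sing_outside₃ (by omega) (S := D ⊔ Submodule.span F₀ {e})
    ((hsup {e} 1 (by rw [finrank_span_singleton he0])).trans (by omega))
  obtain ⟨e3, he3K, he3S, he3q⟩ := h.exists_sing_outside' (S := D ⊔ Submodule.span F₀ {e, e2}) (by
    have hle := hsup {e, e2} 2 (finrank_span_two_le e e2)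
    by_cases hD2 : finrank F₀ D = 2
    · -- an anisotropic plane is nondegenerate
      obtain ⟨x, hx, y, hy, hxy⟩ : ∃ x ∈ D, ∃ y ∈ D, 𝔅₀ x y ≠ 0 := by
        by_contra! hall
        obtain ⟨x, hx, hx0⟩ := (Submodule.ne_bot_iff D).1 fun hb => by rw [hb, finrank_bot] at hD2; omega
        obtain ⟨y, hy, hyx⟩ : ∃ y ∈ D, y ∉ Submodule.span F₀ {x} := by
          by_contra! hle'
          have h1 := Submodule.finrank_mono (hle' : D ≤ _)
          rw [finrank_span_singleton hx0] at h1
          omega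
        have hqx : Q₀ x ≠ 0 := fun hq => hx0 (ha x hx hq)
        obtain ⟨c, hc⟩ := FiniteField.isSquare_of_char_two (ringChar.eq F₀ 2) (Q₀ y / Q₀ x)
        have h3 : Q₀ (c • x + y) = 0 := by
          rw [QuadraticMap.map_add (⇑Q₀), QuadraticMap.map_smul, QuadraticMap.polar_smul_left,
            hall x hx y hy, smul_zero, add_zero, ← hc, smul_eq_mul, div_mul_cancel₀ _ hqx,
            CharTwo.add_self_eq_zero]
        have h4 := ha _ (D.add_mem (D.smul_mem _ hx) hy) h3
        refine hyx (Submodule.mem_span_singleton.2 ⟨-c, ?_⟩)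
        rw [neg_smul, eq_neg_of_add_eq_zero_right h4]
      exact h.radical_small₄ hn10 (S := D ⊔ Submodule.span F₀ {e, e2}) (by omega) (x := x) (y := y)
        (Submodule.mem_sup_left hx) (Submodule.mem_sup_left hy) hxy
    · have h1 := Submodule.finrank_mono
        (inf_le_right : qperp Q₀ (D ⊔ Submodule.span F₀ {e, e2}) ⊓ (D ⊔ Submodule.span F₀ {e, e2}) ≤ _)
      omega)
  set S := D ⊔ Submodule.span F₀ ({e, e2, e3} : Set (ι → F₀)) with hS
  obtain ⟨v, hvK, hvq⟩ : ∃ v ∈ qperp Q₀ S, Q₀ v ≠ 0 := by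
    by_contra! hall
    have h1 := two_finrank_le h.nd₀ hall
    have h2' := h.le_finrank_qperp S
    have h3 := hsup {e, e2, e3} 3 (finrank_span_three_le e e2 e3)
    rw [← hS] at h3
    have hle : qperp Q₀ S ≤ qperp Q₀ (qperp Q₀ S) := fun x hx =>
      mem_qperp.2 fun w hw => OrthMax.polar_eq_zero hall hw hx
    rw [qperp_qperp h.nd₀] at hle
    have heq' : qperp Q₀ S = S := Submodule.eq_of_le_of_finrank_le hle (by omega)
    obtain ⟨x, hx, hx0⟩ := (Submodule.ne_bot_iff D).1 fun hb => by rw [hb, finrank_bot] at h3; omega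
    exact hx0 (ha x hx (hall x (heq'.symm ▸ Submodule.mem_sup_left hx)))
  have hSmem : ∀ x ∈ ({e, e2, e3} : Set (ι → F₀)), x ∈ S := fun x hx =>
    Submodule.mem_sup_right (Submodule.subset_span hx)
  have h12 : 𝔅₀ e e2 = 0 :=
    mem_qperp.1 he2K e (Submodule.mem_sup_right (Submodule.subset_span (by simp)))
  have h13 : 𝔅₀ e e3 = 0 :=
    mem_qperp.1 he3K e (Submodule.mem_sup_right (Submodule.subset_span (by simp)))
  have h23 : 𝔅₀ e2 e3 = 0 :=
    mem_qperp.1 he3K e2 (Submodule.mem_sup_right (Submodule.subset_span (by simp)))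
  have hev : 𝔅₀ e v = 0 := mem_qperp.1 hvK e (hSmem e (by simp))
  have h2v : 𝔅₀ e2 v = 0 := mem_qperp.1 hvK e2 (hSmem e2 (by simp))
  have h3v : 𝔅₀ e3 v = 0 := mem_qperp.1 hvK e3 (hSmem e3 (by simp))
  have hDv : ∀ d ∈ D, 𝔅₀ d v = 0 := fun d hd => mem_qperp.1 hvK d (Submodule.mem_sup_left hd)
  have hDe : ∀ d ∈ D, 𝔅₀ d e = 0 := fun d hd => mem_qperp.1 heK d hd
  have hDe2 : ∀ d ∈ D, 𝔅₀ d e2 = 0 := fun d hd => mem_qperp.1 he2K d (Submodule.mem_sup_left hd)
  have hDe3 : ∀ d ∈ D, 𝔅₀ d e3 = 0 := fun d hd => mem_qperp.1 he3K d (Submodule.mem_sup_left hd)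
  have sw : ∀ {p r : ι → F₀}, 𝔅₀ p r = 0 → 𝔅₀ r p = 0 := fun {p r} hpr => by
    rw [QuadraticMap.polar_comm, hpr]
  -- the four transvection centres
  set z : Fin 4 → ι → F₀ := ![v, v + e, v + e2, v + e3] with hz
  have hzq : ∀ k, Q₀ (z k) = Q₀ v := by
    intro k
    fin_cases k <;> simp [hz, QuadraticMap.map_add (⇑Q₀), heq, he2q, he3q, sw hev, sw h2v, sw h3v]
  have hzz : ∀ k l, 𝔅₀ (z k) (z l) = 0 := by
    intro k l
    rcases eq_or_ne k l with rfl | hne
    · exact hself _
    fin_cases k <;> fin_cases l <;> (try exact absurd rfl hne) <;>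
      simp [hz, QuadraticMap.polar_add_left, QuadraticMap.polar_add_right, hself v, hself e, hself e2, hself e3,
        hev, h2v, h3v, sw hev, sw h2v, sw h3v, h12, h13, h23, sw h12, sw h13, sw h23]
  have hzD : ∀ k, ∀ d ∈ D, 𝔅₀ (z k) d = 0 := by
    intro k d hd
    refine sw ?_
    fin_cases k <;> simp [hz, QuadraticMap.polar_add_right, hDv d hd, hDe d hd, hDe2 d hd, hDe3 d hd]
  have hqv : Q (up v) ≠ 0 := fun e' => hvq (Subtype.ext (by rw [h.quad]; exact e'))
  have hzn : ∀ k, Q (up (z k)) ≠ 0 := fun k => by rw [← h.quad, hzq, h.quad]; exact hqv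
  set i := eichIso Q (up e) (up e2) (hQ heq) (hP h12) with hi
  set i2 := reflIso Q _ (hzn 0) * reflIso Q _ (hzn 1) * reflIso Q _ (hzn 2) * reflIso Q _ (hzn 3) with hi2
  set c : F := (Q (up v))⁻¹ with hc
  have hI : ∀ x, mat Q i *ᵥ x = x + (𝔅 (up e) x • up e2 - 𝔅 (up e2) x • up e) := fun x => by
    rw [hi, mat_eichIso, eich_mulVec, hQ he2q]; simp
  have hzinv : ∀ k, (Q (up (z k)))⁻¹ = c := fun k => by rw [hc, ← h.quad, hzq, h.quad]
  have hI2 : ∀ x, mat Q i2 *ᵥ x = x + ((c * 𝔅 (up (z 0)) x) • up (z 0) + (c * 𝔅 (up (z 1)) x) • up (z 1) +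
      (c * 𝔅 (up (z 2)) x) • up (z 2) + (c * 𝔅 (up (z 3)) x) • up (z 3)) := fun x => by
    rw [hi2, mat_mul, mat_mul, mat_mul, ← mulVec_mulVec, ← mulVec_mulVec, ← mulVec_mulVec]
    simp only [mat_reflIso, reflectionMatrix_mulVec, refl_apply, hzinv, QuadraticMap.polar_sub_right,
      QuadraticMap.polar_smul_right, hP (hzz _ _), smul_zero, sub_zero]
    match_scalars <;> simp [CharTwo.neg_eq]
  have hmem : ∀ (s : Set (ι → F₀)) {u : ι → F₀}, u ∈ s → ∀ t : F,
      t • up u ∈ spanF (Submodule.span F₀ s) := fun s u hu t =>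
    Submodule.smul_mem _ _ (up_mem_spanF (Submodule.subset_span hu))
  have hr1 : finrank F (rng i) ≤ 2 := by
    refine (Submodule.finrank_mono (rng_le (W := spanF (Submodule.span F₀ {e, e2})) fun x => ?_)
      ).trans ((finrank_spanF _).trans_le (finrank_span_two_le e e2))
    rw [hI, add_sub_cancel_left]
    exact Submodule.sub_mem _ (hmem _ (by simp) _) (hmem _ (by simp) _)
  have hr2 : finrank F (rng i2) ≤ 4 := by
    refine (Submodule.finrank_mono
      (rng_le (W := spanF (Submodule.span F₀ {z 0, z 1, z 2, z 3})) fun x => ?_)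
      ).trans ((finrank_spanF _).trans_le (finrank_span_four_le (z 0) (z 1) (z 2) (z 3)))
    rw [hI2, add_sub_cancel_left]
    exact Submodule.add_mem _ (Submodule.add_mem _ (Submodule.add_mem _ (hmem _ (by simp) _) (hmem _ (by simp) _))
      (hmem _ (by simp) _)) (hmem _ (by simp) _)
  -- vectors pairing with one of `v, e, e2, e3` only
  have n2 : e2 ∉ Submodule.span F₀ {e} := fun hm => he2S (Submodule.mem_sup_right hm)
  have n3 : e3 ∉ Submodule.span F₀ ({e, e2} : Set (ι → F₀)) := fun hm =>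
    he3S (Submodule.mem_sup_right hm)
  have hsing : ∀ x ∈ Submodule.span F₀ ({e, e2, e3} : Set (ι → F₀)), Q₀ x = 0 := by
    intro x hx
    obtain ⟨p, r, t, rfl⟩ := Submodule.mem_span_triple.1 hx
    simp [QuadraticMap.map_add (⇑Q₀), QuadraticMap.map_smul, QuadraticMap.polar_add_left,
      QuadraticMap.polar_smul_left, QuadraticMap.polar_smul_right, heq, he2q, he3q, h12, h13, h23]
  have nv : v ∉ Submodule.span F₀ ({e, e2, e3} : Set (ι → F₀)) := fun hm => hvq (hsing v hm)
  have hfour : 4 ≤ finrank F₀ (Submodule.span F₀ ({v, e, e2, e3} : Set (ι → F₀))) := by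
    have h3 := three_le_finrank he0 n2 n3
    have hlt : Submodule.span F₀ ({e, e2, e3} : Set (ι → F₀)) < Submodule.span F₀ {v, e, e2, e3} :=
      lt_of_le_of_ne (Submodule.span_mono (by simp [Set.insert_subset_iff])) fun h0 =>
        nv (h0 ▸ Submodule.subset_span (by simp))
    have := Submodule.finrank_lt_finrank_of_lt hlt
    omega
  have hout : ∀ p r s t : ι → F₀, ({v, e, e2, e3} : Set (ι → F₀)) ⊆ {p, r, s, t} →
      p ∉ Submodule.span F₀ ({r, s, t} : Set (ι → F₀)) := by
    intro p r s t hsub hm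
    have hle : Submodule.span F₀ ({v, e, e2, e3} : Set (ι → F₀)) ≤
        Submodule.span F₀ {r, s, t} :=
      (Submodule.span_mono (R := F₀) hsub).trans (Submodule.span_le.2 (by
        rw [Set.insert_subset_iff]
        exact ⟨hm, Submodule.subset_span⟩))
    have h1 := Submodule.finrank_mono hle
    have h3 := finrank_span_three_le (F₀ := F₀) r s t
    omega
  have hdual : ∀ p r s t : ι → F₀, ({v, e, e2, e3} : Set (ι → F₀)) ⊆ {p, r, s, t} →
      ∃ w, 𝔅₀ p w = 1 ∧ 𝔅₀ r w = 0 ∧ 𝔅₀ s w = 0 ∧ 𝔅₀ t w = 0 := by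
    intro p r s t hsub
    obtain ⟨w, hwK, -, hw⟩ := h.exists_sing_pair₃ (by omega) (S := Submodule.span F₀ {r, s, t})
      (finrank_span_three_le r s t) (hout p r s t hsub)
    rw [mem_qperp_span] at hwK
    exact ⟨w, by rw [QuadraticMap.polar_comm, hw], hwK r (by simp), hwK s (by simp), hwK t (by simp)⟩
  have h1up : ∀ {p w : ι → F₀}, 𝔅₀ p w = 1 → 𝔅 (up p) (up w) = 1 := fun {p w} e' => by
    rw [h.polar_up, e']; rfl
  obtain ⟨w1, a1, b1, c1, d1⟩ := hdual e2 v e e3 (by simp [Set.insert_subset_iff])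
  have mi : up e ∈ rng i := mem_rng.2 ⟨-up w1, by
    rw [hI, add_sub_cancel_left]
    simp [QuadraticMap.polar_neg_right, hP c1, h1up a1]⟩
  have hcol : ∀ p r s t : ι → F₀, ({v, e, e2, e3} : Set (ι → F₀)) ⊆ {p, r, s, t} →
      ∃ w : ι → F₀, 𝔅 (up p) (up w) = 1 ∧ 𝔅 (up r) (up w) = 0 ∧ 𝔅 (up s) (up w) = 0 ∧ 𝔅 (up t) (up w) = 0 := by
    intro p r s t hsub
    obtain ⟨w, a, b, c', d⟩ := hdual p r s t hsub
    exact ⟨w, h1up a, hP b, hP c', hP d⟩
  obtain ⟨u1, A1, B1, C1, D1⟩ := hcol e v e2 e3 (by simp [Set.insert_subset_iff])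
  obtain ⟨u2, A2, B2, C2, D2⟩ := hcol e2 v e e3 (by simp [Set.insert_subset_iff])
  obtain ⟨u3, A3, B3, C3, D3⟩ := hcol e3 v e e2 (by simp [Set.insert_subset_iff])
  have hc0 : c ≠ 0 := inv_ne_zero hqv
  have mk : ∀ (u : ι → F₀) (t : ι → F),
      (𝔅 (up (z 0)) (up u)) • up (z 0) + (𝔅 (up (z 1)) (up u)) • up (z 1) +
        (𝔅 (up (z 2)) (up u)) • up (z 2) + (𝔅 (up (z 3)) (up u)) • up (z 3) = t → t ∈ rng i2 := by
    intro u t ht
    refine mem_rng.2 ⟨c⁻¹ • up u, ?_⟩
    rw [hI2, add_sub_cancel_left, ← ht]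
    simp only [QuadraticMap.polar_smul_right, smul_eq_mul, mul_inv_cancel_left₀ hc0]
  have z0 : z 0 = v := rfl
  have z1 : z 1 = v + e := rfl
  have z2 : z 2 = v + e2 := rfl
  have z3 : z 3 = v + e3 := rfl
  have m1 : up (z 1) ∈ rng i2 := mk u1 _ (by
    simp [z0, z1, z2, z3, up_add, QuadraticMap.polar_add_left, A1, B1, C1, D1])
  have m2 : up (z 2) ∈ rng i2 := mk u2 _ (by
    simp [z0, z1, z2, z3, up_add, QuadraticMap.polar_add_left, A2, B2, C2, D2])
  have m3 : up (z 3) ∈ rng i2 := mk u3 _ (by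
    simp [z0, z1, z2, z3, up_add, QuadraticMap.polar_add_left, A3, B3, C3, D3])
  have hr2' : 3 ≤ finrank F (rng i2) := by
    have k2 : v + e2 ∉ Submodule.span F₀ {v + e} := by
      intro hm
      obtain ⟨t, ht⟩ := Submodule.mem_span_singleton.1 hm
      refine hout e2 v e e3 (by simp [Set.insert_subset_iff]) ?_
      rw [show e2 = t • (v + e) - v by rw [ht, add_sub_cancel_left]]
      exact Submodule.sub_mem _ (Submodule.smul_mem _ _ (Submodule.add_mem _ (Submodule.subset_span (by simp))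
        (Submodule.subset_span (by simp)))) (Submodule.subset_span (by simp))
    have k3 : v + e3 ∉ Submodule.span F₀ ({v + e, v + e2} : Set (ι → F₀)) := by
      intro hm
      obtain ⟨p, r, hpr⟩ := Submodule.mem_span_pair.1 hm
      refine hout e3 v e e2 (by simp [Set.insert_subset_iff]) ?_
      rw [show e3 = p • (v + e) + r • (v + e2) - v by rw [hpr, add_sub_cancel_left]]
      exact Submodule.sub_mem _ (Submodule.add_mem _
        (Submodule.smul_mem _ _ (Submodule.add_mem _ (Submodule.subset_span (by simp))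
          (Submodule.subset_span (by simp))))
        (Submodule.smul_mem _ _ (Submodule.add_mem _ (Submodule.subset_span (by simp))
          (Submodule.subset_span (by simp))))) (Submodule.subset_span (by simp))
    have k1 : v + e ≠ 0 := fun h0 => k2 (by
      exfalso; exact hout e v e2 e3 (by simp [Set.insert_subset_iff])
        (by rw [eq_neg_of_add_eq_zero_right h0]; exact Submodule.neg_mem _ (Submodule.subset_span (by simp))))
    refine ((three_le_finrank k1 k2 k3).trans_eq (finrank_spanF _).symm).trans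
      (Submodule.finrank_mono ((spanF_span_le _).trans (Submodule.span_le.2 ?_)))
    rw [z1] at m1
    rw [z2] at m2
    rw [z3] at m3
    simp only [Set.image_insert_eq, Set.image_singleton, Set.insert_subset_iff, Set.singleton_subset_iff,
      SetLike.mem_coe]
    exact ⟨m1, m2, m3⟩
  have hsq : i * i = 1 := mat_ext Q (by
    rw [hi, mat_mul, mat_eichIso, eich_mul (hQ heq) (hP h12) (hP h12),
      show up e2 + up e2 = 0 by rw [← two_smul F (up e2), h2, zero_smul], eich_zero, mat_one])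
  have hsq2 : i2 * i2 = 1 := mat_ext Q (Matrix.ext_iff_mulVec.2 fun x => by
    rw [mat_mul, ← mulVec_mulVec, hI2, hI2, mat_one, one_mulVec]
    simp only [QuadraticMap.polar_add_right, QuadraticMap.polar_smul_right, hP (hzz _ _), smul_zero, add_zero]
    rw [add_assoc, ← two_smul F (_ + _), h2, zero_smul, add_zero])
  have hfi : Fixes D i := fun d hd => by
    rw [hI, hP (sw (hDe d hd)), hP (sw (hDe2 d hd))]; simp
  have hfi2 : Fixes D i2 := fun d hd => by
    rw [hI2]; simp [hP (hzD _ d hd)]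
  have hrat : RatMat F₀ (mat Q i) := h.ratMat_eich e e2
  have hrefl : ∀ {w : ι → F₀} (hw : Q (up w) ≠ 0), RatMat F₀ (mat Q (reflIso Q (up w) hw)) :=
    fun {w} hw => ratMat_of_up fun u => ⟨u - ((Q₀ w)⁻¹ * 𝔅₀ w u) • w, by
      rw [mat_reflIso, reflectionMatrix_mulVec, refl_apply, up_sub, up_smul, ← h.quad, h.polar_up]
      push_cast
      rfl⟩
  have hexc : Nat.card F ≠ 2 ∨ Fintype.card ι ≠ 4 := Or.inr (by omega)
  refine ⟨i, i2, e, eich_mem_omega h.nd (by omega) _ _, ?_, hrat,
    (((hrefl (hzn 0)).mul (hrefl (hzn 1))).mul (hrefl (hzn 2))).mul (hrefl (hzn 3)), hsq, hsq2, hfi, hfi2,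
    he0, heq, mi, by omega, by omega, by omega, fun h0 => ?_⟩
  · exact (mem_omega_iff_even h.nd hexc (((IsReflProd.reflIso _ (hzn 0)).mul
      (IsReflProd.reflIso _ (hzn 1))).mul (IsReflProd.reflIso _ (hzn 2)) |>.mul
      (IsReflProd.reflIso _ (hzn 3)))).2 ⟨by simp +decide,
        FiniteField.isSquare_of_char_two (ringChar.eq F 2) _⟩
  · have hbot : rng i2 ≤ ⊥ := rng_le fun x => by rw [h0, mat_one, one_mulVec, sub_self]; simp
    have := Submodule.finrank_mono hbot
    rw [finrank_bot] at this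
    omega

/-- Two rational involutions of `Ω` fixing `D` pointwise, not conjugate, moving little, the first
moving some point onto a rational singular point. -/
theorem exists_pair_inv (hn10 : 10 ≤ Fintype.card ι) {D : Submodule F₀ (ι → F₀)} (ha : Anis Q₀ D) :
    ∃ (i i2 : Isom Q) (e : ι → F₀),
      i ∈ Cfsg.Omega F ⇑Q ∧ i2 ∈ Cfsg.Omega F ⇑Q ∧ RatMat F₀ (mat Q i) ∧
      RatMat F₀ (mat Q i2) ∧ i * i = 1 ∧ i2 * i2 = 1 ∧ Fixes D i ∧ Fixes D i2 ∧
      e ≠ 0 ∧ Q₀ e = 0 ∧ up e ∈ rng i ∧ finrank F (rng i) ≤ 4 ∧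
      finrank F (rng i) + finrank F (rng i2) ≤ 6 ∧
      finrank F (rng i) ≠ finrank F (rng i2) ∧ i2 ≠ 1 := by
  have hQ : ∀ {u : ι → F₀}, Q₀ u = 0 → Q (up u) = 0 := h.quad_up_zero
  have hP : ∀ {u v : ι → F₀}, 𝔅₀ u v = 0 → 𝔅 (up u) (up v) = 0 := h.polar_up_zero
  have hfix : ∀ {u d : ι → F₀}, d ∈ D → u ∈ qperp Q₀ D → 𝔅 (up u) (up d) = 0 := by
    intro u d hd hu
    exact hP (by rw [QuadraticMap.polar_comm]; exact mem_qperp.1 hu d hd)
  have hpair : ∀ {u v : ι → F₀}, 𝔅₀ u v = 1 →
      𝔅 (up u) (up v) = 1 ∧ 𝔅 (up v) (up u) = 1 := by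
    intro u v e
    have h1 : 𝔅 (up u) (up v) = 1 := by rw [h.polar_up, e]; rfl
    exact ⟨h1, by rw [QuadraticMap.polar_comm, h1]⟩
  have hself : ∀ {u : ι → F₀}, Q₀ u = 0 → 𝔅 (up u) (up u) = 0 := fun hu => by
    rw [QuadraticMap.polar_self, hQ hu, smul_zero]
  have hD : finrank F₀ D ≤ 2 := ha.finrank_le h
  have hD3 : finrank F₀ D ≤ 3 := by omega
  obtain ⟨e, heK, heD, heq⟩ := h.exists_sing_outside₃ (by omega) hD3
  have he0 : e ≠ 0 := fun h0 => heD (h0 ▸ D.zero_mem)
  by_cases h2 : (2 : F) = 0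
  · exact h.exists_pair_inv_two hn10 ha h2
  · have h2' : (2 : F) ≠ 0 := h2
    obtain ⟨f, hfK, hfq, hfe⟩ := h.exists_sing_pair₃ (by omega) hD3 heD
    have hS := h.radical_small₄ hn10 (S := D ⊔ Submodule.span F₀ {e, f})
      ((Submodule.finrank_add_le_finrank_add_finrank _ _).trans
        ((Nat.add_le_add hD (finrank_span_two_le e f)).trans (by norm_num))) (x := f) (y := e)
      (Submodule.mem_sup_right (Submodule.subset_span (by simp)))
      (Submodule.mem_sup_right (Submodule.subset_span (by simp))) (by rw [hfe]; exact one_ne_zero)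
    obtain ⟨e', he'K, he'S, he'q⟩ := h.exists_sing_outside' hS
    obtain ⟨f', hf'K, hf'q, hf'e⟩ := h.exists_sing_pair' hS he'S
    obtain ⟨fe, ef⟩ := hpair hfe
    obtain ⟨fe', ef'⟩ := hpair hf'e
    have hmemS : e ∈ D ⊔ Submodule.span F₀ {e, f} ∧ f ∈ D ⊔ Submodule.span F₀ {e, f} :=
      ⟨Submodule.mem_sup_right (Submodule.subset_span (by simp)),
        Submodule.mem_sup_right (Submodule.subset_span (by simp))⟩
    have ee' := hP (mem_qperp.1 he'K e hmemS.1)
    have fe2 := hP (mem_qperp.1 he'K f hmemS.2)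
    have ef2 := hP (mem_qperp.1 hf'K e hmemS.1)
    have ff' := hP (mem_qperp.1 hf'K f hmemS.2)
    have e'e : 𝔅 (up e') (up e) = 0 := by rw [QuadraticMap.polar_comm, ee']
    have e'f : 𝔅 (up e') (up f) = 0 := by rw [QuadraticMap.polar_comm, fe2]
    have f'e : 𝔅 (up f') (up e) = 0 := by rw [QuadraticMap.polar_comm, ef2]
    have f'f : 𝔅 (up f') (up f) = 0 := by rw [QuadraticMap.polar_comm, ff']
    have hDe' : ∀ {d}, d ∈ D → 𝔅 (up e') (up d) = 0 := fun {d} hd => by
      rw [QuadraticMap.polar_comm]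
      exact hP (mem_qperp.1 he'K d (Submodule.mem_sup_left hd))
    have hDf' : ∀ {d}, d ∈ D → 𝔅 (up f') (up d) = 0 := fun {d} hd => by
      rw [QuadraticMap.polar_comm]
      exact hP (mem_qperp.1 hf'K d (Submodule.mem_sup_left hd))
    have qa : Q (up (e + f)) = 1 := by
      rw [up_add, QuadraticMap.map_add (⇑Q), hQ heq, hQ hfq, ef]; simp
    have qb : Q (up (e - f)) = -1 := by
      rw [up_sub, sub_eq_add_neg, QuadraticMap.map_add (⇑Q), QuadraticMap.map_neg, hQ heq, hQ hfq,
        QuadraticMap.polar_neg_right, ef]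
      simp
    have qc : Q (up (e' + f')) = 1 := by
      rw [up_add, QuadraticMap.map_add (⇑Q), hQ he'q, hQ hf'q, ef']; simp
    have qd : Q (up (e' - f')) = -1 := by
      rw [up_sub, sub_eq_add_neg, QuadraticMap.map_add (⇑Q), QuadraticMap.map_neg, hQ he'q,
        hQ hf'q, QuadraticMap.polar_neg_right, ef']
      simp
    have qa' : Q (up e + up f) = 1 := by rw [← up_add, qa]
    have qb' : Q (up e - up f) = -1 := by rw [← up_sub, qb]
    have qc' : Q (up e' + up f') = 1 := by rw [← up_add, qc]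
    have qd' : Q (up e' - up f') = -1 := by rw [← up_sub, qd]
    have na : Q (up (e + f)) ≠ 0 := by rw [qa]; exact one_ne_zero
    have nb : Q (up (e - f)) ≠ 0 := by rw [qb]; exact neg_ne_zero.2 one_ne_zero
    have nc : Q (up (e' + f')) ≠ 0 := by rw [qc]; exact one_ne_zero
    have nd' : Q (up (e' - f')) ≠ 0 := by rw [qd]; exact neg_ne_zero.2 one_ne_zero
    set ra := reflIso Q _ na with hra
    set rb := reflIso Q _ nb with hrb
    set rc := reflIso Q _ nc with hrc
    set rd := reflIso Q _ nd' with hrd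
    set i := ra * rb * rc * rd with hi
    set i2 := ra * rc with hi2
    have hI : ∀ x, mat Q i *ᵥ x = x - (2 * 𝔅 (up f) x) • up e - (2 * 𝔅 (up e) x) • up f -
        (2 * 𝔅 (up f') x) • up e' - (2 * 𝔅 (up e') x) • up f' := fun x => by
      rw [hi, mat_mul, mat_mul, mat_mul, ← mulVec_mulVec, ← mulVec_mulVec, ← mulVec_mulVec, hra,
        hrb, hrc, hrd]
      simp only [mat_reflIso, reflectionMatrix_mulVec, refl_apply, qa', qb', qc', qd', up_add, up_sub,
        QuadraticMap.polar_sub_right, QuadraticMap.polar_smul_right, QuadraticMap.polar_add_right,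
        QuadraticMap.polar_add_left, QuadraticMap.polar_sub_left, hself heq, hself hfq,
        hself he'q, hself hf'q, ee', fe2, ef2, ff', e'e, e'f, f'e, f'f, fe, ef, fe', ef',
        inv_one, inv_neg, smul_eq_mul]
      module
    have hI2 : ∀ x, mat Q i2 *ᵥ x = x - 𝔅 (up e + up f) x • (up e + up f) -
        𝔅 (up e' + up f') x • (up e' + up f') := fun x => by
      rw [hi2, mat_mul, ← mulVec_mulVec, hra, hrc]
      simp only [mat_reflIso, reflectionMatrix_mulVec, refl_apply, qa', qc', up_add,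
        QuadraticMap.polar_sub_right, QuadraticMap.polar_smul_right, QuadraticMap.polar_add_right,
        QuadraticMap.polar_add_left, ee', fe2, ef2, ff', inv_one, smul_eq_mul]
      module
    have hrefl : ∀ {v : ι → F₀} (hv : Q (up v) ≠ 0), RatMat F₀ (mat Q (reflIso Q (up v) hv)) :=
      fun {v} hv => ratMat_of_up fun u => ⟨u - ((Q₀ v)⁻¹ * 𝔅₀ v u) • v, by
        rw [mat_reflIso, reflectionMatrix_mulVec, refl_apply, up_sub, up_smul, ← h.quad,
          h.polar_up]
        push_cast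
        rfl⟩
    have hmem : ∀ (s : Set (ι → F₀)) {u : ι → F₀}, u ∈ s → ∀ c : F,
        c • up u ∈ spanF (Submodule.span F₀ s) := fun s u hu c =>
      Submodule.smul_mem _ _ (up_mem_spanF (Submodule.subset_span hu))
    have hr1 : finrank F (rng i) ≤ 4 := by
      refine (Submodule.finrank_mono
        (rng_le (W := spanF (Submodule.span F₀ {e, f, e', f'})) fun x => ?_)
        ).trans ((finrank_spanF _).trans_le (finrank_span_four_le e f e' f'))
      rw [hI, show ∀ a b c d : ι → F, x - a - b - c - d - x = -a + -b + -c + -d from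
        fun a b c d => by abel]
      refine Submodule.add_mem _ (Submodule.add_mem _ (Submodule.add_mem _ ?_ ?_) ?_) ?_ <;>
        exact Submodule.neg_mem _ (hmem _ (by simp) _)
    have hr2 : finrank F (rng i2) ≤ 2 := by
      refine (Submodule.finrank_mono
        (rng_le (W := spanF (Submodule.span F₀ {e + f, e' + f'})) fun x => ?_)
        ).trans ((finrank_spanF _).trans_le (finrank_span_two_le (e + f) (e' + f')))
      rw [hI2, show ∀ a b : ι → F, x - a - b - x = -a + -b from fun a b => by abel, ← up_add,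
        ← up_add]
      exact Submodule.add_mem _ (Submodule.neg_mem _ (hmem _ (by simp) _))
        (Submodule.neg_mem _ (hmem _ (by simp) _))
    have m1 : up e ∈ rng i := mem_rng.2 ⟨(-2 : F)⁻¹ • up e, by
      rw [hI]
      simp only [QuadraticMap.polar_smul_right, hself heq, e'e, f'e, fe, smul_eq_mul]
      match_scalars <;> field_simp <;> ring⟩
    have m2 : up f ∈ rng i := mem_rng.2 ⟨(-2 : F)⁻¹ • up f, by
      rw [hI]
      simp only [QuadraticMap.polar_smul_right, hself hfq, e'f, f'f, ef, smul_eq_mul]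
      match_scalars <;> field_simp <;> ring⟩
    have m3 : up e' ∈ rng i := mem_rng.2 ⟨(-2 : F)⁻¹ • up e', by
      rw [hI]
      simp only [QuadraticMap.polar_smul_right, hself he'q, ee', fe2, fe', smul_eq_mul]
      match_scalars <;> field_simp <;> ring⟩
    have hr1' : 3 ≤ finrank F (rng i) := by
      have n2 : f ∉ Submodule.span F₀ {e} := fun hm => by
        obtain ⟨c, hc⟩ := Submodule.mem_span_singleton.1 hm
        rw [← hc, QuadraticMap.polar_smul_left, QuadraticMap.polar_self, heq, smul_zero,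
          smul_zero] at hfe
        exact zero_ne_one hfe
      refine ((three_le_finrank he0 n2 fun hm => he'S (Submodule.mem_sup_right hm)).trans_eq
        (finrank_spanF _).symm).trans
        (Submodule.finrank_mono ((spanF_span_le _).trans (Submodule.span_le.2 ?_)))
      simp [Set.image_insert_eq, Set.insert_subset_iff, m1, m2, m3]
    have hi_sq : i * i = 1 := mat_ext Q (Matrix.ext_iff_mulVec.2 fun x => by
      rw [mat_mul, ← mulVec_mulVec, hI, hI, mat_one, one_mulVec]
      simp only [QuadraticMap.polar_sub_right, QuadraticMap.polar_smul_right, hself heq, hself hfq,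
        hself he'q, hself hf'q, ee', fe2, ef2, ff', e'e, e'f, f'e, f'f, fe, ef, fe', ef',
        smul_eq_mul]
      module)
    have hi2_sq : i2 * i2 = 1 := mat_ext Q (Matrix.ext_iff_mulVec.2 fun x => by
      rw [mat_mul, ← mulVec_mulVec, hI2, hI2, mat_one, one_mulVec]
      simp only [QuadraticMap.polar_add_left, QuadraticMap.polar_add_right,
        QuadraticMap.polar_sub_right, QuadraticMap.polar_smul_right, hself heq, hself hfq,
        hself he'q, hself hf'q, ee', fe2, ef2, ff', e'e, e'f, f'e, f'f, fe, ef, fe', ef',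
        smul_eq_mul]
      module)
    have hfi : Fixes D i := fun d hd => by
      rw [hI, hfix hd heK, hfix hd hfK, hDe' hd, hDf' hd]; simp
    have hfi2 : Fixes D i2 := fun d hd => by
      rw [hI2, QuadraticMap.polar_add_left, QuadraticMap.polar_add_left, hfix hd heK,
        hfix hd hfK, hDe' hd, hDf' hd]
      simp
    have hexc : Nat.card F ≠ 2 ∨ Fintype.card ι ≠ 4 := Or.inr (by have := h.card; omega)
    refine ⟨i, i2, e, ?_, ?_, (((hrefl na).mul (hrefl nb)).mul (hrefl nc)).mul (hrefl nd'),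
      (hrefl na).mul (hrefl nc), hi_sq, hi2_sq, hfi, hfi2, he0, heq, m1, hr1, by omega, by omega,
      ?_⟩
    · refine (mem_omega_iff_even h.nd hexc (((IsReflProd.reflIso _ na).mul
        (IsReflProd.reflIso _ nb)).mul (IsReflProd.reflIso _ nc) |>.mul
        (IsReflProd.reflIso _ nd'))).2 ⟨by simp +decide, ?_⟩
      simp [qa, qb, qc, qd]
    · refine (mem_omega_iff_even h.nd hexc ((IsReflProd.reflIso _ na).mul
        (IsReflProd.reflIso _ nc))).2 ⟨by simp +decide, ?_⟩
      simp [qa, qc]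
    · intro h0
      have h1 := hI2 (up e)
      rw [h0, mat_one, one_mulVec, QuadraticMap.polar_add_left, QuadraticMap.polar_add_left,
        hself heq, e'e, f'e, fe] at h1
      have h2 := congrArg (QuadraticMap.polar (⇑Q) (up e)) h1
      simp [QuadraticMap.polar_sub_right, QuadraticMap.polar_add_right, hself heq, ef] at h2

end Data

namespace Setting

variable (hs : Setting M Q₀) (hR : Rigid Q₀ M)
include hs hR

/-- An element stabilising the image of a commuting rational element with small image. -/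
theorem sep (hn10 : 10 ≤ Fintype.card ι) {D : Submodule F₀ (ι → F₀)} (hD : finrank F₀ D ≤ 2) (hbig : Big Q₀ M D)
    {k y : Isom Q} (hk : k ∈ Cfsg.Omega F ⇑Q) (hK : RatMat F₀ (mat Q k)) (hk1 : k ≠ 1)
    (hr : finrank F (rng k) ≤ 6) (hkD : Fixes D k) (hy : y ∈ M) (hyD : Fixes D y)
    (hc : y * k = k * y) : InK F₀ y := by
  obtain ⟨R, hR'⟩ := exists_spanF_range hK.sub_one
  change spanF R = rng k at hR'
  have hyR : ∀ x ∈ rng k, mat Q y *ᵥ x ∈ rng k := fun x hx => by
    obtain ⟨z, rfl⟩ := mem_rng.1 hx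
    rw [mulVec_sub, mulVec_mulVec, ← mat_mul, hc, mat_mul, ← mulVec_mulVec]
    exact sub_mem_rng k _
  set S := D ⊔ R with hS
  have hyS : ∀ x ∈ spanF S, mat Q y *ᵥ x ∈ spanF S := fun x hx => by
    rw [hS, ← spanF_sup] at hx ⊢
    obtain ⟨d, hd, r, hr, rfl⟩ := Submodule.mem_sup.1 hx
    rw [mulVec_add, hyD.spanF hd]
    exact Submodule.add_mem_sup hd (hR' ▸ hyR r (hR' ▸ hr))
  have hRdim : finrank F₀ R ≤ 6 := by rw [← finrank_spanF R, hR']; exact hr
  have hSdim : finrank F₀ S ≤ 8 :=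
    (Submodule.finrank_add_le_finrank_add_finrank _ _).trans (by omega)
  by_cases hSa : Anis Q₀ S
  swap
  · have hcard := hs.data.card
    by_cases hRa : Anis Q₀ R
    · unfold Anis at hSa
      push Not at hSa
      obtain ⟨s, hsS, hsq, hs0⟩ := hSa
      have h2R := hRa.finrank_le hs.data
      exact hs.mem_of_image hR hy hs0 hsq (D := S) (by
        have : finrank F₀ S ≤ 4 := (Submodule.finrank_add_le_finrank_add_finrank _ _).trans (by omega)
        omega) (hyS _ (up_mem_spanF hsS))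
    by_cases hR5 : finrank F₀ R + 5 ≤ Fintype.card ι
    · unfold Anis at hRa
      push Not at hRa
      obtain ⟨s, hsR, hsq, hs0⟩ := hRa
      exact hs.mem_of_image hR hy hs0 hsq (D := R) hR5 (hR' ▸ hyR _ (hR' ▸ up_mem_spanF hsR))
    -- otherwise the fixed space of `k` is small and isotropic
    have hU := hs.data.le_finrank_qperp R
    obtain ⟨s, hsU, hs0, hsq⟩ := exists_singular hs.data.nd₀ (qperp Q₀ R) (by omega)
    refine hs.mem_of_image hR hy hs0 hsq (D := qperp Q₀ R) (by omega) ?_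
    refine hs.data.mem_spanF_of_perp fun u hu => ?_
    rw [qperp_qperp hs.data.nd₀] at hu
    have hu' : up u ∈ rng k := hR' ▸ up_mem_spanF hu
    have hinj : Function.Injective (Matrix.mulVecLin (mat Q y)) := fun p r hpr => by
      rw [← inv_mat_mulVec y p, ← inv_mat_mulVec y r]
      exact congrArg _ hpr
    have hmap : (rng k).map (Matrix.mulVecLin (mat Q y)) = rng k :=
      Submodule.eq_of_le_of_finrank_eq (by rintro _ ⟨p, hp, rfl⟩; exact hyR p hp)
        (Submodule.equivMapOfInjective _ hinj _).finrank_eq.symm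
    rw [← hmap] at hu'
    obtain ⟨p, hp, hpu⟩ := hu'
    rw [← hpu, mulVecLin_apply, polar_mulVec]
    rw [← hR', spanF] at hp
    clear hpu
    induction hp using Submodule.span_induction with
    | mem r hr => obtain ⟨t, ht, rfl⟩ := hr; exact hs.data.polar_up_zero (mem_qperp.1 hsU t ht)
    | zero => simp
    | add p r _ _ hp hr => rw [QuadraticMap.polar_add_left, hp, hr, add_zero]
    | smul t p _ hp => rw [QuadraticMap.polar_smul_left, hp, smul_zero]
  by_cases hlt : finrank F₀ D < finrank F₀ S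
  · exact hbig S hSa hlt y hy hyS
  exfalso
  have hRD : R ≤ D := by
    rw [Submodule.eq_of_le_of_finrank_le (le_sup_left : D ≤ S) (not_lt.1 hlt)]
    exact le_sup_right
  have hpolar : ∀ r ∈ R, ∀ r' ∈ R, 𝔅₀ r r' = 0 := by
    intro r hr r' hr'
    obtain ⟨x, hx⟩ := mem_rng.1 (hR' ▸ up_mem_spanF hr' : up r' ∈ rng k)
    refine Subtype.ext ?_
    rw [← hs.data.polar_up, ← hx, QuadraticMap.polar_sub_right]
    nth_rw 1 [← hkD r (hRD hr)]
    rw [polar_mulVec, sub_self]
    rfl
  obtain ⟨a, haR, ha0⟩ : ∃ a ∈ R, a ≠ 0 := by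
    by_contra! hall
    refine hk1 (mat_ext Q (Matrix.ext_iff_mulVec.2 fun x => ?_))
    have h1 : rng k ≤ ⊥ := hR' ▸ spanF_le fun u hu => by rw [hall u hu, up_zero]; simp
    rw [mat_one, one_mulVec]
    exact sub_eq_zero.1 ((Submodule.mem_bot F).1 (h1 (sub_mem_rng k x)))
  have haS : a ∈ S := Submodule.mem_sup_right haR
  have hqa : Q₀ a ≠ 0 := fun h => ha0 (hSa a haS h)
  by_cases hRa : R ≤ Submodule.span F₀ {a}
  · refine hs.data.not_rng_le_singleton hk hk1 hqa ?_
    rw [← hR']
    exact (spanF_le fun u hu => up_mem_spanF (hRa hu)).trans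
      ((spanF_span_le _).trans (by rw [Set.image_singleton]))
  obtain ⟨b, hbR, hba⟩ := SetLike.not_le_iff_exists.1 hRa
  have h2 : (2 : F₀) = 0 := by
    have h1 := hpolar a haR a haR
    rw [QuadraticMap.polar_self, nsmul_eq_mul, Nat.cast_ofNat] at h1
    exact (mul_eq_zero.1 h1).resolve_right hqa
  haveI : CharP F₀ 2 := CharTwo.of_one_ne_zero_of_two_eq_zero one_ne_zero h2
  obtain ⟨c, hc'⟩ := FiniteField.isSquare_of_char_two (ringChar.eq F₀ 2) (Q₀ b / Q₀ a)
  refine hba (Submodule.mem_span_singleton.2 ⟨-c, ?_⟩)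
  have h3 : Q₀ (c • a + b) = 0 := by
    rw [QuadraticMap.map_add (⇑Q₀), QuadraticMap.map_smul, QuadraticMap.polar_smul_left,
      hpolar a haR b hbR, smul_zero, add_zero, ← hc', smul_eq_mul, div_mul_cancel₀ _ hqa,
      CharTwo.add_self_eq_zero]
  have h4 := hSa _ (S.add_mem (S.smul_mem _ haS) (Submodule.mem_sup_right hbR)) h3
  rw [neg_smul, eq_neg_of_add_eq_zero_right h4]

/-- The centraliser step. -/
theorem step (hn10 : 10 ≤ Fintype.card ι) {D : Submodule F₀ (ι → F₀)} (ha : Anis Q₀ D) (hbig : Big Q₀ M D)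
    {g : Isom Q} (hg : g ∈ M) (hgD : Fixes D g) : InK F₀ g := by
  obtain ⟨i, i2, e, hiΩ, hi2Ω, hiK, hi2K, hii, hi2i2, hiD, hi2D, he0, heq, hei, hr1, hr, hne,
    hi21⟩ := hs.data.exists_pair_inv hn10 ha
  have hD := ha.finrank_le hs.data
  have hcard := hs.data.card
  have hiM := hs.mem_of_rat hiΩ hiK
  have hi2M := hs.mem_of_rat hi2Ω hi2K
  set t := g * i * g⁻¹ with ht
  have htM : t ∈ M := mul_mem (mul_mem hg hiM) (inv_mem hg)
  have htD : Fixes D t := (hgD.mul hiD).mul hgD.inv
  have htt : t * t = 1 := by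
    rw [ht, show g * i * g⁻¹ * (g * i * g⁻¹) = g * (i * i) * g⁻¹ by group, hii]; group
  have htr : finrank F (rng t) ≤ finrank F (rng i) := finrank_rng_conj g i
  obtain ⟨m, hm1, hmt, hmi⟩ := exists_central_of_not_conj htt hi2i2
    (fun x hx => hne (finrank_rng_eq (hx.trans ht)).symm)
  set j := (t * i2) ^ m with hj
  have hjM : j ∈ M := pow_mem (mul_mem htM hi2M) m
  have hjD : Fixes D j := (htD.mul hi2D).pow m
  have hjr : finrank F (rng j) ≤ 6 := by
    have h1 := Submodule.finrank_mono ((rng_pow_le (t * i2) m).trans (rng_mul_le t i2))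
    have h2 := Submodule.finrank_add_le_finrank_add_finrank (rng t) (rng i2)
    rw [hj]
    omega
  have hjK := hs.sep hR hn10 hD hbig hi2Ω hi2K hi21 (by omega) hi2D hjM hjD hmi.symm
  have hjrat : RatMat F₀ (mat Q j) := by
    have hjj : j * j = 1 := by
      have e1 : t * j * t = j⁻¹ := by
        rw [hj, ← inv_pow]
        have e2 : SemiconjBy t (t * i2) (t * i2)⁻¹ := by
          show t * (t * i2) = (t * i2)⁻¹ * t
          rw [_root_.mul_inv_rev, inv_eq_of_mul_eq_one_right htt, inv_eq_of_mul_eq_one_right hi2i2,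
            ← mul_assoc, htt, one_mul, mul_assoc, htt, mul_one]
        rw [(e2.pow_right m).eq, mul_assoc, htt, mul_one]
      rw [hj, hmt, mul_assoc, htt, mul_one, ← hj] at e1
      nth_rw 2 [e1]
      exact mul_inv_cancel j
    refine hs.data.ratMat_of_invol hn10 (hs.le_omega hjM) hjj hjK hjr fun h6 => ?_
    have hle : rng j ≤ rng t ⊔ rng i2 := hj ▸ (rng_pow_le (t * i2) m).trans (rng_mul_le t i2)
    have h1 := Submodule.finrank_add_le_finrank_add_finrank (rng t) (rng i2)
    have heq' := Submodule.eq_of_le_of_finrank_le hle (by omega)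
    obtain ⟨R2, hR2⟩ := exists_spanF_range hi2K.sub_one
    change spanF R2 = rng i2 at hR2
    obtain ⟨v, hv, hv0⟩ : ∃ v ∈ R2, v ≠ 0 := by
      by_contra! hall
      refine hi21 (mat_ext Q (Matrix.ext_iff_mulVec.2 fun x => ?_))
      have h1 : rng i2 ≤ ⊥ := hR2 ▸ spanF_le fun u hu => by rw [hall u hu, up_zero]; simp
      rw [mat_one, one_mulVec]
      exact sub_eq_zero.1 ((Submodule.mem_bot F).1 (h1 (sub_mem_rng i2 x)))
    refine ⟨v, hv0, mulVec_rng_eq_neg hjj ?_⟩
    rw [heq']
    exact Submodule.mem_sup_right (hR2 ▸ up_mem_spanF hv)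
  have htK := hs.sep hR hn10 hD hbig (hs.le_omega hjM) hjrat hm1 hjr hjD htM htD hmt
  have htrat := ratMat_of_small htK (by omega)
  obtain ⟨R, hR'⟩ := exists_spanF_range htrat.sub_one
  change spanF R = rng t at hR'
  refine hs.mem_of_image hR hg he0 heq (D := R) ?_ ?_
  · rw [← finrank_spanF R, hR']; omega
  · rw [hR']
    obtain ⟨x, hx⟩ := mem_rng.1 hei
    refine mem_rng.2 ⟨mat Q g *ᵥ x, ?_⟩
    rw [ht, mat_mul, mat_mul, ← mulVec_mulVec, ← mulVec_mulVec, inv_mat_mulVec, ← mulVec_sub, hx]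

/-- Stabilisers of anisotropic rational subspaces. -/
theorem stab (hn10 : 10 ≤ Fintype.card ι) : ∀ (n : ℕ) (D : Submodule F₀ (ι → F₀)), Anis Q₀ D → 2 - finrank F₀ D ≤ n →
    ∀ y ∈ M, (∀ x ∈ spanF D, mat Q y *ᵥ x ∈ spanF D) → InK F₀ y := by
  intro n
  induction n using Nat.strong_induction_on with
  | _ n ih =>
    intro D hDa hn y hy hyD
    have hD := hDa.finrank_le hs.data
    have hcard := hs.data.card
    have hbig : Big Q₀ M D := fun D' ha hlt => by
      have := ha.finrank_le hs.data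
      exact ih (2 - finrank F₀ D') (by omega) D' ha le_rfl
    obtain ⟨a, haK, b, hbK, ha, hb, hab, ha0, hba⟩ := hs.data.exists_plane
      (K := qperp Q₀ D) (by rw [hs.data.le_finrank_qperp]; omega)
    set x := eichIso Q (up a) (up b) (hs.data.quad_up_zero ha) (hs.data.polar_up_zero hab) with hx
    have hxM : x ∈ M := (hs.root_rat ha hab).iso _ _
    have hxD : Fixes D x := fun u hu => by
      have h1 : 𝔅 (up a) (up u) = 0 :=
        hs.data.polar_up_zero (by rw [QuadraticMap.polar_comm]; exact mem_qperp.1 haK u hu)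
      have h2 : 𝔅 (up b) (up u) = 0 :=
        hs.data.polar_up_zero (by rw [QuadraticMap.polar_comm]; exact mem_qperp.1 hbK u hu)
      rw [hx, mat_eichIso, eich_mulVec, h1, h2]
      simp
    have hsurj : ∀ z ∈ spanF D, mat Q y⁻¹ *ᵥ z ∈ spanF D := by
      intro z hz
      have hinj : Function.Injective (Matrix.mulVecLin (mat Q y)) := fun p r hpr => by
        rw [← inv_mat_mulVec y p, ← inv_mat_mulVec y r]
        exact congrArg _ hpr
      have heq : (spanF D).map (Matrix.mulVecLin (mat Q y)) = spanF D :=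
        Submodule.eq_of_le_of_finrank_eq (by rintro _ ⟨p, hp, rfl⟩; exact hyD p hp)
          (Submodule.equivMapOfInjective _ hinj _).finrank_eq.symm
      rw [← heq] at hz
      obtain ⟨p, hp, rfl⟩ := hz
      rw [mulVecLin_apply, inv_mat_mulVec]
      exact hp
    have hzD : Fixes D (y * x * y⁻¹) := fun u hu => by
      rw [mat_mul, mat_mul, ← mulVec_mulVec, ← mulVec_mulVec,
        hxD.spanF (hsurj _ (up_mem_spanF hu)), mat_inv_mulVec']
    exact hs.root_move hR hy ha0 ha hb hab hba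
      (hs.step hR hn10 hDa hbig (mul_mem (mul_mem hy hxM) (inv_mem hy)) hzD)

/-- Every element of a rigid subgroup is rational up to a scalar. -/
theorem inK_of_rigid (hn10 : 10 ≤ Fintype.card ι) {g : Isom Q} (hg : g ∈ M) : InK F₀ g :=
  hs.stab hR hn10 2 ⊥ (fun d hd _ => (Submodule.mem_bot F₀).1 hd) (by omega) g hg (fun x hx => by
    have hbot : spanF (⊥ : Submodule F₀ (ι → F₀)) = ⊥ :=
      le_bot_iff.1 (spanF_le fun u hu => by
        rw [(Submodule.mem_bot F₀).1 hu, up_zero]; exact Submodule.zero_mem _)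
    rw [hbot, Submodule.mem_bot] at hx ⊢
    rw [hx, mulVec_zero])

end Setting

end CfsgLib.OrthSubfield
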